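import Groth.Agent.CExt24.GMapMod
import Groth.Agent.QCoh.RpushAbGod
import Groth.Agent.QCoh.Bound

/-!
# The edge map `H^p(Y, f_* G) → H^p(X, G)`
-/

set_option autoImplicit false
set_option backward.isDefEq.respectTransparency false
set_option backward.isDefEq.respectTransparency.types false
set_option linter.style.haveILetI false
set_option maxHeartbeats 1000000

universe u

open CategoryTheory CategoryTheory.Limits AlgebraicGeometry TopologicalSpace Opposite Abelian

noncomputable section

namespace Groth.Agent.CExt24

variable {X Y : Scheme.{u}}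

/-- The edge map is the map along the identity of `f_* G`. -/
theorem pushEdge_eq_pm (f : X ⟶ Y) (G : X.Modules) (p : ℕ)
    (x : Coh.HH Y ((Scheme.Modules.pushforward f).obj G) p) :
    CohPull.pushEdge f G p x = pmMod f (𝟙 ((Scheme.Modules.pushforward f).obj G)) p x := by
  show CohPull.mapH _ p (CohPull.pullMod f _ p x) = _
  rw [pullMod_eq_pm, mapH_pmMod]
  exact congrArg (fun β => pmMod f β p x)
    ((Scheme.Modules.pullbackPushforwardAdjunction f).right_triangle_components G)

variable (f : X ⟶ Y)

/-- A flasque module is acyclic. -/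
theorem subsingleton_HH_of_flasque (M : X.Modules) (hM : QCoh.IsFlasqueMod M) (p : ℕ) :
    Subsingleton (Coh.HH X M (p + 1)) :=
  haveI := hM
  SiteBase.subsingleton_H_of_isFlasque (X := X.toPresheafedSpace.carrier) (QCoh.abSheaf M) p

/-- The direct image of a flasque module is flasque. -/
theorem isFlasqueMod_push (M : X.Modules) (hM : QCoh.IsFlasqueMod M) :
    QCoh.IsFlasqueMod ((Scheme.Modules.pushforward f).obj M) where
  epi i := hM.epi ((Opens.map f.base).op.map i)

variable [HasInjectiveResolutions X.Modules]

/-- The edge map is bijective when the higher direct images vanish. -/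
theorem bijective_pushEdge (G : X.Modules)
    (hG : ∀ q : ℕ, 0 < q → IsZero ((Coh.Rpush f q).obj G)) (p : ℕ) :
    Function.Bijective (CohPull.pushEdge f G p) := by
  haveI := SpObjSS.enoughInjectives_of_hasInjectiveResolutions (C := X.Modules)
  haveI := QCoh.preservesFiniteLimits_push f
  suffices h : Function.Bijective (pmMod f (𝟙 ((Scheme.Modules.pushforward f).obj G)) p) by
    have e : (CohPull.pushEdge f G p : _ → _) = pmMod f (𝟙 ((Scheme.Modules.pushforward f).obj G)) p :=
      funext (pushEdge_eq_pm f G p)
    rw [e]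
    exact h
  induction p generalizing G with
  | zero =>
    constructor
    · intro a b e
      have e' := congrArg (Sheaf.H.equiv₀ (Coh.toAb G) isTerminalTop) e
      rw [equiv₀_pmMod, equiv₀_pmMod] at e'
      exact (Sheaf.H.equiv₀ (Coh.toAb ((Scheme.Modules.pushforward f).obj G)) isTerminalTop).injective e'
    · intro b
      refine ⟨(Sheaf.H.equiv₀ (Coh.toAb ((Scheme.Modules.pushforward f).obj G)) isTerminalTop).symm
        (Sheaf.H.equiv₀ (Coh.toAb G) isTerminalTop b), ?_⟩
      apply (Sheaf.H.equiv₀ (Coh.toAb G) isTerminalTop).injective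
      rw [equiv₀_pmMod, AddEquiv.apply_symm_apply]
      rfl
  | succ p ih =>
    let S := ShortComplex.mk (Injective.ι G) (cokernel.π (Injective.ι G)) (cokernel.condition _)
    have hS : S.ShortExact := { exact := ShortComplex.exact_of_g_is_cokernel _ (cokernelIsCokernel _) }
    haveI : Injective S.X₂ := inferInstanceAs (Injective (Injective.under G))
    have hI : ∀ q : ℕ, 0 < q → IsZero ((Coh.Rpush f q).obj S.X₂) := fun q hq => by
      obtain ⟨q, rfl⟩ := Nat.exists_eq_add_one.2 hq
      exact (Scheme.Modules.pushforward f).isZero_rightDerived_obj_injective_succ q _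
    have hQ : ∀ q : ℕ, 0 < q → IsZero ((Coh.Rpush f q).obj S.X₃) := fun q hq => by
      obtain ⟨q, rfl⟩ := Nat.exists_eq_add_one.2 hq
      obtain ⟨e⟩ := QCoh.nonempty_shift_iso (Scheme.Modules.pushforward f) hS q (hI _ (by lia))
        (hI _ (by lia))
      exact (hG (q + 2) (by lia)).of_iso e
    have hfS : (S.map (Scheme.Modules.pushforward f)).ShortExact := by
      haveI := hS.mono_f
      haveI : Mono (S.map (Scheme.Modules.pushforward f)).f :=
        inferInstanceAs (Mono ((Scheme.Modules.pushforward f).map S.f))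
      haveI : Epi (S.map (Scheme.Modules.pushforward f)).g := by
        obtain ⟨e⟩ := QCoh.nonempty_R1_iso (Scheme.Modules.pushforward f) hS (hI 1 one_pos)
        exact Preadditive.epi_of_isZero_cokernel _ ((hG 1 one_pos).of_iso e.symm)
      exact { exact := hS.exact.map_of_mono_of_preservesKernel _ hS.mono_f inferInstance }
    have hflI : QCoh.IsFlasqueMod S.X₂ := QCoh.isFlasqueMod_of_injective _
    have key : ∀ y : Coh.HH Y ((Scheme.Modules.pushforward f).obj S.X₃) p,
        pmMod f (𝟙 ((Scheme.Modules.pushforward f).obj G)) (p + 1) (deltaMod hfS p y) =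
          deltaMod hS p (pmMod f (𝟙 ((Scheme.Modules.pushforward f).obj S.X₃)) p y) := fun y =>
      pmMod_delta f hfS hS (𝟙 _) (𝟙 _) (𝟙 _) ((Category.comp_id _).trans (Category.id_comp _).symm)
        ((Category.comp_id _).trans (Category.id_comp _).symm) p y
    constructor
    · refine (injective_iff_map_eq_zero _).2 fun x hx => ?_
      obtain ⟨y, rfl⟩ := exists_deltaMod_eq hfS p x
        ((subsingleton_HH_of_flasque _ (isFlasqueMod_push f _ hflI) p).elim _ _)
      obtain ⟨w, hw⟩ := exists_mapH_eq hS p _ ((key y).symm.trans hx)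
      obtain ⟨w', rfl⟩ := (ih S.X₂ hI).2 w
      have hy : CohPull.mapH (S.map (Scheme.Modules.pushforward f)).g p w' = y := by
        apply (ih S.X₃ hQ).1
        refine Eq.trans ?_ hw
        rw [mapH_pmMod]
        refine (pmMod_mapH f _ _ p w').trans ?_
        exact congrArg (fun β => pmMod f β p w')
          ((Category.comp_id _).trans (Category.id_comp _).symm)
      rw [← hy]
      exact deltaMod_mapH hfS p w'
    · intro x
      obtain ⟨z, rfl⟩ := exists_deltaMod_eq hS p x
        ((subsingleton_HH_of_flasque _ hflI p).elim _ _)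
      obtain ⟨y, hy⟩ := (ih S.X₃ hQ).2 z
      exact ⟨deltaMod hfS p y, (key y).trans (congrArg _ hy)⟩

/-- An affine morphism has no higher direct images of quasi-coherent modules. -/
theorem isZero_Rpush_of_affine [IsAffineHom f] (M : X.Modules) (hM : Coh.IsQCoh M) (q : ℕ) :
    IsZero ((Coh.Rpush f (q + 1)).obj M) := by
  obtain ⟨e⟩ := QCoh.nonempty_RpushAb_iso f M q
  obtain ⟨e'⟩ := QCoh.nonempty_Rpush_iso f M q
  have h := ((QCoh.RpushAb_isZero_of_isAffineHom f hM q).of_iso e.symm).of_iso
    ((QCoh.toAbFunctor Y).mapIso e')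
  rw [IsZero.iff_id_eq_zero] at h ⊢
  haveI : (QCoh.toAbFunctor Y).Faithful :=
    inferInstanceAs (SheafOfModules.toSheaf Y.ringCatSheaf).Faithful
  exact (QCoh.toAbFunctor Y).map_injective
    (((QCoh.toAbFunctor Y).map_id _).trans (h.trans ((QCoh.toAbFunctor Y).map_zero _ _).symm))

end Groth.Agent.CExt24
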