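import Groth.Agent.CExt24.BCTheory
import Groth.Agent.QCoh.FlatExchange
import Groth.Agent.QCoh.RpushProper
import Groth.Agent.ModDescent24.Main
import Groth.Agent.ConsPropLib.CoreProper
import Groth.Agent.FlatLimHx.Flat
import Groth.Agent.ModStLib.FibGrpd
import Groth.Agent.QCoh.RpushModel

/-!
# Finite free Čech models exist for proper flat families
-/

set_option autoImplicit false
set_option linter.style.haveILetI false
set_option backward.isDefEq.respectTransparency false
set_option backward.isDefEq.respectTransparency.types false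
set_option maxHeartbeats 1000000

universe u

open CategoryTheory CategoryTheory.Limits AlgebraicGeometry TopologicalSpace Opposite

noncomputable section

namespace Groth.Agent.CExt24

open Groth.Agent.QCoh (overSpec)

/-- Over a noetherian ring. -/
theorem exists_model_of_noetherian {A : Type u} [CommRing A] [IsNoetherianRing A] {X : Scheme.{u}}
    (pA : X ⟶ Spec (CommRingCat.of A)) [IsProper pA] {F : X.Modules} (hF : Coh.IsCoh F)
    (hfl : FlatMod.IsFlatOver pA F) :
    ∃ P : ChainComplex (ModuleCat.{u} A) ℤ, IsFinModel P ∧ HasCechModel pA F P := by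
  letI : X.Over (Spec (CommRingCat.of A)) := ⟨pA⟩
  haveI : IsProper (X ↘ Spec (CommRingCat.of A)) := ‹IsProper pA›
  haveI : CompactSpace X := QuasiCompact.compactSpace_of_compactSpace pA
  haveI : X.IsSeparated := ⟨by
    rw [← Limits.terminal.comp_from pA]
    infer_instance⟩
  obtain ⟨P, h1, h2, h3, h4, h5⟩ := QCoh.exists_chain_model F hF hfl
  obtain ⟨κ, hκ, V, hcov, hV⟩ := QCoh.exists_affine_cover (X := X)
  refine ⟨P, ⟨h1, h2, h3, h5⟩, κ, hκ, V, hcov, hV, fun p => ?_⟩
  obtain ⟨e⟩ := h4 p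
  obtain ⟨e'⟩ := QCoh.nonempty_tfun_iso (A := A) F hF.1 hcov hV p
  exact ⟨e ≪≫ e'.symm⟩

/-- Flatness along an isomorphism of pairs. -/
theorem isFlatOver_transport {X Y T X₀ : Scheme.{u}} {q : X ⟶ T} {q' : Y ⟶ T} (e : Y ≅ X) (he : e.hom ≫ q = q')
    (a : X ⟶ X₀) (M : X₀.Modules) (h : FlatMod.IsFlatOver q ((Scheme.Modules.pullback a).obj M)) :
    FlatMod.IsFlatOver q' ((Scheme.Modules.pullback (e.hom ≫ a)).obj M) :=
  FlatLimHx.isFlatOver_baseChange (m := e.hom) (g := 𝟙 T)
    (IsPullback.of_horiz_isIso ⟨by rw [Category.comp_id, he]⟩) a M h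

/-- A flat finitely presented family over a limit of affine schemes comes from a flat one over a stage. -/
theorem exists_flat_stage {I : Type u} [SmallCategory I] [IsCofiltered I] {D : I ⥤ Scheme.{u}} {c : Cone D}
    (hc : IsLimit c) (hA : ∀ i, IsAffine (D.obj i)) [IsAffine c.pt] {k : I} {Y : Scheme.{u}} (y : Y ⟶ D.obj k)
    [QuasiCompact y] [LocallyOfFinitePresentation y] {G : Y.Modules} [Coh.IsQCoh G] (hG : CohB1.IsFP G)
    (h : FlatMod.IsFlatOver (pullback.snd y (c.π.app k))
      ((Scheme.Modules.pullback (pullback.fst y (c.π.app k))).obj G)) :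
    ∃ (l : I) (m : l ⟶ k), FlatMod.IsFlatOver (pullback.snd y (D.map m))
      ((Scheme.Modules.pullback (pullback.fst y (D.map m))).obj G) := by
  let D' : Over k ⥤ Over (D.obj k) := Over.post D
  let c' : Cone D' :=
    { pt := ModDescent24.limOver D c k
      π :=
        { app := fun j => ModDescent24.limToStage D c k j
          naturality := fun j j' f => by
            refine (Category.id_comp _).trans ?_
            ext1
            exact (c.w f.left).symm } }
  have hc' : IsLimit ((Over.forget (D.obj k)).mapCone c') :=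
    IsLimit.ofIsoLimit ((Functor.Initial.isLimitWhiskerEquiv (Over.forget k) c).symm hc)
      (Cones.ext (Iso.refl _) fun j => (Category.id_comp _).symm)
  obtain ⟨hcol⟩ := FlatLimHx.isLimitPreserving_flat y G hG D' c' hc' (fun j => hA j.left)
    (inferInstanceAs (IsAffine c.pt))
  obtain ⟨x⟩ := FlatFun.genPSp_nonempty_of
    (fun T => FlatMod.IsFlatOver (PicF.XTproj y T) (FGA.ET y G T)) (T := c'.pt) h
  obtain ⟨j, x', -⟩ := Types.jointly_surjective_of_isColimit hcol x
  exact ⟨j.unop.left, j.unop.hom, (FlatFun.genPSp_nonempty_iff_of_stable _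
    (fun T' T g hT x => FlatFunHx.flatAt_of_hom y G g x (hT _)) _).1 ⟨x'⟩⟩

/-- Over any ring. -/
theorem exists_model_of_proper {A : Type u} [CommRing A] {X : Scheme.{u}}
    (pA : X ⟶ Spec (CommRingCat.of A)) [IsProper pA] [LocallyOfFinitePresentation pA] {F : X.Modules}
    (hF : Coh.IsQCoh F) (hfp : CohB1.IsFP F) (hfl : FlatMod.IsFlatOver pA F) :
    ∃ P : ChainComplex (ModuleCat.{u} A) ℤ, IsFinModel P ∧ HasCechModel pA F P := by
  obtain ⟨I, _, _, D, c, hc, e, hA, hN⟩ := ConsPropLib.exists_noetherian_limit (Spec (CommRingCat.of A))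
  haveI := hA
  haveI : ∀ {i j : I} (f : i ⟶ j), IsAffineHom (D.map f) := fun f => isAffineHom_of_isAffine _
  haveI : ∀ (i j : I) (f : i ⟶ j), IsAffineHom (D.map f) := fun i j f => isAffineHom_of_isAffine _
  haveI : IsAffine c.pt := IsAffine.of_isIso e.hom
  obtain ⟨i, Xi, fi, g, hX⟩ := ConsPropLib.hasModel hc (pA ≫ e.inv)
  haveI := hX.lfp
  haveI := hX.qc
  haveI := hX.qs
  haveI := hX.compactSpace
  haveI := hX.quasiSeparatedSpace
  haveI : IsProper (pullback.snd fi (c.π.app i)) :=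
    (MorphismProperty.cancel_left_of_respectsIso @IsProper hX.sq.isoPullback.hom _).1
      (by rw [hX.sq.isoPullback_hom_snd]; infer_instance)
  obtain ⟨j, φ, hj⟩ := ConsPropLib.core_isProper I D c hc (fun a b f => inferInstance) i (hA i) fi
    inferInstance inferInstance inferInstance ‹_›
  -- the system over `j`
  let f₁ := pullback.snd fi (D.map φ)
  haveI : IsProper f₁ := hj
  haveI : LocallyOfFinitePresentation f₁ := inferInstanceAs (LocallyOfFinitePresentation (pullback.snd fi (D.map φ)))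
  let g₁ : X ⟶ pullback fi (D.map φ) :=
    pullback.lift g ((pA ≫ e.inv) ≫ c.π.app j) (by rw [Category.assoc, c.w, hX.sq.w])
  have hsq₁ : IsPullback g₁ (pA ≫ e.inv) f₁ (c.π.app j) := by
    refine IsPullback.of_right ?_ (pullback.lift_snd _ _ _) (IsPullback.of_hasPullback fi (D.map φ))
    rw [pullback.lift_fst, c.w]
    exact hX.sq
  haveI : CompactSpace ↥(pullback fi (D.map φ)) := QuasiCompact.compactSpace_of_compactSpace f₁
  haveI : QuasiSeparatedSpace ↥(pullback fi (D.map φ)) := quasiSeparatedSpace_of_quasiSeparated f₁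
  obtain ⟨jk, -, F₀, hF₀, hF₀fp, ⟨eF⟩⟩ := ModDescent24.exists_descent
    (D := MorLib.BC.diag D f₁) (MorLib.BC.isLimitCone D f₁ hsq₁ hc) (Over.mk (𝟙 j)) hF hfp
  let k := jk.left
  let y : pullback f₁ (D.map jk.hom) ⟶ D.obj k := pullback.snd f₁ (D.map jk.hom)
  let gk : X ⟶ pullback f₁ (D.map jk.hom) := MorLib.BC.proj D f₁ hsq₁ jk
  have hsqk : IsPullback gk (pA ≫ e.inv) y (c.π.app k) := MorLib.BC.isPullback_proj D f₁ hsq₁ jk
  haveI : Coh.IsQCoh F₀ := hF₀
  have hflk : FlatMod.IsFlatOver (pullback.snd y (c.π.app k))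
      ((Scheme.Modules.pullback (pullback.fst y (c.π.app k))).obj F₀) := by
    have h0 : FlatMod.IsFlatOver (pA ≫ e.inv) ((Scheme.Modules.pullback (𝟙 X)).obj F) := by
      have h1 : FlatMod.IsFlatOver (pA ≫ e.inv) ((Scheme.Modules.pullback (𝟙 X ≫ 𝟙 X)).obj F) :=
        FlatLimHx.isFlatOver_baseChange (m := 𝟙 X) (g := e.hom)
          (IsPullback.of_horiz_isIso ⟨by simp⟩) (𝟙 X) F
          ((FlatLimHx.isFlatOver_congr pA ((Scheme.Modules.pullbackId X).app F)).2 hfl)
      rwa [Category.id_comp] at h1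
    have h2 := (FlatLimHx.isFlatOver_congr (pA ≫ e.inv) ((Scheme.Modules.pullbackId X).app F)).1 h0
    have h3 : FlatMod.IsFlatOver (pA ≫ e.inv) ((Scheme.Modules.pullback gk).obj F₀) :=
      (FlatLimHx.isFlatOver_congr _ eF).2 h2
    have h4 := isFlatOver_transport hsqk.isoPullback.symm hsqk.isoPullback_inv_snd gk F₀ h3
    rwa [Iso.symm_hom, hsqk.isoPullback_inv_fst] at h4
  obtain ⟨l, m, hl⟩ := exists_flat_stage hc hA y hF₀fp hflk
  let pl : pullback y (D.map m) ⟶ D.obj l := pullback.snd y (D.map m)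
  let gl : X ⟶ pullback y (D.map m) :=
    pullback.lift gk ((pA ≫ e.inv) ≫ c.π.app l) (by rw [Category.assoc, c.w, hsqk.w])
  have hsql : IsPullback gl (pA ≫ e.inv) pl (c.π.app l) := by
    refine IsPullback.of_right ?_ (pullback.lift_snd _ _ _) (IsPullback.of_hasPullback y (D.map m))
    rw [pullback.lift_fst, c.w]
    exact hsqk
  let F₁ := (Scheme.Modules.pullback (pullback.fst y (D.map m))).obj F₀
  haveI := hN l
  let A₁ : Type u := Γ(D.obj l, ⊤)
  haveI : IsNoetherianRing A₁ := IsLocallyNoetherian.component_noetherian ⟨⊤, isAffineOpen_top (D.obj l)⟩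
  let p₁ : pullback y (D.map m) ⟶ Spec (CommRingCat.of A₁) := pl ≫ (D.obj l).isoSpec.hom
  haveI : IsProper pl := inferInstanceAs (IsProper (pullback.snd y (D.map m)))
  haveI : IsProper p₁ := inferInstanceAs (IsProper (pl ≫ (D.obj l).isoSpec.hom))
  haveI : IsLocallyNoetherian (pullback y (D.map m)) := LocallyOfFiniteType.isLocallyNoetherian pl
  have hfl₁ : FlatMod.IsFlatOver p₁ F₁ := by
    have h1 : FlatMod.IsFlatOver p₁ ((Scheme.Modules.pullback (𝟙 _ ≫ pullback.fst y (D.map m))).obj F₀) :=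
      FlatLimHx.isFlatOver_baseChange (m := 𝟙 _) (g := (D.obj l).isoSpec.inv)
        (IsPullback.of_horiz_isIso ⟨by simp [p₁, pl]⟩) (pullback.fst y (D.map m)) F₀ hl
    rwa [Category.id_comp] at h1
  have hF₁fp : CohB1.IsFP F₁ := ModStLib.isFP_pullback _ hF₀fp
  obtain ⟨P, hP, hM⟩ := exists_model_of_noetherian p₁ (QCoh.isCoh_iff_isFP.2 hF₁fp) hfl₁
  let ψ : A₁ →+* A := (Spec.preimage (e.inv ≫ c.π.app l ≫ (D.obj l).isoSpec.hom) :
    CommRingCat.of A₁ ⟶ CommRingCat.of A).hom
  have hsqA : IsPullback gl pA p₁ (Spec.map (CommRingCat.ofHom ψ)) := by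
    have h1 : IsPullback gl pA p₁ (e.inv ≫ c.π.app l ≫ (D.obj l).isoSpec.hom) :=
      hsql.of_iso (Iso.refl _) (Iso.refl _) e (D.obj l).isoSpec (by simp) (by simp) (by simp [p₁]) (by simp)
    convert h1 using 1
    exact Spec.map_preimage _
  exact ⟨_, hP.bc ψ, HasCechModel.baseChange ψ hsqA (QCoh.isQCoh_pullback _ hF₀) hM
    ((Scheme.Modules.pullbackComp gl (pullback.fst y (D.map m))).app F₀ ≪≫
      (Scheme.Modules.pullbackCongr (pullback.lift_fst _ _ _)).app F₀ ≪≫ eF)⟩

/-- Finite free Čech models exist over every affine open of the base. -/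
theorem hasModels {X S : Scheme.{u}} (f : X ⟶ S) [IsProper f] [LocallyOfFinitePresentation f] {F : X.Modules}
    (hF : Coh.IsQCoh F) (hfp : CohB1.IsFP F) (hfl : FlatMod.IsFlatOver f F) : HasModels f F := by
  intro V hV
  haveI : IsProper (f ∣_ V) := inferInstance
  haveI : LocallyOfFinitePresentation (f ∣_ V) := inferInstance
  haveI : IsProper (overSpec f hV) := inferInstanceAs (IsProper (f ∣_ V ≫ hV.isoSpec.hom))
  haveI : LocallyOfFinitePresentation (overSpec f hV) :=
    inferInstanceAs (LocallyOfFinitePresentation (f ∣_ V ≫ hV.isoSpec.hom))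
  refine exists_model_of_proper (overSpec f hV) (QCoh.isQCoh_restrict _ hF)
    (RPSM.isFP_restrict hfp (f ⁻¹ᵁ V).ι) ?_
  have h1 : FlatMod.IsFlatOver (overSpec f hV)
      ((Scheme.Modules.pullback ((f ⁻¹ᵁ V).ι ≫ 𝟙 X)).obj F) :=
    FlatLimHx.isFlatOver_baseChange (m := (f ⁻¹ᵁ V).ι) (g := hV.fromSpec) (QCoh.isPullback_overSpec hV)
      (𝟙 X) F ((FlatLimHx.isFlatOver_congr f ((Scheme.Modules.pullbackId X).app F)).2 hfl)
  exact (FlatLimHx.isFlatOver_congr _
    ((Scheme.Modules.pullbackCongr (Category.comp_id _)).app F ≪≫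
      ((Scheme.Modules.restrictFunctorIsoPullback (f ⁻¹ᵁ V).ι).app F).symm)).1 h1

end Groth.Agent.CExt24
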