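import Groth.Agent.CExt24.GMap
import Groth.Agent.QCoh.HHExact

/-!
# Maps on cohomology induced by morphisms of modules `M ⟶ g_* N`
-/

set_option autoImplicit false
set_option backward.isDefEq.respectTransparency false
set_option backward.isDefEq.respectTransparency.types false
set_option linter.style.haveILetI false
set_option maxHeartbeats 1000000

universe u

open CategoryTheory CategoryTheory.Limits AlgebraicGeometry TopologicalSpace Opposite Abelian

noncomputable section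

namespace Groth.Agent.CExt24

variable {X Y Z : Scheme.{u}}

/-- The morphism of abelian sheaves underlying `β : M ⟶ g_* N`. -/
def abHom (g : X ⟶ Y) {M : Y.Modules} {N : X.Modules}
    (β : M ⟶ (Scheme.Modules.pushforward g).obj N) :
    Coh.toAb M ⟶ (CohTop.push g.base).obj (Coh.toAb N) :=
  (SheafOfModules.toSheaf Y.ringCatSheaf).map β

/-- `H^p(Y, M) → H^p(X, N)` along `β : M ⟶ g_* N`. -/
def pmMod (g : X ⟶ Y) {M : Y.Modules} {N : X.Modules}
    (β : M ⟶ (Scheme.Modules.pushforward g).obj N) (p : ℕ) : Coh.HH Y M p →+ Coh.HH X N p :=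
  pm g.base (abHom g β) p

/-- The pullback of classes is the map along the unit. -/
theorem pullMod_eq_pm (g : X ⟶ Y) (M : Y.Modules) (p : ℕ) (x : Coh.HH Y M p) :
    CohPull.pullMod g M p x =
      pmMod g ((Scheme.Modules.pullbackPushforwardAdjunction g).unit.app M) p x :=
  rfl

theorem abHom_comp (g : X ⟶ Y) {M : Y.Modules} {N N' : X.Modules}
    (β : M ⟶ (Scheme.Modules.pushforward g).obj N) (ψ : N ⟶ N') :
    abHom g (β ≫ (Scheme.Modules.pushforward g).map ψ) =
      abHom g β ≫ (CohTop.push g.base).map ((SheafOfModules.toSheaf X.ringCatSheaf).map ψ) :=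
  rfl

theorem mapH_pmMod (g : X ⟶ Y) {M : Y.Modules} {N N' : X.Modules}
    (β : M ⟶ (Scheme.Modules.pushforward g).obj N) (ψ : N ⟶ N') (p : ℕ) (x : Coh.HH Y M p) :
    CohPull.mapH ψ p (pmMod g β p x) =
      pmMod g (β ≫ (Scheme.Modules.pushforward g).map ψ) p x :=
  map_pm g.base (abHom g β) _ p x

theorem pmMod_mapH (g : X ⟶ Y) {M M' : Y.Modules} {N : X.Modules} (φ : M ⟶ M')
    (β : M' ⟶ (Scheme.Modules.pushforward g).obj N) (p : ℕ) (x : Coh.HH Y M p) :
    pmMod g β p (CohPull.mapH φ p x) = pmMod g (φ ≫ β) p x :=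
  pm_map g.base ((SheafOfModules.toSheaf Y.ringCatSheaf).map φ) (abHom g β) p x

theorem pmMod_pmMod (h : Z ⟶ X) (g : X ⟶ Y) {M : Y.Modules} {N : X.Modules} {P : Z.Modules}
    (β : M ⟶ (Scheme.Modules.pushforward g).obj N) (γ : N ⟶ (Scheme.Modules.pushforward h).obj P)
    (p : ℕ) (x : Coh.HH Y M p) :
    pmMod h γ p (pmMod g β p x) =
      pmMod (h ≫ g) (β ≫ (Scheme.Modules.pushforward g).map γ ≫
        (Scheme.Modules.pushforwardComp h g).hom.app P) p x :=
  pm_comp h.base g.base (abHom g β) (abHom h γ) p x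

theorem equiv₀_pmMod (g : X ⟶ Y) {M : Y.Modules} {N : X.Modules}
    (β : M ⟶ (Scheme.Modules.pushforward g).obj N) (x : Coh.HH Y M 0) :
    Sheaf.H.equiv₀ (Coh.toAb N) isTerminalTop (pmMod g β 0 x) =
      β.app ⊤ (Sheaf.H.equiv₀ (Coh.toAb M) isTerminalTop x) :=
  equiv₀_pm g.base (abHom g β) x

/-- The connecting homomorphism of a short exact sequence of modules. -/
def deltaMod {S : ShortComplex X.Modules} (hS : S.ShortExact) (p : ℕ) :
    Coh.HH X S.X₃ p →+ Coh.HH X S.X₁ (p + 1) :=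
  delta (QCoh.toAb_shortExact hS) p

theorem pmMod_delta (g : X ⟶ Y) {S : ShortComplex Y.Modules} {T : ShortComplex X.Modules}
    (hS : S.ShortExact) (hT : T.ShortExact)
    (a₁ : S.X₁ ⟶ (Scheme.Modules.pushforward g).obj T.X₁)
    (a₂ : S.X₂ ⟶ (Scheme.Modules.pushforward g).obj T.X₂)
    (a₃ : S.X₃ ⟶ (Scheme.Modules.pushforward g).obj T.X₃)
    (h₁₂ : S.f ≫ a₂ = a₁ ≫ (Scheme.Modules.pushforward g).map T.f)
    (h₂₃ : S.g ≫ a₃ = a₂ ≫ (Scheme.Modules.pushforward g).map T.g)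
    (p : ℕ) (x : Coh.HH Y S.X₃ p) :
    pmMod g a₁ (p + 1) (deltaMod hS p x) = deltaMod hT p (pmMod g a₃ p x) :=
  pm_delta g.base (QCoh.toAb_shortExact hS) (QCoh.toAb_shortExact hT) (abHom g a₁) (abHom g a₂)
    (abHom g a₃) (congrArg (SheafOfModules.toSheaf Y.ringCatSheaf).map h₁₂)
    (congrArg (SheafOfModules.toSheaf Y.ringCatSheaf).map h₂₃) p x

/-- Exactness at `H^{p+1}(S₁)`. -/
theorem exists_deltaMod_eq {S : ShortComplex X.Modules} (hS : S.ShortExact) (p : ℕ)
    (x : Coh.HH X S.X₁ (p + 1)) (hx : CohPull.mapH S.f (p + 1) x = 0) :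
    ∃ y, deltaMod hS p y = x :=
  Ext.covariant_sequence_exact₁ (CohTop.const X.toPresheafedSpace.carrier (ULift.{u} ℤ))
    (QCoh.toAb_shortExact hS) (n₁ := p + 1) x hx (n₀ := p) rfl

/-- Exactness at `H^p(S₃)`. -/
theorem exists_mapH_eq {S : ShortComplex X.Modules} (hS : S.ShortExact) (p : ℕ)
    (x : Coh.HH X S.X₃ p) (hx : deltaMod hS p x = 0) :
    ∃ y, CohPull.mapH S.g p y = x :=
  Ext.covariant_sequence_exact₃ (CohTop.const X.toPresheafedSpace.carrier (ULift.{u} ℤ))
    (QCoh.toAb_shortExact hS) (n₀ := p) x (n₁ := p + 1) rfl hx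

theorem deltaMod_mapH {S : ShortComplex X.Modules} (hS : S.ShortExact) (p : ℕ)
    (x : Coh.HH X S.X₂ p) : deltaMod hS p (CohPull.mapH S.g p x) = 0 := by
  have hT := QCoh.toAb_shortExact hS
  show (Ext.comp (Ext.comp x (Ext.mk₀ _) (add_zero p)) hT.extClass rfl) = 0
  rw [Ext.comp_assoc_of_second_deg_zero]
  exact (congrArg (fun c => Ext.comp x c rfl) hT.comp_extClass).trans (Ext.comp_zero _ _ _ _ rfl)

end Groth.Agent.CExt24
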