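import Groth.Agent.CExt24.ModelAlg

/-!
# Vanishing and constant rank force the exchange property, pointwise
-/

set_option autoImplicit false
set_option backward.isDefEq.respectTransparency false
set_option backward.isDefEq.respectTransparency.types false
set_option linter.style.haveILetI false
set_option maxHeartbeats 1000000

universe u

open CategoryTheory CategoryTheory.Limits
open scoped TensorProduct

noncomputable section

namespace Groth.Agent.CExt24

open FlatCxLib (Coker Hom' fibreRank)

variable {A B : Type u} [CommRing A] [CommRing B] {P : ChainComplex (ModuleCat.{u} A) ℤ}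

theorem IsFinModel.bc (hP : IsFinModel P) (φ : A →+* B) : IsFinModel (CohIII.bcCx φ P) := by
  letI : Algebra A B := φ.toAlgebra
  refine ⟨fun i => ?_, fun i => ?_, ?_, fun q hq M => ?_⟩
  · haveI := hP.finite i
    exact inferInstanceAs (Module.Finite B (B ⊗[A] P.X i))
  · haveI := hP.free i
    exact inferInstanceAs (Module.Free B (B ⊗[A] P.X i))
  · obtain ⟨c, hc⟩ := hP.bdd
    exact ⟨c, fun i hi => (ModuleCat.extendScalars φ).map_isZero (hc i hi)⟩
  · obtain ⟨e⟩ := QCoh.nonempty_bcT_iso P φ q
    haveI : Subsingleton (CohIII.T (CohIII.bcCx φ P) q M) :=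
      AddCommGrpCat.subsingleton_of_isZero ((Functor.map_isZero (forget₂ (ModuleCat.{u} A) AddCommGrpCat.{u})
        (hP.pos q hq ((ModuleCat.restrictScalars φ).obj M))).of_iso (e.app M))
    exact ModuleCat.isZero_of_subsingleton _

theorem good_bcCx (hP : IsFinModel P) (φ : A →+* B) (q : ℤ) (y : PrimeSpectrum B)
    (h : Good P q (PrimeSpectrum.comap φ y)) : Good (CohIII.bcCx φ P) q y := by
  letI : Algebra A B := φ.toAlgebra
  haveI := hP.finitePresentation_coker q (q - 1)
  let u' := (P.d q (q - 1)).hom
  let π : B ⊗[A] P.X (q - 1) →ₗ[B] B ⊗[A] Coker P q (q - 1) := (LinearMap.range u').mkQ.baseChange B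
  have hπ : Function.Surjective π := LinearMap.lTensor_surjective B (Submodule.mkQ_surjective _)
  have hker : LinearMap.ker π = LinearMap.range (u'.baseChange B) :=
    Submodule.ext fun x => lTensor_exact B u'.exact_map_mkQ_range (Submodule.mkQ_surjective _) x
  let e : Coker (CohIII.bcCx φ P) q (q - 1) ≃ₗ[B] B ⊗[A] Coker P q (q - 1) :=
    (Submodule.quotEquivOfEq _ _ hker.symm).trans (π.quotKerEquivOfSurjective hπ)
  show y ∈ Module.freeLocus B (Coker (CohIII.bcCx φ P) q (q - 1))
  rw [Module.freeLocus_congr e]
  exact Module.comap_freeLocus_le h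

variable (P) in
/-- The complex over the local ring at `x`. -/
abbrev locP (x : PrimeSpectrum A) : ChainComplex (ModuleCat.{u} (Localization.AtPrime x.asIdeal)) ℤ :=
  CohIII.bcCx (algebraMap A (Localization.AtPrime x.asIdeal)) P

theorem good_iff_flat_loc (hP : IsFinModel P) (q : ℤ) (x : PrimeSpectrum A) :
    Good P q x ↔ Module.Flat (Localization.AtPrime x.asIdeal) (Coker (locP P x) q (q - 1)) := by
  haveI := hP.finitePresentation_coker q (q - 1)
  exact ((FlatCxLib.flat_coker_bcCx_iff (B := Localization.AtPrime x.asIdeal) P q (q - 1)).trans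
    (FlatCxLib.flat_localization_iff_mem_freeLocus (Coker P q (q - 1)) x)).symm

/-- Vanishing on the fibre gives goodness in two degrees. -/
theorem good_of_dRank_eq_zero (hP : IsFinModel P) {q : ℤ} {x : PrimeSpectrum A}
    (h : CohIII.dRank P q x = 0) : Good P q x ∧ Good P (q + 1) x := by
  let A' := Localization.AtPrime x.asIdeal
  let P' := locP P x
  have hP' : IsFinModel P' := hP.bc _
  have hr : q - 1 + 1 = q := by lia
  have h0 : CohIII.dRank P' q (IsLocalRing.closedPoint A') = 0 :=
    (QCoh.dRank_locCx_closedPoint P x q).trans h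
  have hz := QCoh.isZero_T_residue hP'.finite h0
  have hsub : Subsingleton ((CohIII.TFun P' q).obj (ModuleCat.of A' (IsLocalRing.ResidueField A'))) :=
    ModuleCat.subsingleton_of_isZero hz
  have he : (CohIII.TFun P' q).PreservesEpimorphisms :=
    (FlatCxLib.preservesEpi_iff_surjective_residue hP'.flat hP'.finite).2 fun y => ⟨0, Subsingleton.elim _ _⟩
  haveI hflat := (FlatCxLib.preservesEpi_iff hP'.flat hr).1 he
  obtain ⟨hfp, -⟩ := homology_facts hP' (q := q) fun y => good_of_flat_coker hP' y
  let H := Hom' P' (q + 1) q (q - 1)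
  haveI : Module.Finite A' H := inferInstance
  haveI : Subsingleton H := by
    have h1 : Subsingleton (H ⊗[A'] IsLocalRing.ResidueField A') :=
      (FlatCxLib.hom'TensorEquiv hP'.flat (show q + 1 = q + 1 from rfl) hr
        (ModuleCat.of A' (IsLocalRing.ResidueField A'))).toEquiv.subsingleton_congr.2 hsub
    exact IsLocalRing.subsingleton_tensorProduct.1
      ((TensorProduct.comm A' _ _).toEquiv.subsingleton_congr.2 h1)
  refine ⟨(good_iff_flat_loc hP q x).2 hflat, (good_iff_flat_loc hP (q + 1) x).2 ?_⟩
  rw [show q + 1 - 1 = q by lia]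
  exact (FlatCxLib.flat_coker_iff P' (q + 1) q (q - 1) hP'.flat).2 inferInstance

/-- Constant rank near a point of a reduced base gives goodness in two degrees. -/
theorem good_of_dRank_const [IsReduced A] (hP : IsFinModel P) {q : ℤ} {x : PrimeSpectrum A}
    (h : ∀ y, y ⤳ x → CohIII.dRank P q y = CohIII.dRank P q x) : Good P q x ∧ Good P (q + 1) x := by
  let A' := Localization.AtPrime x.asIdeal
  let P' := locP P x
  have hP' : IsFinModel P' := hP.bc _
  haveI : IsReduced A' := isReduced_localizationPreserves.{u} x.asIdeal.primeCompl A' inferInstance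
  let o := IsLocalRing.closedPoint A'
  have hd : ∀ y : PrimeSpectrum A', CohIII.dRank P' q y = CohIII.dRank P' q o := fun y => by
    rw [QCoh.dRank_locCx_closedPoint P x q, QCoh.dRank_locCx P x q y]
    refine h _ ?_
    have := (IsLocalRing.specializes_closedPoint y).map
      (PrimeSpectrum.continuous_comap (algebraMap A A'))
    rwa [show PrimeSpectrum.comap (algebraMap A A') (IsLocalRing.closedPoint A') = x from
      PrimeSpectrum.ext (IsLocalization.AtPrime.under_maximalIdeal _ x.asIdeal)] at this
  haveI := hP'.finite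
  haveI := hP'.finitePresentation_coker (q + 1) q
  haveI := hP'.finitePresentation_coker q (q - 1)
  haveI : Module.FinitePresentation A' (P'.X (q - 1)) :=
    haveI := hP'.free (q - 1); Module.finitePresentation_of_projective A' _
  haveI := hP'.flat (q - 1)
  have hall : ∀ y : PrimeSpectrum A', fibreRank (Coker P' (q + 1) q) y = fibreRank (Coker P' (q + 1) q) o ∧
      fibreRank (Coker P' q (q - 1)) y = fibreRank (Coker P' q (q - 1)) o := fun y => by
    have hy : y ⤳ o := IsLocalRing.specializes_closedPoint y
    have h1 := FlatCxLib.dRank_add P' hP'.finite (show q + 1 = q + 1 from rfl) (show q - 1 + 1 = q by lia) y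
    have h2 := FlatCxLib.dRank_add P' hP'.finite (show q + 1 = q + 1 from rfl) (show q - 1 + 1 = q by lia) o
    have h3 := FlatCxLib.fibreRank_le_of_specializes (M := Coker P' (q + 1) q) hy
    have h4 := FlatCxLib.fibreRank_le_of_specializes (M := Coker P' q (q - 1)) hy
    have h5 := FlatCxLib.fibreRank_eq_of_specializes (M := P'.X (q - 1)) hy
    have h6 := hd y
    omega
  constructor
  · haveI := FlatCxLib.free_of_fibreRank_eq (Coker P' q (q - 1)) fun y _ => (hall y).2
    exact (good_iff_flat_loc hP q x).2 Module.Flat.of_free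
  · haveI := FlatCxLib.free_of_fibreRank_eq (Coker P' (q + 1) q) fun y _ => (hall y).1
    refine (good_iff_flat_loc hP (q + 1) x).2 ?_
    rw [show q + 1 - 1 = q by lia]
    exact Module.Flat.of_free

end Groth.Agent.CExt24
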