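import Groth.Agent.CExt24.BCSquare
import Groth.Agent.CExt24.ModelAlgLoc
import Groth.Agent.QCoh.CechBC

/-!
# Čech models change base
-/

set_option autoImplicit false
set_option backward.isDefEq.respectTransparency false
set_option backward.isDefEq.respectTransparency.types false
set_option linter.style.haveILetI false
set_option maxHeartbeats 1000000

universe u

open CategoryTheory CategoryTheory.Limits AlgebraicGeometry TopologicalSpace Opposite

noncomputable section

namespace Groth.Agent.CExt24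

open Groth.Agent.QCoh (cxMod smulAbHom overSpec)

variable {A B : Type u} [CommRing A] [CommRing B] {X X' : Scheme.{u}}

/-- An isomorphism of modules gives one of Čech complexes of modules. -/
theorem nonempty_cxMod_iso (ρ : A →+* Coh.Γtop X) {ι : Type u} (U : ι → X.Opens) {M N : X.Modules} (e : M ≅ N) :
    Nonempty (cxMod ρ U M ≅ cxMod ρ U N) := by
  let t := (SheafOfModules.toSheaf X.ringCatSheaf).mapIso e
  let φ : ∀ {M N : X.Modules}, (M ⟶ N) → (cxMod ρ U M ⟶ cxMod ρ U N) := fun {M N} ψ =>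
    { f := fun p => ModuleCat.homMk ((QCoh.Ab.natCxMap U ((SheafOfModules.toSheaf X.ringCatSheaf).map ψ).hom).f p)
        fun a => by
          show (QCoh.Ab.natCxMap U ((SheafOfModules.toSheaf X.ringCatSheaf).map ψ).hom).f p ≫
              (QCoh.Ab.natCxMap U (smulAbHom N (ρ a)).hom).f p =
            (QCoh.Ab.natCxMap U (smulAbHom M (ρ a)).hom).f p ≫
              (QCoh.Ab.natCxMap U ((SheafOfModules.toSheaf X.ringCatSheaf).map ψ).hom).f p
          rw [← HomologicalComplex.comp_f, ← HomologicalComplex.comp_f, ← QCoh.Ab.natCxMap_comp,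
            ← QCoh.Ab.natCxMap_comp]
          exact congrArg (fun t : Coh.toAb M ⟶ Coh.toAb N => (QCoh.Ab.natCxMap U t.hom).f p)
            (smulAbHom_natural ψ (ρ a))
      comm' := fun p q _ => ModuleCat.hom_ext (LinearMap.ext fun c => ConcreteCategory.congr_hom
        ((QCoh.Ab.natCxMap U ((SheafOfModules.toSheaf X.ringCatSheaf).map ψ).hom).comm p q) c) }
  refine ⟨⟨φ e.hom, φ e.inv, ?_, ?_⟩⟩ <;>
  · ext p : 1
    refine ModuleCat.hom_ext (LinearMap.ext fun c => Subtype.ext (funext₂ fun σ W => ?_))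
    first
    | exact congr($(e.hom_inv_id).app W.1 (c.1 σ W))
    | exact congr($(e.inv_hom_id).app W.1 (c.1 σ W))

variable {pA : X ⟶ Spec (CommRingCat.of A)} {pB : X' ⟶ Spec (CommRingCat.of B)} {g : X' ⟶ X}

/-- A Čech model of `F` gives one of every base change of `F`. -/
theorem HasCechModel.baseChange (φ : A →+* B)
    (h : IsPullback g pB pA (Spec.map (CommRingCat.ofHom φ))) {F : X.Modules} (hF : Coh.IsQCoh F)
    {P : ChainComplex (ModuleCat.{u} A) ℤ} (hP : HasCechModel pA F P) {F' : X'.Modules}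
    (e : (Scheme.Modules.pullback g).obj F ≅ F') :
    HasCechModel pB F' (CohIII.bcCx φ P) := by
  letI : X.Over (Spec (CommRingCat.of A)) := ⟨pA⟩
  letI : X'.Over (Spec (CommRingCat.of B)) := ⟨pB⟩
  obtain ⟨κ, _, V, hcov, hV, hT⟩ := hP
  refine ⟨κ, inferInstance, fun i => g ⁻¹ᵁ V i, by rw [← Scheme.Hom.preimage_iSup, hcov]; rfl,
    fun σ => QCoh.isAffineOpen_preimage φ g h V hV σ, fun p => ?_⟩
  obtain ⟨eT⟩ := hT p
  obtain ⟨ψ⟩ := QCoh.nonempty_cechA_bc_iso φ g h hF V hV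
  obtain ⟨ψ'⟩ := nonempty_cxMod_iso (Coh.toGlobal pB) (fun i => g ⁻¹ᵁ V i) e
  obtain ⟨bP⟩ := QCoh.nonempty_bcT_iso P φ (-(p : ℤ))
  obtain ⟨bC⟩ := QCoh.nonempty_bcT_iso (cxMod (Coh.toGlobal pA) V F) φ p
  exact ⟨bP ≪≫ Functor.isoWhiskerLeft (ModuleCat.restrictScalars φ) eT ≪≫ bC.symm ≪≫
    Functor.isoWhiskerRight (QCoh.tfunMapIso (ψ ≪≫ ψ') p) _⟩

variable {S : Scheme.{u}}

/-- A Čech model over an affine open gives one over every smaller affine open. -/
theorem HasCechModel.restrict (f : X ⟶ S) {V V' : S.Opens} (hV : IsAffineOpen V) (hV' : IsAffineOpen V')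
    (hle : V' ≤ V) {F : X.Modules} (hF : Coh.IsQCoh F) {P : ChainComplex (ModuleCat.{u} Γ(S, V)) ℤ}
    (hP : HasCechModel (overSpec f hV) (F.restrict (f ⁻¹ᵁ V).ι) P) :
    HasCechModel (overSpec f hV') (F.restrict (f ⁻¹ᵁ V').ι)
      (CohIII.bcCx ((𝟙 S : S ⟶ S).appLE V V' hle).hom P) := by
  have h : IsPullback (𝟙 X) f f (𝟙 S) := IsPullback.of_horiz_isIso ⟨by simp⟩
  have hsq := isPullback_over h hV hV' hle
  exact hP.baseChange ((𝟙 S : S ⟶ S).appLE V V' hle).hom hsq (QCoh.isQCoh_restrict (f ⁻¹ᵁ V).ι hF)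
    (CohPull.pullOnIso (𝟙 X) (f ⁻¹ᵁ V) (f ⁻¹ᵁ V') (preimage_le h.w hle) F ≪≫
      (Scheme.Modules.restrictFunctor (f ⁻¹ᵁ V').ι).mapIso ((Scheme.Modules.pullbackId X).app F))

end Groth.Agent.CExt24
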