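import Groth.Agent.CExt24.SectEps
import Groth.Agent.QCoh.RpushCoh

/-!
# The comparison `H^p(f⁻¹V, F) → Γ(V, R^p f_* F)` is linear over the functions on `V`
-/

set_option autoImplicit false
set_option backward.isDefEq.respectTransparency false
set_option backward.isDefEq.respectTransparency.types false
set_option linter.style.haveILetI false
set_option maxHeartbeats 1000000

universe u

open CategoryTheory CategoryTheory.Limits AlgebraicGeometry TopologicalSpace Opposite Abelian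

noncomputable section

namespace Groth.Agent.CExt24

open Groth.Agent.QCoh (smulAbHom rhoV)

variable {X Y : Scheme.{u}}

theorem smulAbHom_natural {M N : X.Modules} (ψ : M ⟶ N) (r : Coh.Γtop X) :
    (SheafOfModules.toSheaf X.ringCatSheaf).map ψ ≫ smulAbHom N r =
      smulAbHom M r ≫ (SheafOfModules.toSheaf X.ringCatSheaf).map ψ := by
  refine Sheaf.hom_ext (NatTrans.ext (funext fun W => AddCommGrpCat.ext fun x => ?_))
  exact ((ψ.val.app W).hom.map_smul (Coh.resTop X W r) x).symm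

theorem map_smul_mapH {M N : X.Modules} (ψ : M ⟶ N) (r : Coh.Γtop X) (p : ℕ) (x : Coh.HH X M p) :
    CohPull.mapH ψ p (Sheaf.H.map (smulAbHom M r) p x) =
      Sheaf.H.map (smulAbHom N r) p (CohPull.mapH ψ p x) := by
  show Sheaf.H.map ((SheafOfModules.toSheaf X.ringCatSheaf).map ψ) p (Sheaf.H.map (smulAbHom M r) p x) =
    Sheaf.H.map (smulAbHom N r) p (Sheaf.H.map ((SheafOfModules.toSheaf X.ringCatSheaf).map ψ) p x)
  rw [← Sheaf.H.map_comp_apply, ← Sheaf.H.map_comp_apply, smulAbHom_natural]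

theorem deltaMod_smul {S : ShortComplex X.Modules} (hS : S.ShortExact) (r : Coh.Γtop X) (p : ℕ)
    (x : Coh.HH X S.X₃ p) :
    deltaMod hS p (Sheaf.H.map (smulAbHom S.X₃ r) p x) =
      Sheaf.H.map (smulAbHom S.X₁ r) (p + 1) (deltaMod hS p x) := by
  let T := S.map (QCoh.toAbFunctor X)
  have hT : T.ShortExact := QCoh.toAb_shortExact hS
  let φ : T ⟶ T := ShortComplex.homMk (smulAbHom S.X₁ r) (smulAbHom S.X₂ r) (smulAbHom S.X₃ r)
    (smulAbHom_natural S.f r).symm (smulAbHom_natural S.g r).symm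
  simp only [deltaMod, delta, Sheaf.H.map_apply]
  exact (Ext.comp_assoc_of_second_deg_zero _ _ _ _).trans
    ((congrArg (fun c => x.comp c rfl)
      (ShortComplex.ShortExact.extClass_naturality hT hT φ)).symm.trans
      (Ext.comp_assoc_of_third_deg_zero _ _ _ _).symm)

variable (f : X ⟶ Y)

theorem smul_sectH0 (F : X.Modules) (V : Y.Opens) (a : Γ(Y, V)) (s : Γ(F, f ⁻¹ᵁ V)) :
    Sheaf.H.map (smulAbHom (F.restrict (f ⁻¹ᵁ V).ι) (rhoV f V a)) 0
        (CohPull.sectH0 F (f ⁻¹ᵁ V) s) =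
      CohPull.sectH0 F (f ⁻¹ᵁ V) (f.app V a • s) := by
  apply (Sheaf.H.equiv₀ (Coh.toAb (F.restrict (f ⁻¹ᵁ V).ι)) isTerminalTop).injective
  rw [← Sheaf.H.equiv₀_naturality, sectH0_apply, sectH0_apply]
  let U := f ⁻¹ᵁ V
  have h1 : Coh.resTop (U : Scheme.{u}) (op ⊤) (rhoV f V a) = rhoV f V a :=
    QCoh.map_id' (M := SheafOfModules.unit (U : Scheme.{u}).ringCatSheaf) _ _
  refine (Eq.trans (Coh.smulAb_app (F.restrict U.ι) (rhoV f V a) (op ⊤)
    (show Γ(F.restrict U.ι, ⊤) from F.presheaf.map (eqToHom U.ι_image_top).op s)) ?_)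
  erw [h1]
  refine (congr($(Scheme.Modules.smul_restrictAppIso_hom U.ι F ⊤ (rhoV f V a))
    (show Γ(F.restrict U.ι, ⊤) from F.presheaf.map (eqToHom U.ι_image_top).op s))).trans ?_
  have h2 : (U.ι.appIso ⊤).inv (rhoV f V a) = X.presheaf.map (eqToHom U.ι_image_top).op (f.app V a) := by
    show ((U.ι.appLE U ⊤ U.ι_preimage_self.ge) ≫ (U.ι.appIso ⊤).inv) (f.app V a) = _
    rw [Scheme.Hom.appLE_appIso_inv]
    rfl
  refine (congrArg (fun r => r • (show Γ(F, U.ι ''ᵁ ⊤) from F.presheaf.map (eqToHom U.ι_image_top).op s))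
    h2).trans ?_
  exact (QCoh.map_smul' (M := F) (eqToHom U.ι_image_top) (f.app V a) s).symm

variable {f} [HasInjectiveResolutions X.Modules] {Δ : RDer.DerivedLES (Scheme.Modules.pushforward f)}
  (E : CohCmp.SectCmp f Δ)

/-- The comparison is linear over the functions on the open. -/
theorem eps_smul (F : X.Modules) (p : ℕ) (V : Y.Opens) (a : Γ(Y, V))
    (x : Coh.HHon X F (f ⁻¹ᵁ V) p) :
    E.ε V F p (Sheaf.H.map (smulAbHom (F.restrict (f ⁻¹ᵁ V).ι) (rhoV f V a)) p x) =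
      a • E.ε V F p x := by
  induction p generalizing F with
  | zero =>
    obtain ⟨s, rfl⟩ := (CohPull.sectH0 F (f ⁻¹ᵁ V)).surjective x
    rw [smul_sectH0, E.zero, E.zero]
    exact Scheme.Modules.Hom.app_smul ((Scheme.Modules.pushforward f).toRightDerivedZero.app F) a
      (show Γ((Scheme.Modules.pushforward f).obj F, V) from s)
  | succ p ih =>
    obtain ⟨y, rfl⟩ := exists_deltaOn_god F (f ⁻¹ᵁ V) p x
    let S := QCoh.godSES F 0
    have hS : S.ShortExact := QCoh.godSES_shortExact F 0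
    show E.ε V S.X₁ (p + 1) (Sheaf.H.map (smulAbHom (S.X₁.restrict (f ⁻¹ᵁ V).ι) (rhoV f V a)) (p + 1)
      (deltaOn hS (f ⁻¹ᵁ V) p y)) = a • E.ε V S.X₁ (p + 1) (deltaOn hS (f ⁻¹ᵁ V) p y)
    rw [show Sheaf.H.map (smulAbHom (S.X₁.restrict (f ⁻¹ᵁ V).ι) (rhoV f V a)) (p + 1)
        (deltaOn hS (f ⁻¹ᵁ V) p y) =
      deltaOn hS (f ⁻¹ᵁ V) p (Sheaf.H.map (smulAbHom (S.X₃.restrict (f ⁻¹ᵁ V).ι) (rhoV f V a)) p y) from
      (deltaMod_smul (restrict_shortExact hS (f ⁻¹ᵁ V)) (rhoV f V a) p y).symm,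
      eps_delta E V hS, eps_delta E V hS, ih S.X₃]
    exact Scheme.Modules.Hom.app_smul (Δ.δ S hS p (p + 1) rfl) a _

end Groth.Agent.CExt24
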