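import Groth.Agent.CExt24.SectAff
import Groth.Agent.CExt24.EpsSmul

/-!
# Sections of higher direct images over affine opens, without comparison data

`Γ(V, R^p f_* F)` and `H^p(f⁻¹V, F)` are linearly isomorphic for affine `V` and quasi-coherent `F`.
-/

set_option autoImplicit false
set_option backward.isDefEq.respectTransparency false
set_option backward.isDefEq.respectTransparency.types false
set_option linter.style.haveILetI false
set_option maxHeartbeats 1000000

universe u

open CategoryTheory CategoryTheory.Limits AlgebraicGeometry TopologicalSpace Opposite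

noncomputable section

namespace Groth.Agent.CExt24

open Groth.Agent.QCoh (smulAbHom rhoV)

variable {X Y : Scheme.{u}} (f : X ⟶ Y)

theorem mapH_sectH0 {M N : X.Modules} (ψ : M ⟶ N) (U : X.Opens) (s : Γ(M, U)) :
    CohPull.mapH ((Scheme.Modules.restrictFunctor U.ι).map ψ) 0 (CohPull.sectH0 M U s) =
      CohPull.sectH0 N U (ψ.app U s) := by
  apply (Sheaf.H.equiv₀ (Coh.toAb (N.restrict U.ι)) isTerminalTop).injective
  refine (Sheaf.H.equiv₀_naturality _ _ _).symm.trans ?_
  rw [sectH0_apply, sectH0_apply]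
  exact QCoh.map_app_comm ψ (eqToHom U.ι_image_top) s

/-- Classes of degree `i + 1` as classes of sections of a cokernel of the Godement complex. -/
theorem exists_deltaIter (F : X.Modules) (V : Y.Opens) (q : ℕ) :
    ∀ i k : ℕ, k + i = q → ∃ D : Γ(QCoh.godQ F (q + 1), f ⁻¹ᵁ V) →+ Coh.HHon X (QCoh.godQ F k) (f ⁻¹ᵁ V) (i + 1),
      Function.Surjective D ∧ (∀ y, D y = 0 ↔ ∃ a, (QCoh.godπ F q).app (f ⁻¹ᵁ V) a = y) ∧
      ∀ (r : Γ(Y, V)) y, D (f.app V r • y) =
        Sheaf.H.map (smulAbHom ((QCoh.godQ F k).restrict (f ⁻¹ᵁ V).ι) (rhoV f V r)) (i + 1) (D y) := by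
  intro i
  induction i with
  | zero =>
    rintro k (rfl : k = q)
    let S := QCoh.godSES F k
    have hS : S.ShortExact := QCoh.godSES_shortExact F k
    refine ⟨(deltaOn hS (f ⁻¹ᵁ V) 0).comp (CohPull.sectH0 S.X₃ (f ⁻¹ᵁ V)).toAddMonoidHom, ?_, ?_, ?_⟩
    · intro x
      obtain ⟨y, hy⟩ := exists_deltaMod_eq (restrict_shortExact hS (f ⁻¹ᵁ V)) 0 x
        ((subsingleton_HHon_of_flasque _ (QCoh.isFlasqueMod_God _) (f ⁻¹ᵁ V) 0).elim _ _)
      obtain ⟨z, rfl⟩ := (CohPull.sectH0 S.X₃ (f ⁻¹ᵁ V)).surjective y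
      exact ⟨z, hy⟩
    · intro y
      constructor
      · intro hy
        obtain ⟨w, hw⟩ := exists_mapH_eq (restrict_shortExact hS (f ⁻¹ᵁ V)) 0 _ hy
        obtain ⟨a, rfl⟩ := (CohPull.sectH0 S.X₂ (f ⁻¹ᵁ V)).surjective w
        exact ⟨a, (CohPull.sectH0 S.X₃ (f ⁻¹ᵁ V)).injective ((mapH_sectH0 S.g _ a).symm.trans hw)⟩
      · rintro ⟨a, rfl⟩
        show deltaOn hS (f ⁻¹ᵁ V) 0 (CohPull.sectH0 S.X₃ (f ⁻¹ᵁ V) (S.g.app (f ⁻¹ᵁ V) a)) = 0
        rw [← mapH_sectH0]
        exact deltaMod_mapH (restrict_shortExact hS (f ⁻¹ᵁ V)) 0 _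
    · intro r y
      show deltaOn hS (f ⁻¹ᵁ V) 0 (CohPull.sectH0 S.X₃ (f ⁻¹ᵁ V) (f.app V r • y)) = _
      rw [← smul_sectH0]
      exact deltaMod_smul (restrict_shortExact hS (f ⁻¹ᵁ V)) (rhoV f V r) 0 _
  | succ i ih =>
    intro k hk
    obtain ⟨D, hs, hker, hlin⟩ := ih (k + 1) (by lia)
    let S := QCoh.godSES F k
    have hS : S.ShortExact := QCoh.godSES_shortExact F k
    refine ⟨(deltaOn hS (f ⁻¹ᵁ V) (i + 1)).comp D, ?_, ?_, ?_⟩
    · intro x
      obtain ⟨y, hy⟩ := exists_deltaMod_eq (restrict_shortExact hS (f ⁻¹ᵁ V)) (i + 1) x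
        ((subsingleton_HHon_of_flasque _ (QCoh.isFlasqueMod_God _) (f ⁻¹ᵁ V) (i + 1)).elim _ _)
      obtain ⟨z, rfl⟩ := hs y
      exact ⟨z, hy⟩
    · intro y
      refine ⟨fun hy => (hker y).1 ?_, fun ha => by rw [AddMonoidHom.comp_apply, (hker y).2 ha, map_zero]⟩
      obtain ⟨w, hw⟩ := exists_mapH_eq (restrict_shortExact hS (f ⁻¹ᵁ V)) (i + 1) _ hy
      have : w = 0 := (subsingleton_HHon_of_flasque _ (QCoh.isFlasqueMod_God _) (f ⁻¹ᵁ V) i).elim _ _
      rw [this, map_zero] at hw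
      exact hw.symm
    · intro r y
      show deltaOn hS (f ⁻¹ᵁ V) (i + 1) (D (f.app V r • y)) = _
      rw [hlin]
      exact deltaMod_smul (restrict_shortExact hS (f ⁻¹ᵁ V)) (rhoV f V r) (i + 1) _

variable [QuasiCompact f] [QuasiSeparated f] [HasInjectiveResolutions X.Modules]

/-- Sections of the higher direct image over an affine open, linearly. -/
theorem exists_rpush_equiv {F : X.Modules} (hF : Coh.IsQCoh F) (V : Y.Opens) (hV : IsAffineOpen V) (p : ℕ) :
    ∃ ε : Coh.HHon X F (f ⁻¹ᵁ V) p ≃+ Γ((Coh.Rpush f p).obj F, V),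
      ∀ (a : Γ(Y, V)) x,
        ε (Sheaf.H.map (smulAbHom (F.restrict (f ⁻¹ᵁ V).ι) (rhoV f V a)) p x) = a • ε x := by
  cases p with
  | zero =>
    haveI := isIso_toRightDerivedZero_app f F
    let t := (Scheme.Modules.pushforward f).toRightDerivedZero.app F
    let ε₀ : Γ(F, f ⁻¹ᵁ V) ≃+ Γ((Coh.Rpush f 0).obj F, V) :=
      AddEquiv.ofBijective (AddMonoidHom.mk' (fun s => t.app V s) fun x y => map_add _ x y)
        (app_surjective_of_isIso t V)
    refine ⟨(CohPull.sectH0 F (f ⁻¹ᵁ V)).symm.trans ε₀, fun a x => ?_⟩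
    obtain ⟨s, rfl⟩ := (CohPull.sectH0 F (f ⁻¹ᵁ V)).surjective x
    rw [smul_sectH0, AddEquiv.trans_apply, AddEquiv.trans_apply, AddEquiv.symm_apply_apply,
      AddEquiv.symm_apply_apply]
    exact Scheme.Modules.Hom.app_smul t a (show Γ((Scheme.Modules.pushforward f).obj F, V) from s)
  | succ q =>
    obtain ⟨e⟩ := QCoh.nonempty_Rpush_iso f F q
    obtain ⟨D, hs, hker, hlin⟩ := exists_deltaIter f F V q q 0 (Nat.zero_add q)
    let α := (Scheme.Modules.pushforward f).map (QCoh.godπ F q)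
    have hα : QCoh.LocRange α := QCoh.locRange_rpushModel f hF q
    let π₀ : Γ((Scheme.Modules.pushforward f).obj (QCoh.godQ F (q + 1)), V) →+
        Γ((Coh.Rpush f (q + 1)).obj F, V) :=
      AddMonoidHom.mk' (fun y => e.inv.app V ((cokernel.π α).app V y)) fun x y =>
        (congrArg _ (map_add _ x y)).trans (map_add _ _ _)
    let π : Γ(QCoh.godQ F (q + 1), f ⁻¹ᵁ V) →+ Γ((Coh.Rpush f (q + 1)).obj F, V) := π₀
    have hπ : Function.Surjective π := (app_surjective_of_isIso e.inv V).2.comp (hα.surjective hV)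
    have hkπ : π.ker = D.ker := by
      ext y
      rw [AddMonoidHom.mem_ker, AddMonoidHom.mem_ker, hker]
      constructor
      · intro hy
        exact hα.mem_range hV y ((app_surjective_of_isIso e.inv V).1 (hy.trans (map_zero _).symm))
      · rintro ⟨a, rfl⟩
        show e.inv.app V ((cokernel.π α).app V (α.app V a)) = 0
        rw [show (cokernel.π α).app V (α.app V a) = 0 from (congr($(cokernel.condition α).app V a) : _)]
        exact map_zero _
    let ε : Coh.HHon X F (f ⁻¹ᵁ V) (q + 1) ≃+ Γ((Coh.Rpush f (q + 1)).obj F, V) :=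
      (QuotientAddGroup.quotientKerEquivOfSurjective D hs).symm.trans
        ((QuotientAddGroup.quotientAddEquivOfEq hkπ.symm).trans
          (QuotientAddGroup.quotientKerEquivOfSurjective π hπ))
    have hε : ∀ y, ε (D y) = π y := fun y => by
      have : (QuotientAddGroup.quotientKerEquivOfSurjective D hs).symm (D y) = QuotientAddGroup.mk y := by
        rw [AddEquiv.symm_apply_eq]
        rfl
      show QuotientAddGroup.quotientKerEquivOfSurjective π hπ
        (QuotientAddGroup.quotientAddEquivOfEq hkπ.symm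
          ((QuotientAddGroup.quotientKerEquivOfSurjective D hs).symm (D y))) = _
      rw [this]
      rfl
    refine ⟨ε, fun a x => ?_⟩
    obtain ⟨y, rfl⟩ := hs x
    refine (congrArg ε (hlin a y)).symm.trans ?_
    rw [hε, hε]
    show e.inv.app V ((cokernel.π α).app V (show Γ((Scheme.Modules.pushforward f).obj (QCoh.godQ F (q + 1)), V) from f.app V a • y)) = _
    exact (congrArg (e.inv.app V) (Scheme.Modules.Hom.app_smul (cokernel.π α) a
      (show Γ((Scheme.Modules.pushforward f).obj (QCoh.godQ F (q + 1)), V) from y))).trans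
      (Scheme.Modules.Hom.app_smul e.inv a _)

end Groth.Agent.CExt24
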