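import Groth.Agent.CExt24.BCFibre
import Groth.Agent.CExt24.ModelBC
import Groth.Agent.CExt24.SectModel
import Groth.Agent.ConsPropLib.FibreLocFree

/-!
# Cohomology and base change, given models on the affine opens of the base
-/

set_option autoImplicit false
set_option backward.isDefEq.respectTransparency false
set_option backward.isDefEq.respectTransparency.types false
set_option linter.style.haveILetI false
set_option maxHeartbeats 1000000

universe u

open CategoryTheory CategoryTheory.Limits AlgebraicGeometry TopologicalSpace Opposite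

noncomputable section

namespace Groth.Agent.CExt24

open Groth.Agent.QCoh (overSpec)

variable {X S : Scheme.{u}} (f : X ⟶ S) (F : X.Modules)

/-- A finite free Čech model of `F` over the affine open `V`. -/
def IsModelOn {V : S.Opens} (hV : IsAffineOpen V) (P : ChainComplex (ModuleCat.{u} Γ(S, V)) ℤ) : Prop :=
  IsFinModel P ∧ HasCechModel (overSpec f hV) (F.restrict (f ⁻¹ᵁ V).ι) P

/-- Every affine open of the base has a model. -/
def HasModels : Prop :=
  ∀ (V : S.Opens) (hV : IsAffineOpen V), ∃ P, IsModelOn f F hV P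

/-- A neighbourhood of `s` with a model that is good everywhere in degree `q`. -/
def GoodNhd (q : ℤ) (s : S) : Prop :=
  ∃ (V : S.Opens) (hV : IsAffineOpen V) (P : ChainComplex (ModuleCat.{u} Γ(S, V)) ℤ),
    s ∈ V ∧ IsModelOn f F hV P ∧ ∀ x, Good P q x

variable {f F}

theorem comap_primeIdealOf {V V' : S.Opens} (hV : IsAffineOpen V) (hV' : IsAffineOpen V') (hle : V' ≤ V)
    {z : S} (hz : z ∈ V') :
    PrimeSpectrum.comap ((𝟙 S : S ⟶ S).appLE V V' hle).hom (hV'.primeIdealOf ⟨z, hz⟩) =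
      hV.primeIdealOf ⟨z, hle hz⟩ := by
  refine PrimeSpectrum.ext (Ideal.ext fun a => ?_)
  rw [PrimeSpectrum.comap_asIdeal, Ideal.mem_comap, ← not_iff_not,
    ← QCoh.mem_basicOpen_iff_notMem hV' hz, ← QCoh.mem_basicOpen_iff_notMem hV (hle hz)]
  show z ∈ S.basicOpen ((𝟙 S : S ⟶ S).appLE V V' hle a) ↔ _
  rw [Scheme.basicOpen_appLE]
  exact ⟨fun h => by simpa using h.2, fun h => ⟨hz, by simpa using h⟩⟩

theorem IsModelOn.restrict (hF : Coh.IsQCoh F) {V V' : S.Opens} {hV : IsAffineOpen V}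
    {P : ChainComplex (ModuleCat.{u} Γ(S, V)) ℤ} (h : IsModelOn f F hV P) (hV' : IsAffineOpen V')
    (hle : V' ≤ V) : IsModelOn f F hV' (CohIII.bcCx ((𝟙 S : S ⟶ S).appLE V V' hle).hom P) :=
  ⟨h.1.bc _, h.2.restrict f hV hV' hle hF⟩

theorem exists_primeIdealOf {V : S.Opens} (hV : IsAffineOpen V) (x : PrimeSpectrum Γ(S, V)) :
    ∃ (z : S) (hz : z ∈ V), hV.primeIdealOf ⟨z, hz⟩ = x := by
  have hz : hV.fromSpec x ∈ V := hV.range_fromSpec.le ⟨x, rfl⟩
  exact ⟨_, hz, hV.fromSpec.isOpenEmbedding.injective (hV.fromSpec_primeIdealOf ⟨_, hz⟩)⟩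

/-- Shrinking keeps goodness everywhere. -/
theorem IsModelOn.restrict_good (hF : Coh.IsQCoh F) {V V' : S.Opens} {hV : IsAffineOpen V}
    {P : ChainComplex (ModuleCat.{u} Γ(S, V)) ℤ} (h : IsModelOn f F hV P) (hV' : IsAffineOpen V')
    (hle : V' ≤ V) {q : ℤ} (hg : ∀ (z : S) (hz : z ∈ V'), Good P q (hV.primeIdealOf ⟨z, hle hz⟩)) :
    ∀ x, Good (CohIII.bcCx ((𝟙 S : S ⟶ S).appLE V V' hle).hom P) q x := by
  intro x
  obtain ⟨z, hz, rfl⟩ := exists_primeIdealOf hV' x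
  refine good_bcCx h.1 _ q _ ?_
  rw [comap_primeIdealOf hV hV' hle hz]
  exact hg z hz

theorem goodNhd_of_good (hF : Coh.IsQCoh F) {V : S.Opens} {hV : IsAffineOpen V}
    {P : ChainComplex (ModuleCat.{u} Γ(S, V)) ℤ} (h : IsModelOn f F hV P) {q : ℤ} {s : S} (hs : s ∈ V)
    (hg : Good P q (hV.primeIdealOf ⟨s, hs⟩)) : GoodNhd f F q s := by
  obtain ⟨_, ⟨a, rfl⟩, ha, hsub⟩ :=
    PrimeSpectrum.isTopologicalBasis_basic_opens.exists_subset_of_mem_open
      (show hV.primeIdealOf ⟨s, hs⟩ ∈ {x | Good P q x} from hg) (isOpen_good h.1 q)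
  refine ⟨S.basicOpen a, hV.basicOpen a, _, (QCoh.mem_basicOpen_iff_notMem hV hs a).2 ha,
    h.restrict hF (hV.basicOpen a) (S.basicOpen_le a),
    h.restrict_good hF (hV.basicOpen a) (S.basicOpen_le a) fun z hz => hsub ?_⟩
  exact (QCoh.mem_basicOpen_iff_notMem hV (S.basicOpen_le a hz) a).1 hz

theorem GoodNhd.exists_open {q : ℤ} {s : S} (h : GoodNhd f F q s) :
    ∃ U : S.Opens, s ∈ U ∧ ∀ z ∈ U, GoodNhd f F q z :=
  let ⟨V, hV, P, hs, hm, hg⟩ := h
  ⟨V, hs, fun _ hz => ⟨V, hV, P, hz, hm, hg⟩⟩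

/-- Inside any neighbourhood. -/
theorem GoodNhd.exists_le (hF : Coh.IsQCoh F) {q : ℤ} {s : S} (h : GoodNhd f F q s) {U : S.Opens}
    (hsU : s ∈ U) : ∃ (V : S.Opens) (hV : IsAffineOpen V) (P : ChainComplex (ModuleCat.{u} Γ(S, V)) ℤ),
      V ≤ U ∧ s ∈ V ∧ IsModelOn f F hV P ∧ ∀ x, Good P q x := by
  obtain ⟨V, hV, P, hs, hm, hg⟩ := h
  obtain ⟨W, hW, hsW, hWle⟩ := exists_isAffineOpen_mem_and_subset (x := s) (U := U ⊓ V) ⟨hsU, hs⟩
  exact ⟨W, hW, _, fun z hz => (hWle hz).1, hsW, hm.restrict hF hW fun z hz => (hWle hz).2,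
    hm.restrict_good hF hW (fun z hz => (hWle hz).2) fun z hz => hg _⟩

/-- Outside the range of the complex everything is good. -/
theorem goodNhd_top (hm : HasModels f F) {q : ℤ} (hq : 0 < q) (s : S) : GoodNhd f F q s := by
  obtain ⟨V, hV, hs, -⟩ := exists_isAffineOpen_mem_and_subset (x := s) (U := ⊤) trivial
  obtain ⟨P, hP⟩ := hm V hV
  exact ⟨V, hV, P, hs, hP, good_top hP.1 hq⟩

theorem exists_goodNhd_bottom (hm : HasModels f F) (s : S) : ∃ c : ℤ, ∀ q, q < c → GoodNhd f F q s := by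
  obtain ⟨V, hV, hs, -⟩ := exists_isAffineOpen_mem_and_subset (x := s) (U := ⊤) trivial
  obtain ⟨P, hP⟩ := hm V hV
  obtain ⟨c, hc⟩ := exists_good_bottom hP.1
  exact ⟨c, fun q hq => ⟨V, hV, P, hs, hP, hc q hq⟩⟩

theorem goodNhd_of_subsingleton (hm : HasModels f F) (hF : Coh.IsQCoh F) (p : ℕ) {s : S}
    (h : Subsingleton (CohIII.fiberH f F s p)) :
    GoodNhd f F (-(p : ℤ)) s ∧ GoodNhd f F (-(p : ℤ) + 1) s := by
  obtain ⟨V, hV, hs, -⟩ := exists_isAffineOpen_mem_and_subset (x := s) (U := ⊤) trivial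
  obtain ⟨P, hP⟩ := hm V hV
  obtain ⟨h1, h2⟩ := good_of_dRank_eq_zero hP.1
    ((subsingleton_fiberH_iff_dRank f hV hs hF hP.1.finite hP.2 p).1 h)
  exact ⟨goodNhd_of_good hF hP hs h1, goodNhd_of_good hF hP hs h2⟩

theorem isOpen_subsingleton_fiberH (hm : HasModels f F) (hF : Coh.IsQCoh F) (p : ℕ) :
    IsOpen {s : S | Subsingleton (CohIII.fiberH f F s p)} := by
  refine isOpen_iff_forall_mem_open.2 fun s hsub => ?_
  obtain ⟨V, hV, hs, -⟩ := exists_isAffineOpen_mem_and_subset (x := s) (U := ⊤) trivial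
  obtain ⟨P, hP⟩ := hm V hV
  haveI := hP.1.finite
  have hfp : ∀ i, Module.FinitePresentation Γ(S, V) (P.X i) := fun i =>
    haveI := hP.1.free i; Module.finitePresentation_of_projective _ _
  have ho : IsOpen {x | CohIII.dRank P (-(p : ℤ)) x < 1} :=
    upperSemicontinuous_iff_isOpen_preimage.1 (FlatCxLib.upperSemicontinuous_dRank P hfp hP.1.flat _) 1
  have hs0 : CohIII.dRank P (-(p : ℤ)) (hV.primeIdealOf ⟨s, hs⟩) < 1 := by
    rw [(subsingleton_fiberH_iff_dRank f hV hs hF hP.1.finite hP.2 p).1 hsub]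
    exact Nat.one_pos
  obtain ⟨_, ⟨a, rfl⟩, ha, hsubset⟩ :=
    PrimeSpectrum.isTopologicalBasis_basic_opens.exists_subset_of_mem_open hs0 ho
  refine ⟨S.basicOpen a, fun z hz => ?_, (S.basicOpen a).2, (QCoh.mem_basicOpen_iff_notMem hV hs a).2 ha⟩
  exact (subsingleton_fiberH_iff_dRank f hV (S.basicOpen_le a hz) hF hP.1.finite hP.2 p).2
    (Nat.lt_one_iff.1 (hsubset ((QCoh.mem_basicOpen_iff_notMem hV (S.basicOpen_le a hz) a).1 hz)))

theorem goodNhd_of_fiberRank_eq [IsReduced S] (hm : HasModels f F) (hF : Coh.IsQCoh F) (p : ℕ)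
    (hlc : IsLocallyConstant (CohIII.fiberRank f F p)) (s : S) :
    GoodNhd f F (-(p : ℤ)) s ∧ GoodNhd f F (-(p : ℤ) + 1) s := by
  obtain ⟨V, hV, hs, -⟩ := exists_isAffineOpen_mem_and_subset (x := s) (U := ⊤) trivial
  obtain ⟨P, hP⟩ := hm V hV
  obtain ⟨h1, h2⟩ := good_of_dRank_const hP.1 (q := -(p : ℤ)) (x := hV.primeIdealOf ⟨s, hs⟩) fun y hy => by
    obtain ⟨z, hz, rfl⟩ := exists_primeIdealOf hV y
    rw [← fiberRank_eq_dRank f hV hz hF hP.2, ← fiberRank_eq_dRank f hV hs hF hP.2]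
    have hsp := hy.map hV.fromSpec.continuous
    rw [hV.fromSpec_primeIdealOf, hV.fromSpec_primeIdealOf] at hsp
    exact hsp.mem_open (hlc.isOpen_fiber _) rfl
  exact ⟨goodNhd_of_good hF hP hs h1, goodNhd_of_good hF hP hs h2⟩

section Epi

variable [HasInjectiveResolutions X.Modules] [QuasiCompact f] [QuasiSeparated f]
  {Δ : RDer.DerivedLES (Scheme.Modules.pushforward f)} {E : CohCmp.SectCmp f Δ}
  {s : S} [HasInjectiveResolutions (f.fiber s).Modules]
  {Δs : RDer.DerivedLES (Scheme.Modules.pushforward (f.fiberToSpecResidueField s))}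
  {Es : CohCmp.SectCmp (f.fiberToSpecResidueField s) Δs}

theorem epi_fibre_bc_iff_goodNhd (hm : HasModels f F) (hF : Coh.IsQCoh F)
    (Bs : CohCmp.GenBC f (S.fromSpecResidueField s) (f.fiberToSpecResidueField s) (f.fiberι s)
      (f.fiber_fac s) E Es) (p : ℕ) :
    Epi (Bs.bc p F) ↔ GoodNhd f F (-(p : ℤ)) s := by
  constructor
  · intro h
    obtain ⟨V, hV, hs, -⟩ := exists_isAffineOpen_mem_and_subset (x := s) (U := ⊤) trivial
    obtain ⟨P, hP⟩ := hm V hV
    exact goodNhd_of_good hF hP hs ((epi_fibre_bc_iff_good f hV hs Bs hF hP.1 hP.2 p).1 h)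
  · rintro ⟨V, hV, P, hs, hP, hg⟩
    exact (epi_fibre_bc_iff_good f hV hs Bs hF hP.1 hP.2 p).2 (hg _)

end Epi

section Congr

theorem closure_range_tmul {A : Type u} [CommRing A] {M N : Type u} [AddCommGroup M] [Module A M] [AddCommGroup N]
    [Module A N] {G : Type u} [AddCommGroup G] (l : TensorProduct A M N →+ G) :
    AddSubgroup.closure (Set.range fun x : M × N => l (x.1 ⊗ₜ x.2)) = l.range := by
  refine le_antisymm ((AddSubgroup.closure_le _).2 ?_) ?_
  · rintro _ ⟨x, rfl⟩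
    exact ⟨_, rfl⟩
  · rintro _ ⟨t, rfl⟩
    induction t using TensorProduct.induction_on with
    | zero => rw [map_zero]; exact zero_mem _
    | add a b ha hb => rw [map_add]; exact add_mem ha hb
    | tmul a b => exact AddSubgroup.subset_closure ⟨(a, b), rfl⟩

variable (f) in
/-- The span of the classes on the fibre coming from `H^p` over the preimage of `V`. -/
def fibreSpan (F : X.Modules) {V : S.Opens} (hV : IsAffineOpen V) {s : S} (hs : s ∈ V) (p : ℕ) :
    AddSubgroup (Coh.HH (f.fiber s) ((Scheme.Modules.pullback (fibreLift f hs)).obj (F.restrict (f ⁻¹ᵁ V).ι)) p) :=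
  AddSubgroup.closure (Set.range fun x : Coh.HHon X F (f ⁻¹ᵁ V) p × S.residueField s =>
    Sheaf.H.map (QCoh.smulAbHom _ (Coh.toGlobal (f.fiberToSpecResidueField s) x.2)) p
      (CohPull.pullMod (fibreLift f hs) (F.restrict (f ⁻¹ᵁ V).ι) p x.1))

variable (f) in
theorem good_iff_fibreSpan {V : S.Opens} (hV : IsAffineOpen V) {s : S} (hs : s ∈ V) (hF : Coh.IsQCoh F)
    {P : ChainComplex (ModuleCat.{u} Γ(S, V)) ℤ} (hP : IsModelOn f F hV P) (p : ℕ) :
    Good P (-(p : ℤ)) (hV.primeIdealOf ⟨s, hs⟩) ↔ fibreSpan f F hV hs p = ⊤ := by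
  letI : Algebra Γ(S, V) (S.residueField s) := (S.evaluation V s hs).hom.toAlgebra
  have hsq : IsPullback (fibreLift f hs) (f.fiberToSpecResidueField s) (overSpec f hV)
      (Spec.map (CommRingCat.ofHom (algebraMap Γ(S, V) (S.residueField s)))) := isPullback_fibreLift f hV hs
  obtain ⟨θ, θ', -, h2, h3⟩ := exists_bc_core (B := S.residueField s) hsq
    (QCoh.isQCoh_restrict (f ⁻¹ᵁ V).ι hF) hP.2 p
  rw [← surjective_tM_field_iff hP.1 _ _ (ker_evaluation hV hs)]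
  let T := CohIII.TFun P (-(p : ℤ))
  let N := algMod Γ(S, V) (S.residueField s)
  let l := θ'.symm.toAddMonoidHom.comp (FlatCxLib.tM T N).toAddMonoidHom
  have hset : fibreSpan f F hV hs p = l.range := by
    rw [← closure_range_tmul l]
    refine congrArg AddSubgroup.closure (Set.ext fun y => ⟨?_, ?_⟩)
    all_goals
      have key : ∀ (x : Coh.HHon X F (f ⁻¹ᵁ V) p) (b : S.residueField s),
          Sheaf.H.map (QCoh.smulAbHom _ (Coh.toGlobal (f.fiberToSpecResidueField s) b)) p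
            (CohPull.pullMod (fibreLift f hs) (F.restrict (f ⁻¹ᵁ V).ι) p x) = l (θ x ⊗ₜ b) := fun x b => by
        apply θ'.injective
        refine (h2 b _).trans ?_
        refine (congrArg (T.map (mulMap Γ(S, V) b)) (h3 x)).trans ?_
        show _ = θ' (θ'.symm (FlatCxLib.tM T N (θ x ⊗ₜ b)))
        rw [AddEquiv.apply_symm_apply, FlatCxLib.tM_tmul, ← ConcreteCategory.comp_apply, ← Functor.map_comp]
        refine congrArg (fun t => T.map t (θ x)) (ModuleCat.hom_ext (LinearMap.ext fun a => ?_))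
        show b * algebraMap Γ(S, V) (S.residueField s) a = a • b
        rw [mul_comm, ← Algebra.smul_def]
    · rintro ⟨⟨x, b⟩, rfl⟩
      exact ⟨(θ x, b), (key x b).symm⟩
    · rintro ⟨⟨t, b⟩, rfl⟩
      obtain ⟨x, rfl⟩ := θ.surjective t
      exact ⟨(x, b), key x b⟩
  rw [hset, AddMonoidHom.range_eq_top]
  exact (EquivLike.comp_surjective _ θ'.symm).symm

variable (f) in
/-- Goodness does not depend on the model. -/
theorem good_congr {V : S.Opens} (hV : IsAffineOpen V) {s : S} (hs : s ∈ V) (hF : Coh.IsQCoh F)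
    {P P' : ChainComplex (ModuleCat.{u} Γ(S, V)) ℤ} (hP : IsModelOn f F hV P) (hP' : IsModelOn f F hV P')
    (p : ℕ) : Good P (-(p : ℤ)) (hV.primeIdealOf ⟨s, hs⟩) ↔ Good P' (-(p : ℤ)) (hV.primeIdealOf ⟨s, hs⟩) :=
  (good_iff_fibreSpan f hV hs hF hP p).trans (good_iff_fibreSpan f hV hs hF hP' p).symm

/-- A finite module with vanishing fibres is zero. -/
theorem subsingleton_of_forall_fibreRank_zero {A : Type u} [CommRing A] {M : Type u} [AddCommGroup M] [Module A M]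
    [Module.Finite A M] (h : ∀ x : PrimeSpectrum A, FlatCxLib.fibreRank M x = 0) :
    Subsingleton (Submodule A M) := by
  rw [Submodule.subsingleton_iff, ← Module.support_eq_empty_iff (R := A)]
  refine Set.eq_empty_iff_forall_notMem.2 fun x hx => ?_
  obtain ⟨s, hs1, hs2⟩ := FlatCxLib.exists_generators_near M x
  rw [h x, Nat.le_zero, Finset.card_eq_zero] at hs1
  subst hs1
  refine hs2 ?_
  rwa [Finset.coe_empty, Submodule.span_empty, LinearEquiv.support_eq (Submodule.quotEquivOfEqBot ⊥ rfl)]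

end Congr

section Sections

variable [HasInjectiveResolutions X.Modules] [QuasiCompact f] [QuasiSeparated f]

/-- Sections of the higher direct image over `V` are the homology of the model. -/
theorem nonempty_sections_equiv (hF : Coh.IsQCoh F) {V : S.Opens} {hV : IsAffineOpen V}
    {P : ChainComplex (ModuleCat.{u} Γ(S, V)) ℤ} (hP : IsModelOn f F hV P) (p : ℕ) :
    Nonempty (Γ((Coh.Rpush f p).obj F, V) ≃ₗ[Γ(S, V)]
      FlatCxLib.Hom' P (-(p : ℤ) + 1) (-(p : ℤ)) (-(p : ℤ) - 1)) := by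
  have h : IsPullback (𝟙 X) f f (𝟙 S) := IsPullback.of_horiz_isIso ⟨by simp⟩
  obtain ⟨θ, -, hθ, -, -⟩ := exists_bc_square h hV hV le_rfl hF hP.2 p
  obtain ⟨ε, hε⟩ := exists_rpush_equiv f hF V hV p
  refine ⟨LinearEquiv.trans { ε.symm.trans θ with map_smul' := fun a z => ?_ }
    (FlatCxLib.hom'EquivT rfl (show -(p : ℤ) - 1 + 1 = -(p : ℤ) by lia)).symm⟩
  show θ (ε.symm (a • z)) = a • θ (ε.symm z)
  rw [← hθ]
  refine congrArg θ ?_
  rw [AddEquiv.symm_apply_eq, hε, AddEquiv.apply_symm_apply]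

theorem free_restrict_of_open {M : S.Modules} {U : S.Opens} (h : FlatMod.IsFinLocFree (M.restrict U.ι)) {s : S}
    (hs : s ∈ U) : ∃ (W : S.Opens) (n : ℕ), W ≤ U ∧ s ∈ W ∧
      Nonempty (M.restrict W.ι ≅ FlatMod.freeMod (W : Scheme.{u}) n) := by
  obtain ⟨W, n, hx, ⟨e⟩⟩ := h ⟨s, hs⟩
  let q : ((U.ι ''ᵁ W : S.Opens) : Scheme.{u}) ⟶ W := (U.ι.isoImage W).inv
  have hq : q ≫ W.ι ≫ U.ι = (U.ι ''ᵁ W).ι := by simp [q]
  exact ⟨U.ι ''ᵁ W, n, by rintro _ ⟨z, -, rfl⟩; exact z.2, ⟨⟨s, hs⟩, hx, rfl⟩,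
    ⟨(Scheme.Modules.restrictFunctorCongr hq.symm).app M ≪≫ (QCoh.restrictRestrict M q (W.ι ≫ U.ι)).symm ≪≫
      (Scheme.Modules.restrictFunctor q).mapIso ((QCoh.restrictRestrict M W.ι U.ι).symm ≪≫ e) ≪≫
        QCoh.freeModRestrict _ n⟩⟩

theorem exists_free_localizedModule {V : S.Opens} (hV : IsAffineOpen V) {z : S} (hz : z ∈ V) {M : Type u}
    [AddCommGroup M] [Module Γ(S, V) M] [Module.FinitePresentation Γ(S, V) M]
    (h : hV.primeIdealOf ⟨z, hz⟩ ∈ Module.freeLocus Γ(S, V) M) :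
    ∃ a : Γ(S, V), a ∉ (hV.primeIdealOf ⟨z, hz⟩).asIdeal ∧
      Module.Free (Localization.Away a) (LocalizedModule.Away a M) := by
  haveI : Module.Free _ _ := h
  obtain ⟨r, hr, hfree, -⟩ := Module.FinitePresentation.exists_free_localizedModule_powers
    (hV.primeIdealOf ⟨z, hz⟩).asIdeal.primeCompl
    (LocalizedModule.mkLinearMap (hV.primeIdealOf ⟨z, hz⟩).asIdeal.primeCompl M)
    (Localization.AtPrime (hV.primeIdealOf ⟨z, hz⟩).asIdeal)
  exact ⟨r, hr, hfree⟩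

/-- One model good in both degrees. -/
theorem exists_both (hF : Coh.IsQCoh F) (p : ℕ) {U : S.Opens} {z : S} (hz : z ∈ U)
    (h1 : GoodNhd f F (-(p : ℤ)) z) (h2 : GoodNhd f F (-(p : ℤ) + 1) z) :
    ∃ (V : S.Opens) (hV : IsAffineOpen V) (P : ChainComplex (ModuleCat.{u} Γ(S, V)) ℤ),
      V ≤ U ∧ z ∈ V ∧ IsModelOn f F hV P ∧ (∀ x, Good P (-(p : ℤ)) x) ∧ ∀ x, Good P (-(p : ℤ) + 1) x := by
  obtain ⟨V₁, hV₁, P, hle, hzV, hP, hgood⟩ := h1.exists_le hF hz
  obtain ⟨V, hV, P₂, hle₂, hzV₂, hP₂, hgood₂⟩ := h2.exists_le hF hzV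
  refine ⟨V, hV, _, hle₂.trans hle, hzV₂, hP.restrict hF hV hle₂,
    hP.restrict_good hF hV hle₂ fun w hw => hgood _, ?_⟩
  cases p with
  | zero => exact good_top (hP.1.bc _) (by simp)
  | succ n =>
    have e : -((n + 1 : ℕ) : ℤ) + 1 = -(n : ℤ) := by push_cast; ring
    intro x
    rw [e] at hgood₂ ⊢
    obtain ⟨w, hw, rfl⟩ := exists_primeIdealOf hV x
    exact (good_congr f hV hw hF (hP.restrict hF hV hle₂) hP₂ n).2 (hgood₂ _)

/-- Good in two consecutive degrees makes the higher direct image locally free. -/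
theorem isFinLocFree_Rpush_restrict (hF : Coh.IsQCoh F) (p : ℕ) (U : S.Opens)
    (hg : ∀ z ∈ U, GoodNhd f F (-(p : ℤ)) z ∧ GoodNhd f F (-(p : ℤ) + 1) z) :
    FlatMod.IsFinLocFree (((Coh.Rpush f p).obj F).restrict U.ι) := by
  let R := (Coh.Rpush f p).obj F
  have hR : Coh.IsQCoh R := QCoh.isQCoh_Rpush f hF p
  have key : ∀ z : U, ∃ (W : S.Opens) (n : ℕ), W ≤ U ∧ (z : S) ∈ W ∧
      Nonempty (R.restrict W.ι ≅ FlatMod.freeMod (W : Scheme.{u}) n) := by
    rintro ⟨z, hz⟩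
    obtain ⟨V, hV, P, hle, hzV, hP, hgood, hgood₂⟩ := exists_both hF p hz (hg z hz).1 (hg z hz).2
    obtain ⟨hfp, hall⟩ := homology_facts hP.1 hgood
    obtain ⟨e⟩ := nonempty_sections_equiv hF hP p
    haveI : Module.FinitePresentation Γ(S, V) Γ(R, V) := Module.FinitePresentation.of_equiv e.symm
    have hmem : hV.primeIdealOf ⟨z, hzV⟩ ∈ Module.freeLocus Γ(S, V) Γ(R, V) := by
      rw [Module.freeLocus_congr e]
      exact (hall _).1.1 (hgood₂ _)
    obtain ⟨a, ha, hfree⟩ := exists_free_localizedModule hV hzV hmem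
    obtain ⟨n, hn⟩ := QCoh.exists_free_nhd hR hV a hfree
    exact ⟨_, n, (S.basicOpen_le a).trans hle, (QCoh.mem_basicOpen_iff_notMem hV hzV a).2 ha, hn⟩
  choose W n hWU hzW hfree using key
  refine ConsPropLib.isFinLocFree_of_cover (fun z : U => S.homOfLE (hWU z)) (fun z => ⟨z, ⟨z.1, hzW z⟩, Subtype.ext (congr($(Scheme.homOfLE_ι S (hWU z)) ⟨z.1, hzW z⟩) : _)⟩) fun z => ?_
  refine (ConsPropLib.isFinLocFree_iso (QCoh.restrictRestrict R (S.homOfLE (hWU z)) U.ι ≪≫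
    (Scheme.Modules.restrictFunctorCongr (Scheme.homOfLE_ι S (hWU z))).app R ≪≫ (hfree z).some)).2 ?_
  exact fun x => ⟨⊤, n z, trivial, ⟨QCoh.freeModRestrict _ (n z)⟩⟩

/-- Local freeness and goodness in one degree give goodness in the degree below. -/
theorem goodNhd_of_isFinLocFree (hF : Coh.IsQCoh F) (p : ℕ) {U : S.Opens} {s : S} (hs : s ∈ U)
    (h : FlatMod.IsFinLocFree (((Coh.Rpush f p).obj F).restrict U.ι)) (h1 : GoodNhd f F (-(p : ℤ)) s) :
    GoodNhd f F (-(p : ℤ) + 1) s := by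
  obtain ⟨W, n, hWU, hsW, ⟨e⟩⟩ := free_restrict_of_open h hs
  obtain ⟨V, hV, P, hle, hsV, hP, hgood⟩ := h1.exists_le hF hsW
  obtain ⟨hfp, hall⟩ := homology_facts hP.1 hgood
  obtain ⟨e'⟩ := nonempty_sections_equiv hF hP p
  obtain ⟨l⟩ := QCoh.free_sections hV hle e
  haveI : Module.Free Γ(S, V) (FlatCxLib.Hom' P (-(p : ℤ) + 1) (-(p : ℤ)) (-(p : ℤ) - 1)) :=
    Module.Free.of_equiv ((e'.symm.trans l).symm)
  exact ⟨V, hV, P, hsV, hP, fun x => (hall x).1.2
    ((Module.freeLocus_eq_univ (R := Γ(S, V))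
      (M := FlatCxLib.Hom' P (-(p : ℤ) + 1) (-(p : ℤ)) (-(p : ℤ) - 1))).ge (Set.mem_univ x))⟩

/-- The higher direct image vanishes where the fibre cohomology does. -/
theorem isZero_Rpush_restrict (hm : HasModels f F) (hF : Coh.IsQCoh F) (p : ℕ) (U : S.Opens)
    (hv : ∀ z ∈ U, Subsingleton (CohIII.fiberH f F z p)) :
    IsZero (((Coh.Rpush f p).obj F).restrict U.ι) := by
  let R := (Coh.Rpush f p).obj F
  refine (Limits.IsZero.iff_id_eq_zero _).2 (Scheme.Modules.hom_ext _ _ fun W => ?_)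
  ext t
  show (t : Γ(R, U.ι ''ᵁ W)) = 0
  refine QCoh.eq_zero_of_locally (U.ι ''ᵁ W) _ fun z hz => ?_
  have hzU : z ∈ U := by obtain ⟨w, -, rfl⟩ := hz; exact w.2
  obtain ⟨h1, h2⟩ := goodNhd_of_subsingleton hm hF p (hv z hzU)
  obtain ⟨V, hV, P, hle, hzV, hP, hgood, -⟩ :=
    exists_both hF p (U := (U.ι ''ᵁ W) ⊓ U) ⟨hz, hzU⟩ h1 h2
  obtain ⟨hfp, hall⟩ := homology_facts hP.1 hgood
  obtain ⟨e⟩ := nonempty_sections_equiv hF hP p
  haveI : Subsingleton (FlatCxLib.Hom' P (-(p : ℤ) + 1) (-(p : ℤ)) (-(p : ℤ) - 1)) := by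
    rw [← Submodule.subsingleton_iff Γ(S, V)]
    refine subsingleton_of_forall_fibreRank_zero fun x => ?_
    obtain ⟨w, hw, rfl⟩ := exists_primeIdealOf hV x
    rw [← (hall _).2, ← fiberRank_eq_dRank f hV hw hF hP.2]
    haveI := hv w (hle hw).2
    exact Module.finrank_zero_of_subsingleton
  haveI : Subsingleton Γ(R, V) := e.toEquiv.subsingleton
  exact ⟨V, homOfLE fun w hw => (hle hw).1, hzV, Subsingleton.elim _ _⟩

end Sections

end Groth.Agent.CExt24
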