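import Groth.Agent.CExt24.BCMain

/-!
# The degree zero base change map
-/

set_option autoImplicit false
set_option backward.isDefEq.respectTransparency false
set_option backward.isDefEq.respectTransparency.types false
set_option linter.style.haveILetI false
set_option maxHeartbeats 2000000

universe u

open CategoryTheory CategoryTheory.Limits AlgebraicGeometry TopologicalSpace Opposite
open scoped TensorProduct

noncomputable section

namespace Groth.Agent.CExt24

open Groth.Agent.QCoh (smulAbHom rhoV overSpec pullSec)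

variable {X S X' S' : Scheme.{u}} {f : X ⟶ S} {g : S' ⟶ S} {f' : X' ⟶ S'} {g' : X' ⟶ X}

/-- Pullback of classes of degree zero is pullback of sections. -/
theorem pullOn_sectH0 (r : X' ⟶ X) (U : X.Opens) (U' : X'.Opens) (h : U' ≤ r ⁻¹ᵁ U) (F : X.Modules)
    (s : Γ(F, U)) :
    CohPull.pullOn r U U' h F 0 (CohPull.sectH0 F U s) =
      CohPull.sectH0 ((Scheme.Modules.pullback r).obj F) U' (pullSec r F h s) := by
  apply (Sheaf.H.equiv₀ (Coh.toAb (((Scheme.Modules.pullback r).obj F).restrict U'.ι)) isTerminalTop).injective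
  rw [pullOn_eq_pm, equiv₀_pmMod, sectH0_apply, sectH0_apply, onMap_app]
  exact (ExistEasy.pullSec_res r F U.ι_image_top.le U'.ι_image_top.le h
    (image_preimage_resLE_le r U U' h ⊤) s).symm

/-- The base change map on the pullback of a section. -/
theorem bc0_app_pullSec (w : g' ≫ f = f' ≫ g) {V : S.Opens} {V' : S'.Opens} (hle : V' ≤ g ⁻¹ᵁ V)
    (F : X.Modules) (s : Γ(F, f ⁻¹ᵁ V)) :
    (CohBC.bc0 f g f' g' w F).app V' (pullSec g ((Scheme.Modules.pushforward f).obj F) hle s) =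
      (show Γ((Scheme.Modules.pushforward f').obj ((Scheme.Modules.pullback g').obj F), V') from
        pullSec g' F (preimage_le w hle) s) := by
  let R := (Scheme.Modules.pushforward f).obj F
  let F' := (Scheme.Modules.pullback g').obj F
  let adj := Scheme.Modules.pullbackPushforwardAdjunction g
  have hφ : CohBC.bc0Adj f g f' g' w F =
      adj.unit.app R ≫ (Scheme.Modules.pushforward g).map (CohBC.bc0 f g f' g' w F) := by
    refine Eq.trans ?_ (adj.homEquiv_unit _ _ _)
    exact ((adj.homEquiv _ _).apply_symm_apply _).symm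
  let z : Γ(F', g' ⁻¹ᵁ (f ⁻¹ᵁ V)) :=
    ((Scheme.Modules.pullbackPushforwardAdjunction g').unit.app F).app (f ⁻¹ᵁ V) s
  let L := CohBC.bc0Adj f g f' g' w F
  have h1 : (show Γ(F', f' ⁻¹ᵁ (g ⁻¹ᵁ V)) from
      (CohBC.bc0 f g f' g' w F).app (g ⁻¹ᵁ V) ((adj.unit.app R).app V s)) =
      F'.presheaf.map (homOfLE (CohCmp.sqLE f g f' g' w V)).op z := by
    refine (show _ = L.app V s from
      congrArg (fun t : R ⟶ (Scheme.Modules.pushforward g).obj _ => t.app V s) hφ.symm).trans ?_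
    let e₁ := (Scheme.Modules.pushforwardCongr w).hom.app F'
    show e₁.app V z = _
    rw [Scheme.Modules.pushforwardCongr_hom_app_app]
    exact congrArg (fun i => F'.presheaf.map i z) (Subsingleton.elim _ _)
  unfold pullSec
  refine (QCoh.map_app_comm (CohBC.bc0 f g f' g' w F) (homOfLE hle) _).trans ?_
  refine (congrArg (F'.presheaf.map (homOfLE (f'.preimage_mono hle)).op) h1).trans ?_
  exact QCoh.map_map _ _ _

variable [QuasiCompact f] [QuasiSeparated f]

/-- On affine opens the degree zero base change map is `T(A) ⊗ B → T(B)`. -/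
theorem exists_bc0_app_eq_tM (h : IsPullback g' f' f g)
    {V : S.Opens} (hV : IsAffineOpen V)
    {V' : S'.Opens} (hV' : IsAffineOpen V') (hle : V' ≤ g ⁻¹ᵁ V) {F : X.Modules} (hF : Coh.IsQCoh F)
    {P : ChainComplex (ModuleCat.{u} Γ(S, V)) ℤ}
    (hP : HasCechModel (overSpec f hV) (F.restrict (f ⁻¹ᵁ V).ι) P) :
    letI : Algebra Γ(S, V) Γ(S', V') := (g.appLE V V' hle).hom.toAlgebra
    ∃ (e : Γ((Scheme.Modules.pullback g).obj ((Scheme.Modules.pushforward f).obj F), V') ≃+
        CohIII.T P (-((0 : ℕ) : ℤ)) (ModuleCat.of Γ(S, V) Γ(S, V)) ⊗[Γ(S, V)] Γ(S', V'))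
      (e' : Γ((Scheme.Modules.pushforward f').obj ((Scheme.Modules.pullback g').obj F), V') ≃+
        CohIII.T P (-((0 : ℕ) : ℤ)) (algMod Γ(S, V) Γ(S', V'))),
      ∀ z, e' ((CohBC.bc0 f g f' g' h.w F).app V' z) =
        FlatCxLib.tM (CohIII.TFun P (-((0 : ℕ) : ℤ))) (algMod Γ(S, V) Γ(S', V')) (e z) := by
  letI alg : Algebra Γ(S, V) Γ(S', V') := (g.appLE V V' hle).hom.toAlgebra
  let A := Γ(S, V)
  let B := Γ(S', V')
  let R := (Scheme.Modules.pushforward f).obj F
  let F' := (Scheme.Modules.pullback g').obj F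
  have hR : Coh.IsQCoh R := QCoh.isQCoh_pushforward f hF
  obtain ⟨θ, θ', hθ, hθ', hpull⟩ := exists_bc_square h hV hV' hle hF hP 0
  let ε : Coh.HHon X F (f ⁻¹ᵁ V) 0 ≃+ Γ(R, V) := (CohPull.sectH0 F (f ⁻¹ᵁ V)).symm
  let ε' : Coh.HHon X' F' (f' ⁻¹ᵁ V') 0 ≃+ Γ((Scheme.Modules.pushforward f').obj F', V') :=
    (CohPull.sectH0 F' (f' ⁻¹ᵁ V')).symm
  let eR : Γ(R, V) ≃ₗ[A] CohIII.T P (-((0 : ℕ) : ℤ)) (ModuleCat.of A A) :=
    { ε.symm.trans θ with
      map_smul' := fun a z => by
        show θ (CohPull.sectH0 F (f ⁻¹ᵁ V) (f.app V a • (show Γ(F, f ⁻¹ᵁ V) from z))) =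
          a • θ (CohPull.sectH0 F (f ⁻¹ᵁ V) z)
        rw [← hθ, smul_sectH0] }
  let e' := ε'.symm.trans θ'
  have he' : ∀ (b : B) z, e' (b • z) = (CohIII.TFun P (-((0 : ℕ) : ℤ))).map (mulMap A b) (e' z) := fun b z => by
    show θ' (CohPull.sectH0 F' (f' ⁻¹ᵁ V') (f'.app V' b • (show Γ(F', f' ⁻¹ᵁ V') from z))) =
      (CohIII.TFun P (-((0 : ℕ) : ℤ))).map (mulMap A b) (θ' (CohPull.sectH0 F' (f' ⁻¹ᵁ V') z))
    rw [← hθ', smul_sectH0]
  letI : Module A Γ((Scheme.Modules.pullback g).obj R, V') := Module.compHom _ (g.appLE V V' hle).hom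
  haveI : IsScalarTower A B Γ((Scheme.Modules.pullback g).obj R, V') := .of_algebraMap_smul fun _ _ => rfl
  let l : Γ(R, V) →ₗ[A] Γ((Scheme.Modules.pullback g).obj R, V') :=
    { toFun := pullSec g R hle
      map_add' := QCoh.pullSec_add g R hle
      map_smul' := fun a z => QCoh.pullSec_smul g R hle a z }
  have hl : IsBaseChange B l := QCoh.isBaseChange_pullback hV g hV' hR hle (fun _ => rfl) l fun _ => rfl
  let e : Γ((Scheme.Modules.pullback g).obj R, V') ≃+
      CohIII.T P (-((0 : ℕ) : ℤ)) (ModuleCat.of A A) ⊗[A] B :=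
    hl.equiv.symm.toAddEquiv.trans
      ((TensorProduct.comm A B Γ(R, V)).trans (TensorProduct.congr eR (LinearEquiv.refl A B))).toAddEquiv
  have hsymm : ∀ (b : B) (z : Γ(R, V)), e (b • l z) = eR z ⊗ₜ[A] b := fun b z => by
    show (TensorProduct.congr eR (LinearEquiv.refl A B))
      (TensorProduct.comm A B Γ(R, V) (hl.equiv.symm (b • l z))) = _
    rw [show hl.equiv.symm (b • l z) = b ⊗ₜ[A] z from by
      rw [LinearEquiv.symm_apply_eq, IsBaseChange.equiv_tmul]]
    rfl
  refine ⟨e, e', fun z => ?_⟩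
  obtain ⟨w, rfl⟩ := hl.equiv.surjective z
  induction w using TensorProduct.induction_on with
  | zero => rw [map_zero, map_zero, map_zero, map_zero, map_zero]
  | add a b ha hb => rw [map_add, map_add, map_add, map_add, map_add, ha, hb]
  | tmul b z =>
    rw [IsBaseChange.equiv_tmul, hsymm, FlatCxLib.tM_tmul, Scheme.Modules.Hom.app_smul, he']
    have hz : e' ((CohBC.bc0 f g f' g' h.w F).app V' (l z)) =
        (CohIII.TFun P (-((0 : ℕ) : ℤ))).map (unitMap A B) (eR z) := by
      show θ' (CohPull.sectH0 F' (f' ⁻¹ᵁ V') ((CohBC.bc0 f g f' g' h.w F).app V' (pullSec g R hle z))) =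
        (CohIII.TFun P (-((0 : ℕ) : ℤ))).map (unitMap A B) (θ (CohPull.sectH0 F (f ⁻¹ᵁ V) z))
      rw [← hpull, pullOn_sectH0]
      exact congrArg (fun t => θ' (CohPull.sectH0 F' (f' ⁻¹ᵁ V') t)) (bc0_app_pullSec h.w hle F z)
    rw [hz, ← ConcreteCategory.comp_apply, ← Functor.map_comp]
    refine congrArg (fun t => (CohIII.TFun P (-((0 : ℕ) : ℤ))).map t (eR z)) ?_
    refine ModuleCat.hom_ext (LinearMap.ext fun a => ?_)
    show b * algebraMap A B a = a • b
    rw [mul_comm, ← Algebra.smul_def]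

end Groth.Agent.CExt24
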