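import Groth.Agent.CExt24.BC0
import Groth.Agent.KFlatLib.Scheme.RpushQCoh

/-!
# Cohomology and base change in degree zero
-/

set_option autoImplicit false
set_option backward.isDefEq.respectTransparency false
set_option backward.isDefEq.respectTransparency.types false
set_option linter.style.haveILetI false
set_option maxHeartbeats 1000000

universe u

open CategoryTheory CategoryTheory.Limits AlgebraicGeometry TopologicalSpace Opposite

noncomputable section

namespace Groth.Agent.CExt24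

open Groth.Agent.QCoh (overSpec)

variable {X S X' S' : Scheme.{u}} {f : X ⟶ S} {g : S' ⟶ S} {f' : X' ⟶ S'} {g' : X' ⟶ X}
  [QuasiCompact f] [QuasiSeparated f] {F : X.Modules}

/-- The degree zero base change map is an isomorphism when degree zero is good. -/
theorem isIso_bc0_of_goodNhd (h : IsPullback g' f' f g) (hF : Coh.IsQCoh F)
    (hg : ∀ z : S', GoodNhd f F 0 (g z)) : IsIso (CohBC.bc0 f g f' g' h.w F) := by
  refine QCoh.isIso_of_isBasis (CohBC.bc0 f g f' g' h.w F)
    (B := {V' : S'.Opens | IsAffineOpen V' ∧ ∃ (V : S.Opens) (hV : IsAffineOpen V)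
      (P : ChainComplex (ModuleCat.{u} Γ(S, V)) ℤ), V' ≤ g ⁻¹ᵁ V ∧
      IsModelOn f F hV P ∧ ∀ x, Good P 0 x}) ?_ ?_
  · rw [Opens.isBasis_iff_nbhd]
    intro U z hz
    obtain ⟨V, hV, P, hzV, hP, hM⟩ := hg z
    obtain ⟨W, hW, hzW, hWle⟩ := exists_isAffineOpen_mem_and_subset (x := z) (U := U ⊓ g ⁻¹ᵁ V) ⟨hz, hzV⟩
    exact ⟨W, ⟨hW, V, hV, P, fun a ha => (hWle ha).2, hP, hM⟩, hzW, fun a ha => (hWle ha).1⟩
  · rintro V' ⟨hV', V, hV, P, hle, hP, hM⟩
    letI : Algebra Γ(S, V) Γ(S', V') := (g.appLE V V' hle).hom.toAlgebra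
    obtain ⟨e, e', he⟩ := exists_bc0_app_eq_tM h hV hV' hle hF hP.2
    have : e' ∘ (CohBC.bc0 f g f' g' h.w F).app V' =
        FlatCxLib.tM (CohIII.TFun P (-((0 : ℕ) : ℤ))) (algMod Γ(S, V) Γ(S', V')) ∘ e := funext he
    refine (Function.Bijective.of_comp_iff' e'.bijective _).1 ?_
    rw [this]
    exact (bijective_tM_of_good hP.1 (by simpa using hM) _).comp e.bijective

/-- The degree zero base change map to a fibre is epi iff the model is good at the point. -/
theorem epi_fibre_bc0_iff_good {V : S.Opens} (hV : IsAffineOpen V) {s : S} (hs : s ∈ V)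
    {P : ChainComplex (ModuleCat.{u} Γ(S, V)) ℤ}
    (hF : Coh.IsQCoh F) (hfm : IsFinModel P)
    (hP : HasCechModel (overSpec f hV) (F.restrict (f ⁻¹ᵁ V).ι) P) :
    Epi (CohBC.bc0 f (S.fromSpecResidueField s) (f.fiberToSpecResidueField s) (f.fiberι s)
      (f.fiber_fac s) F) ↔ Good P (-((0 : ℕ) : ℤ)) (hV.primeIdealOf ⟨s, hs⟩) := by
  let g := S.fromSpecResidueField s
  have hle : (⊤ : (Spec (S.residueField s)).Opens) ≤ g ⁻¹ᵁ V := fun z _ => by
    show g z ∈ V
    rwa [Scheme.fromSpecResidueField_apply]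
  have hsq : IsPullback (f.fiberι s) (f.fiberToSpecResidueField s) f g := isPullback_fiber f s
  obtain ⟨e, e', he⟩ := exists_bc0_app_eq_tM hsq hV (isAffineOpen_top _) hle hF hP
  have hcomp : e' ∘ (CohBC.bc0 f g (f.fiberToSpecResidueField s) (f.fiberι s) hsq.w F).app ⊤ =
      (letI : Algebra Γ(S, V) Γ(Spec (S.residueField s), ⊤) := (g.appLE V ⊤ hle).hom.toAlgebra
       FlatCxLib.tM (CohIII.TFun P (-((0 : ℕ) : ℤ))) (algMod Γ(S, V) Γ(Spec (S.residueField s), ⊤))) ∘ e :=
    funext he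
  show Epi (CohBC.bc0 f g (f.fiberToSpecResidueField s) (f.fiberι s) hsq.w F) ↔ _
  rw [epi_iff_top_surjective_of_subsingleton, ← EquivLike.comp_surjective _ e', hcomp,
    EquivLike.surjective_comp e]
  letI : Algebra Γ(S, V) Γ(Spec (S.residueField s), ⊤) := (g.appLE V ⊤ hle).hom.toAlgebra
  have hfield : IsField Γ(Spec (S.residueField s), ⊤) :=
    (Scheme.ΓSpecIso (S.residueField s)).commRingCatIsoToRingEquiv.toMulEquiv.isField
      (Field.toIsField (S.residueField s))
  letI := hfield.toField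
  refine surjective_tM_field_iff hfm _ _ ?_
  ext a
  rw [RingHom.mem_ker]
  show g.appLE V ⊤ hle a = 0 ↔ _
  have hb : (Spec (S.residueField s)).basicOpen (g.appLE V ⊤ hle a) = ⊤ ⊓ g ⁻¹ᵁ S.basicOpen a :=
    Scheme.basicOpen_appLE g ⊤ V hle a
  rw [← not_iff_not, ← QCoh.mem_basicOpen_iff_notMem hV hs]
  constructor
  · intro ha
    have hu : IsUnit (g.appLE V ⊤ hle a) := isUnit_iff_ne_zero.2 ha
    rw [Scheme.basicOpen_of_isUnit _ hu] at hb
    have := hb.le (show IsLocalRing.closedPoint (S.residueField s) ∈ (⊤ : (Spec (S.residueField s)).Opens) from trivial)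
    have h2 : g (IsLocalRing.closedPoint (S.residueField s)) ∈ S.basicOpen a := this.2
    rwa [Scheme.fromSpecResidueField_apply] at h2
  · intro ha h0
    rw [h0, Scheme.basicOpen_zero] at hb
    exact hb.ge (show IsLocalRing.closedPoint (S.residueField s) ∈ ⊤ ⊓ g ⁻¹ᵁ S.basicOpen a from
      ⟨trivial, by show g _ ∈ S.basicOpen a; rwa [Scheme.fromSpecResidueField_apply]⟩)

theorem epi_fibre_bc0_iff_goodNhd (hm : HasModels f F) (hF : Coh.IsQCoh F) (s : S) :
    Epi (CohBC.bc0 f (S.fromSpecResidueField s) (f.fiberToSpecResidueField s) (f.fiberι s)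
      (f.fiber_fac s) F) ↔ GoodNhd f F 0 s := by
  constructor
  · intro h
    obtain ⟨V, hV, hs, -⟩ := exists_isAffineOpen_mem_and_subset (x := s) (U := ⊤) trivial
    obtain ⟨P, hP⟩ := hm V hV
    have := (epi_fibre_bc0_iff_good hV hs hF hP.1 hP.2).1 h
    exact goodNhd_of_good hF hP hs (by simpa using this)
  · rintro ⟨V, hV, P, hs, hP, hg⟩
    refine (epi_fibre_bc0_iff_good hV hs hF hP.1 hP.2).2 ?_
    simpa using hg (hV.primeIdealOf ⟨s, hs⟩)

/-- The direct image is locally free where degree zero is good. -/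
theorem isFinLocFree_push_restrict (hm : HasModels f F) (hF : Coh.IsQCoh F) (U : S.Opens)
    (hg : ∀ z ∈ U, GoodNhd f F 0 z) :
    FlatMod.IsFinLocFree (((Scheme.Modules.pushforward f).obj F).restrict U.ι) := by
  haveI : HasInjectiveResolutions X.Modules := KFlatLib.hasInjectiveResolutions_modules
  haveI := isIso_toRightDerivedZero_app f F
  refine (ConsPropLib.isFinLocFree_iso ((Scheme.Modules.restrictFunctor U.ι).mapIso
    (asIso ((Scheme.Modules.pushforward f).toRightDerivedZero.app F)))).2 ?_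
  exact isFinLocFree_Rpush_restrict hF 0 U fun z hz =>
    ⟨by simpa using hg z hz, goodNhd_top hm (by norm_num) z⟩

end Groth.Agent.CExt24
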