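import Groth.Agent.CExt24.CechPush
import Groth.Agent.QCoh.BcT
import Groth.Agent.FlatCxLib.TFunctor

/-!
# Base change of complexes through the functors `M ↦ H_p(P ⊗ M)`
-/

set_option autoImplicit false
set_option backward.isDefEq.respectTransparency false
set_option backward.isDefEq.respectTransparency.types false
set_option linter.style.haveILetI false
set_option maxHeartbeats 1000000

universe u

open CategoryTheory CategoryTheory.Limits MonoidalCategory
open scoped TensorProduct

noncomputable section

namespace Groth.Agent.CExt24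

open Groth.Agent.QCoh

variable {A B : Type u} [CommRing A] [CommRing B] [Algebra A B] {ι : Type} {c : ComplexShape ι}

variable (A B) in
/-- `B` as an `A`-module. -/
abbrev algMod : ModuleCat.{u} A := ModuleCat.of A B

variable (A B) in
/-- The structure map `A → B` as a map of modules. -/
abbrev unitMap : ModuleCat.of A A ⟶ algMod A B := ModuleCat.ofHom (Algebra.linearMap A B)

variable (A) in
/-- Multiplication by an element of `B`. -/
abbrev mulMap (b : B) : algMod A B ⟶ algMod A B := ModuleCat.ofHom (LinearMap.mulLeft A b)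

/-- `B ⊗ K ≅ K ⊗ B` on underlying complexes of abelian groups. -/
def bcSwap (K : HomologicalComplex (ModuleCat.{u} A) c) :
    ((forget₂ (ModuleCat.{u} B) AddCommGrpCat.{u}).mapHomologicalComplex c).obj (bcC A B K) ≅
      ((forget₂ (ModuleCat.{u} A) AddCommGrpCat.{u}).mapHomologicalComplex c).obj
        (CohIII.tensorObj K (algMod A B)) :=
  HomologicalComplex.Hom.isoOfComponents
    (fun i => AddEquiv.toAddCommGrpIso
      (show B ⊗[A] K.X i ≃+ K.X i ⊗[A] B from (TensorProduct.comm A B (K.X i)).toAddEquiv))
    fun i j _ => AddCommGrpCat.ext fun z => by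
      let L₁ : B ⊗[A] K.X i →+ K.X j ⊗[A] B :=
        ((K.d i j).hom.rTensor B).toAddMonoidHom.comp (TensorProduct.comm A B (K.X i)).toAddMonoidHom
      let L₂ : B ⊗[A] K.X i →+ K.X j ⊗[A] B :=
        (TensorProduct.comm A B (K.X j)).toAddMonoidHom.comp ((K.d i j).hom.baseChange B).toAddMonoidHom
      suffices h : L₁ = L₂ from congrArg (fun L : _ →+ _ => L z) h
      refine AddMonoidHom.ext fun w => ?_
      induction w using TensorProduct.induction_on with
      | zero => simp only [map_zero]
      | add a b ha hb => simp only [map_add, ha, hb]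
      | tmul b x => rfl

/-- The identification of homology after forgetting the scalars. -/
abbrev forgetHc {R : Type u} [CommRing R] (K : HomologicalComplex (ModuleCat.{u} R) c) (p : ι) :
    (((forget₂ (ModuleCat.{u} R) AddCommGrpCat.{u}).mapHomologicalComplex c).obj K).homology p ≅
      (forget₂ (ModuleCat.{u} R) AddCommGrpCat.{u}).obj (K.homology p) :=
  (K.sc p).mapHomologyIso (forget₂ (ModuleCat.{u} R) AddCommGrpCat.{u})

theorem smul_homology_forget {R : Type u} [CommRing R] (K : HomologicalComplex (ModuleCat.{u} R) c)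
    (p : ι) (r : R) (x : K.homology p) :
    (forgetHc K p).inv (r • x : K.homology p) =
      HomologicalComplex.homologyMap
        (((forget₂ (ModuleCat.{u} R) AddCommGrpCat.{u}).mapHomologicalComplex c).map (r • 𝟙 K)) p
        ((forgetHc K p).inv x) := by
  have h1 : (r • x : K.homology p) = HomologicalComplex.homologyMap (r • 𝟙 K) p x := by
    rw [FlatCxLib.homologyMap_smul_id]
    rfl
  rw [h1]
  exact ConcreteCategory.congr_hom (ShortComplex.mapHomologyIso_inv_naturality
    ((HomologicalComplex.shortComplexFunctor (ModuleCat.{u} R) c p).map (r • 𝟙 K))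
    (forget₂ (ModuleCat.{u} R) AddCommGrpCat.{u})) x

theorem forgetHc_naturality {R : Type u} [CommRing R] {K L : HomologicalComplex (ModuleCat.{u} R) c}
    (φ : K ⟶ L) (p : ι) (x) :
    (forgetHc L p).hom (HomologicalComplex.homologyMap
        (((forget₂ (ModuleCat.{u} R) AddCommGrpCat.{u}).mapHomologicalComplex c).map φ) p x) =
      HomologicalComplex.homologyMap φ p ((forgetHc K p).hom x) :=
  ConcreteCategory.congr_hom (ShortComplex.mapHomologyIso_hom_naturality
    ((HomologicalComplex.shortComplexFunctor (ModuleCat.{u} R) c p).map φ)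
    (forget₂ (ModuleCat.{u} R) AddCommGrpCat.{u})) x

variable (K : HomologicalComplex (ModuleCat.{u} A) c)

/-- `H(B ⊗ K)` is `T(B)`, semilinearly. -/
theorem exists_tfun_equiv (p : ι) :
    ∃ (t₀ : (K.homology p : ModuleCat.{u} A) ≃+ CohIII.T K p (ModuleCat.of A A))
      (t : ((bcC A B K).homology p : ModuleCat.{u} B) ≃+ CohIII.T K p (algMod A B)),
      (∀ (a : A) x, t₀ (a • x) = a • t₀ x) ∧
      (∀ x, t ((forgetHc (bcC A B K) p).hom (HomologicalComplex.homologyMap (unitCx K) p
          ((forgetHc K p).inv x))) = (CohIII.TFun K p).map (unitMap A B) (t₀ x)) ∧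
      ∀ (b : B) y, t (b • y) = (CohIII.TFun K p).map (mulMap A b) (t y) := by
  let GA := forget₂ (ModuleCat.{u} A) AddCommGrpCat.{u}
  let GB := forget₂ (ModuleCat.{u} B) AddCommGrpCat.{u}
  let e₀ := ((HomologicalComplex.homologyFunctor _ c p).mapIso (tensorSelfIso K).symm).toLinearEquiv
  let eB : GB.obj ((bcC A B K).homology p) ≅ GA.obj ((CohIII.tensorObj K (algMod A B)).homology p) :=
    (forgetHc (bcC A B K) p).symm ≪≫ (HomologicalComplex.homologyFunctor _ c p).mapIso (bcSwap K) ≪≫
      forgetHc (CohIII.tensorObj K (algMod A B)) p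
  refine ⟨e₀.toAddEquiv, eB.addCommGroupIsoToAddEquiv, fun a x => e₀.map_smul a x, fun x => ?_,
    fun b y => ?_⟩
  · show (forgetHc (CohIII.tensorObj K (algMod A B)) p).hom (HomologicalComplex.homologyMap (bcSwap K).hom p
      ((forgetHc (bcC A B K) p).inv ((forgetHc (bcC A B K) p).hom
        (HomologicalComplex.homologyMap (unitCx K) p ((forgetHc K p).inv x))))) = _
    rw [Iso.hom_inv_id_apply, ← ConcreteCategory.comp_apply (HomologicalComplex.homologyMap (unitCx K) p),
      ← HomologicalComplex.homologyMap_comp]
    have hc : unitCx K ≫ (bcSwap K).hom =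
        (GA.mapHomologicalComplex c).map ((tensorSelfIso K).inv ≫ CohIII.tensorMap K (unitMap A B)) := by
      ext i : 1
      refine AddCommGrpCat.ext fun m => ?_
      let m' : K.X i := m
      show m' ⊗ₜ[A] (1 : B) = (Algebra.linearMap A B).lTensor (K.X i) ((TensorProduct.rid A (K.X i)).symm m')
      rw [TensorProduct.rid_symm_apply, LinearMap.lTensor_tmul, Algebra.linearMap_apply, map_one]
    rw [hc, forgetHc_naturality, Iso.inv_hom_id_apply]
    exact ConcreteCategory.congr_hom (HomologicalComplex.homologyMap_comp (tensorSelfIso K).inv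
      (CohIII.tensorMap K (unitMap A B)) p) (show K.homology p from x)
  · show (forgetHc (CohIII.tensorObj K (algMod A B)) p).hom (HomologicalComplex.homologyMap (bcSwap K).hom p
      ((forgetHc (bcC A B K) p).inv (b • y : (bcC A B K).homology p))) = _
    rw [smul_homology_forget,
      ← ConcreteCategory.comp_apply (HomologicalComplex.homologyMap
        ((GB.mapHomologicalComplex c).map (b • 𝟙 (bcC A B K))) p),
      ← HomologicalComplex.homologyMap_comp]
    have hc : (GB.mapHomologicalComplex c).map (b • 𝟙 (bcC A B K)) ≫ (bcSwap K).hom =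
        (bcSwap K).hom ≫ (GA.mapHomologicalComplex c).map (CohIII.tensorMap K (mulMap A b)) := by
      ext i : 1
      refine AddCommGrpCat.ext fun z => ?_
      let L₁ : B ⊗[A] K.X i →+ K.X i ⊗[A] B :=
        (TensorProduct.comm A B (K.X i)).toAddMonoidHom.comp (DistribSMul.toAddMonoidHom _ b)
      let L₂ : B ⊗[A] K.X i →+ K.X i ⊗[A] B :=
        ((LinearMap.mulLeft A b).lTensor (K.X i)).toAddMonoidHom.comp
          (TensorProduct.comm A B (K.X i)).toAddMonoidHom
      suffices h : L₁ = L₂ from congrArg (fun L : _ →+ _ => L z) h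
      refine AddMonoidHom.ext fun w => ?_
      induction w using TensorProduct.induction_on with
      | zero => simp only [map_zero]
      | add a b ha hb => simp only [map_add, ha, hb]
      | tmul b' x => rfl
    rw [hc, HomologicalComplex.homologyMap_comp, ConcreteCategory.comp_apply, forgetHc_naturality]
    rfl

end Groth.Agent.CExt24
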