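import Groth.Agent.CExt24.BCSections

/-!
# Base change maps compose
-/

set_option autoImplicit false
set_option backward.isDefEq.respectTransparency false
set_option backward.isDefEq.respectTransparency.types false
set_option linter.style.haveILetI false
set_option maxHeartbeats 1000000

universe u

open CategoryTheory CategoryTheory.Limits AlgebraicGeometry TopologicalSpace Opposite

noncomputable section

namespace Groth.Agent.CExt24

open Groth.Agent.QCoh (pullSec)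

variable {X Y Z : Scheme.{u}}

theorem pmMod_congr {g g' : X ⟶ Y} (e : g = g') {M : Y.Modules} {N : X.Modules}
    (β : M ⟶ (Scheme.Modules.pushforward g).obj N) (β' : M ⟶ (Scheme.Modules.pushforward g').obj N)
    (hβ : ∀ (W : Y.Opens) (x : Γ(M, W)),
      (show Γ(N, g' ⁻¹ᵁ W) from β'.app W x) =
        N.presheaf.map (eqToHom (by rw [e])).op (show Γ(N, g ⁻¹ᵁ W) from β.app W x))
    (p : ℕ) (x : Coh.HH Y M p) : pmMod g β p x = pmMod g' β' p x := by
  subst e
  refine congrArg (fun t => pmMod g t p x) (Scheme.Modules.hom_ext _ _ fun W => ?_)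
  ext z
  refine Eq.trans ?_ (hβ W z).symm
  exact (QCoh.map_id' (M := N) _ _).symm

theorem le_comp_preimage {f : X ⟶ Y} {g : Y ⟶ Z} {U'' : X.Opens} {U' : Y.Opens} {U : Z.Opens}
    (h₁ : U'' ≤ f ⁻¹ᵁ U') (h₂ : U' ≤ g ⁻¹ᵁ U) : U'' ≤ (f ≫ g) ⁻¹ᵁ U :=
  h₁.trans (f.preimage_mono h₂)

theorem comp_push_app (h : X ⟶ Y) (g : Y ⟶ Z) {M : Z.Modules} {N : Y.Modules} {P P' : X.Modules}
    (a : M ⟶ (Scheme.Modules.pushforward g).obj N) (b : N ⟶ (Scheme.Modules.pushforward h).obj P) (c : P ⟶ P')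
    (W : Z.Opens) (z : Γ(M, W)) :
    (show Γ(P', (h ≫ g) ⁻¹ᵁ W) from
      ((a ≫ (Scheme.Modules.pushforward g).map b ≫ (Scheme.Modules.pushforwardComp h g).hom.app P) ≫
        (Scheme.Modules.pushforward (h ≫ g)).map c).app W z) =
      c.app (h ⁻¹ᵁ (g ⁻¹ᵁ W)) (show Γ(P, h ⁻¹ᵁ (g ⁻¹ᵁ W)) from b.app (g ⁻¹ᵁ W) (a.app W z)) :=
  rfl

theorem pullSec_restrict_map (r : X ⟶ Y) (F : Y.Modules) (U : X.Opens) {O : Y.Opens} {W₁ W₂ : U.toScheme.Opens}
    (e : W₂ = W₁) (h₁ : U.ι ''ᵁ W₁ ≤ r ⁻¹ᵁ O) (h₂ : U.ι ''ᵁ W₂ ≤ r ⁻¹ᵁ O) (z : Γ(F, O)) :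
    pullSec r F h₂ z = ((Scheme.Modules.restrictFunctor U.ι).obj ((Scheme.Modules.pullback r).obj F)).presheaf.map
      (eqToHom e).op (show Γ((Scheme.Modules.restrictFunctor U.ι).obj ((Scheme.Modules.pullback r).obj F), W₁) from
        pullSec r F h₁ z) := by
  subst e
  exact (QCoh.map_id' (M := (Scheme.Modules.restrictFunctor U.ι).obj ((Scheme.Modules.pullback r).obj F)) _
    (show Γ((Scheme.Modules.restrictFunctor U.ι).obj ((Scheme.Modules.pullback r).obj F), W₂) from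
      pullSec r F h₂ z)).symm

/-- Pullback of classes composes. -/
theorem pullOn_comp (f : X ⟶ Y) (g : Y ⟶ Z) (U : Z.Opens) (U' : Y.Opens) (U'' : X.Opens)
    (h₁ : U'' ≤ f ⁻¹ᵁ U') (h₂ : U' ≤ g ⁻¹ᵁ U) (F : Z.Modules) (p : ℕ) (x : Coh.HHon Z F U p) :
    CohPull.mapH ((Scheme.Modules.restrictFunctor U''.ι).map ((Scheme.Modules.pullbackComp f g).hom.app F)) p
        (CohPull.pullOn f U' U'' h₁ ((Scheme.Modules.pullback g).obj F) p (CohPull.pullOn g U U' h₂ F p x)) =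
      CohPull.pullOn (f ≫ g) U U'' (le_comp_preimage h₁ h₂) F p x := by
  rw [pullOn_eq_pm, pullOn_eq_pm, pullOn_eq_pm, pmMod_pmMod]
  refine (mapH_pmMod _ _ _ p x).trans ?_
  refine pmMod_congr (Scheme.Hom.resLE_comp_resLE f h₁ g h₂) _ _ (fun W z => ?_) p x
  let G := (Scheme.Modules.pullback g).obj F
  let K := (Scheme.Modules.pullback (f ≫ g)).obj F
  let W' := g.resLE U U' h₂ ⁻¹ᵁ W
  let W'' := f.resLE U' U'' h₁ ⁻¹ᵁ W'
  have h3 : ((Scheme.Modules.pullbackComp f g).hom.app F).app (U''.ι ''ᵁ W'')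
      (pullSec f G (image_preimage_resLE_le f U' U'' h₁ W') (pullSec g F (image_preimage_resLE_le g U U' h₂ W) z)) =
      pullSec (f ≫ g) F
        (le_comp_preimage (image_preimage_resLE_le f U' U'' h₁ W') (image_preimage_resLE_le g U U' h₂ W)) z :=
    ExistEasy.pullSec_comp f g F (image_preimage_resLE_le g U U' h₂ W)
      (image_preimage_resLE_le f U' U'' h₁ W') z
  have h4 := comp_push_app (f.resLE U' U'' h₁) (g.resLE U U' h₂) (onMap g U U' h₂ F) (onMap f U' U'' h₁ G)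
    ((Scheme.Modules.restrictFunctor U''.ι).map ((Scheme.Modules.pullbackComp f g).hom.app F)) W z
  refine Eq.trans ?_ (congrArg _ h4).symm
  rw [onMap_app g, onMap_app f]
  refine Eq.trans ?_ (congrArg _ h3).symm
  refine (onMap_app (f ≫ g) U U'' (le_comp_preimage h₁ h₂) F W z).trans ?_
  exact pullSec_restrict_map (f ≫ g) F U'' (by rw [← Scheme.Hom.resLE_comp_resLE f h₁ g h₂]) _ _ z

/-- Morphisms agreeing on comparison classes are equal. -/
theorem hom_ext_of_eps {S : Scheme.{u}} {f : X ⟶ S} [HasInjectiveResolutions X.Modules]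
    {Δ : RDer.DerivedLES (Scheme.Modules.pushforward f)} (E : CohCmp.SectCmp f Δ) {F : X.Modules} {p : ℕ}
    {N : S.Modules} (α β : (Coh.Rpush f p).obj F ⟶ N)
    (h : ∀ (V : S.Opens) (x : Coh.HHon X F (f ⁻¹ᵁ V) p), α.app V (E.ε V F p x) = β.app V (E.ε V F p x)) :
    α = β := by
  rw [← sub_eq_zero]
  refine Scheme.Modules.hom_ext _ _ fun V => ?_
  ext t
  refine QCoh.eq_zero_of_locally V _ fun y hy => ?_
  obtain ⟨W, hWV, hyW, x, hx⟩ := eps_locally_surjective E F p V t hy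
  refine ⟨W, homOfLE hWV, hyW, ?_⟩
  refine (QCoh.map_app_comm (α - β) (homOfLE hWV) t).symm.trans ?_
  rw [← hx]
  show α.app W (E.ε W F p x) - β.app W (E.ε W F p x) = 0
  rw [h, sub_self]

theorem comp_app_apply {M N P : X.Modules} (a : M ⟶ N) (b : N ⟶ P) (V : X.Opens) (x : Γ(M, V)) :
    (a ≫ b).app V x = b.app V (a.app V x) :=
  rfl

theorem comp3_app_apply {M N P Q : X.Modules} (a : M ⟶ N) (b : N ⟶ P) (c : P ⟶ Q) (V : X.Opens) (x : Γ(M, V)) :
    (a ≫ b ≫ c).app V x = c.app V (b.app V (a.app V x)) :=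
  rfl

theorem unit_map_app (k : X ⟶ Y) {R : Y.Modules} {N : X.Modules} (β : (Scheme.Modules.pullback k).obj R ⟶ N)
    (A : Y.Opens) (z : Γ(R, A)) :
    (show Γ(N, k ⁻¹ᵁ A) from ((Scheme.Modules.pullbackPushforwardAdjunction k).unit.app R ≫
      (Scheme.Modules.pushforward k).map β).app A z) =
      β.app (k ⁻¹ᵁ A) (pullSec k R (le_refl _) z) := by
  refine Eq.trans ?_ (congrArg (β.app (k ⁻¹ᵁ A)) (QCoh.map_id' (M := (Scheme.Modules.pullback k).obj R) _ _).symm)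
  rfl

theorem hom_eq_of_pullSec {S : Scheme.{u}} {f : X ⟶ S} [HasInjectiveResolutions X.Modules]
    {Δ : RDer.DerivedLES (Scheme.Modules.pushforward f)} (E : CohCmp.SectCmp f Δ) {F : X.Modules} {p : ℕ}
    (k : Y ⟶ S) {N : Y.Modules} (α β : (Scheme.Modules.pullback k).obj ((Coh.Rpush f p).obj F) ⟶ N)
    (h : ∀ (A : S.Opens) (x : Coh.HHon X F (f ⁻¹ᵁ A) p),
      α.app (k ⁻¹ᵁ A) (pullSec k ((Coh.Rpush f p).obj F) (le_refl _) (E.ε A F p x)) =
        β.app (k ⁻¹ᵁ A) (pullSec k ((Coh.Rpush f p).obj F) (le_refl _) (E.ε A F p x))) :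
    α = β := by
  apply ((Scheme.Modules.pullbackPushforwardAdjunction k).homEquiv _ _).injective
  refine hom_ext_of_eps E _ _ fun A x => ?_
  rw [Adjunction.homEquiv_unit, Adjunction.homEquiv_unit]
  exact (unit_map_app k α A _).trans ((h A x).trans (unit_map_app k β A _).symm)

end Groth.Agent.CExt24
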