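import Groth.Agent.CExt24.BCAlg
import Groth.Agent.CExt24.PushEdge
import Groth.Agent.QCoh.FlatBC
import Groth.Agent.KFlatLib.Scheme.Grothendieck

/-!
# Pullback of cohomology classes in a cartesian square over affine bases, through a Čech model
-/

set_option autoImplicit false
set_option backward.isDefEq.respectTransparency false
set_option backward.isDefEq.respectTransparency.types false
set_option linter.style.haveILetI false
set_option maxHeartbeats 1000000

universe u

open CategoryTheory CategoryTheory.Limits AlgebraicGeometry TopologicalSpace Opposite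

noncomputable section

namespace Groth.Agent.CExt24

open Groth.Agent.QCoh

variable {A : Type u} [CommRing A] {X : Scheme.{u}} (pA : X ⟶ Spec (CommRingCat.of A))

/-- `P` computes the functor `M ↦ H^p(K ⊗ M)` of a Čech complex `K` of `F`. -/
def HasCechModel (F : X.Modules) (P : ChainComplex (ModuleCat.{u} A) ℤ) : Prop :=
  ∃ (κ : Type u) (_ : Finite κ) (V : κ → X.Opens), (⨆ i, V i = ⊤) ∧
    (∀ {p : ℕ} (σ : Fin (p + 1) → κ), IsAffineOpen (⨅ a, V (σ a))) ∧
    ∀ p : ℕ, Nonempty (CohIII.TFun P (-(p : ℤ)) ⋙ forget₂ (ModuleCat.{u} A) AddCommGrpCat.{u} ≅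
      CohIII.TFun (cxMod (Coh.toGlobal pA) V F) p ⋙ forget₂ (ModuleCat.{u} A) AddCommGrpCat.{u})

variable {B : Type u} [CommRing B] [Algebra A B] {X' : Scheme.{u}} {pA}
  {pB : X' ⟶ Spec (CommRingCat.of B)} {g : X' ⟶ X}

theorem pmMod_endP {M' : X'.Modules} (b : B) (p : ℕ)
    (y : Coh.HH X ((Scheme.Modules.pushforward g).obj M') p) :
    pmMod g (𝟙 ((Scheme.Modules.pushforward g).obj M')) p
        (Sheaf.H.map (endP (Coh.toGlobal pB) g M' b) p y) =
      Sheaf.H.map (smulAbHom M' (Coh.toGlobal pB b)) p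
        (pmMod g (𝟙 ((Scheme.Modules.pushforward g).obj M')) p y) := by
  refine (pm_map g.base (endP (Coh.toGlobal pB) g M' b)
    (abHom g (𝟙 ((Scheme.Modules.pushforward g).obj M'))) p y).trans ?_
  refine Eq.trans ?_ (map_pm g.base (abHom g (𝟙 ((Scheme.Modules.pushforward g).obj M')))
    (smulAbHom M' (Coh.toGlobal pB b)) p y).symm
  rfl

variable (h : IsPullback g pB pA (Spec.map (CommRingCat.ofHom (algebraMap A B))))
include h

/-- Both cohomologies are values of `T`, compatibly with the pullback of classes and the scalars. -/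
theorem exists_bc_core {F : X.Modules} (hF : Coh.IsQCoh F) {P : ChainComplex (ModuleCat.{u} A) ℤ}
    (hP : HasCechModel pA F P) (p : ℕ) :
    ∃ (θ : Coh.HH X F p ≃+ CohIII.T P (-(p : ℤ)) (ModuleCat.of A A))
      (θ' : Coh.HH X' ((Scheme.Modules.pullback g).obj F) p ≃+ CohIII.T P (-(p : ℤ)) (algMod A B)),
      (∀ (a : A) (x : Coh.HH X F p),
        θ (Sheaf.H.map (smulAbHom F (Coh.toGlobal pA a)) p x) = a • θ x) ∧
      (∀ (b : B) (y : Coh.HH X' ((Scheme.Modules.pullback g).obj F) p),
        θ' (Sheaf.H.map (smulAbHom ((Scheme.Modules.pullback g).obj F) (Coh.toGlobal pB b)) p y) =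
          (CohIII.TFun P (-(p : ℤ))).map (mulMap A b) (θ' y)) ∧
      ∀ x : Coh.HH X F p, θ' (CohPull.pullMod g F p x) =
        (CohIII.TFun P (-(p : ℤ))).map (unitMap A B) (θ x) := by
  obtain ⟨κ, _, V, hcov, hV, hT⟩ := hP
  obtain ⟨e⟩ := hT p
  haveI : IsAffineHom g := MorphismProperty.of_isPullback h.flip inferInstance
  let ρ := Coh.toGlobal pA
  let ρ' := Coh.toGlobal pB
  let N := (Scheme.Modules.pullback g).obj F
  let η : F ⟶ (Scheme.Modules.pushforward g).obj N := (Scheme.Modules.pullbackPushforwardAdjunction g).unit.app F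
  have hN : Coh.IsQCoh N := isQCoh_pullback g hF
  have hρ := toGlobal_comm pA pB g h.w
  have hbc : IsBCAt ρ ρ' V g η hρ := fun σ => isAffineBC_of_isPullback h hF _ (hV σ)
  obtain ⟨θ₀, θ₀', h1, h2, h3⟩ := exists_cech_bc ρ ρ' V g η hρ hbc hcov hV hF hN p
  obtain ⟨t₀, t, k1, k2, k3⟩ := exists_tfun_equiv (B := B) (cxMod ρ V F) p
  have hE : Function.Bijective (CohPull.pushEdge g N p) :=
    bijective_pushEdge g N (fun q hq => by
      obtain ⟨q', rfl⟩ := Nat.exists_eq_succ_of_ne_zero hq.ne'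
      exact isZero_Rpush_of_affine g N hN q') p
  let eN := AddEquiv.ofBijective (CohPull.pushEdge g N p) hE
  let eT : ∀ M, CohIII.T (cxMod ρ V F) p M ≃+ CohIII.T P (-(p : ℤ)) M := fun M =>
    (e.app M).symm.addCommGroupIsoToAddEquiv
  have hnat : ∀ {M M' : ModuleCat.{u} A} (φ : M ⟶ M') (z : CohIII.T (cxMod ρ V F) p M),
      eT M' ((CohIII.TFun (cxMod ρ V F) p).map φ z) =
        (CohIII.TFun P (-(p : ℤ))).map φ (eT M z) :=
    fun φ z => ConcreteCategory.congr_hom (e.inv.naturality φ) z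
  refine ⟨θ₀.trans (t₀.trans (eT _)), eN.symm.trans (θ₀'.trans (t.trans (eT _))), fun a x => ?_,
    fun b y => ?_, fun x => ?_⟩
  · show eT _ (t₀ (θ₀ (Sheaf.H.map (smulAbHom F (ρ a)) p x))) = a • eT _ (t₀ (θ₀ x))
    rw [h1, k1]
    refine (congrArg (eT _) (tfun_map_smul p _ a (t₀ (θ₀ x))).symm).trans ?_
    exact (hnat _ _).trans (tfun_map_smul (-(p : ℤ)) _ a _)
  · show eT _ (t (θ₀' (eN.symm _))) = _
    have hy : eN.symm (Sheaf.H.map (smulAbHom N (ρ' b)) p y) =
        Sheaf.H.map (endP ρ' g N b) p (eN.symm y) := by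
      rw [AddEquiv.symm_apply_eq]
      show _ = CohPull.pushEdge g N p (Sheaf.H.map (endP ρ' g N b) p (eN.symm y))
      rw [pushEdge_eq_pm, pmMod_endP]
      refine congrArg (Sheaf.H.map (smulAbHom N (ρ' b)) p) ?_
      rw [← pushEdge_eq_pm]
      exact (eN.apply_symm_apply y).symm
    rw [hy]
    refine (congrArg (fun z => eT (algMod A B) (t z)) (h2 b _)).trans ?_
    refine (congrArg (eT (algMod A B)) (k3 b _)).trans ?_
    exact hnat _ _
  · show eT _ (t (θ₀' (eN.symm (CohPull.pullMod g F p x)))) = _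
    have hx : eN.symm (CohPull.pullMod g F p x) = CohPull.mapH η p x := by
      rw [AddEquiv.symm_apply_eq]
      show _ = CohPull.pushEdge g N p (CohPull.mapH η p x)
      refine Eq.trans ?_ (pushEdge_eq_pm g N p _).symm
      refine Eq.trans ?_ (pmMod_mapH g η (𝟙 ((Scheme.Modules.pushforward g).obj N)) p x).symm
      rw [Category.comp_id]
      exact pullMod_eq_pm g F p x
    rw [hx]
    refine (congrArg (fun z => eT (algMod A B) (t z)) (h3 x)).trans ?_
    refine (congrArg (eT (algMod A B)) (k2 (θ₀ x))).trans ?_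
    exact hnat _ _

end Groth.Agent.CExt24
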