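import Groth.Agent.CExt24.BCCore
import Groth.Agent.QCoh.LocalExchange
import Groth.Agent.FlatCxLib.Reduced
import Groth.Agent.FlatCxLib.TFunctor
import Groth.Agent.FlatCxLib.HomologyBC

/-!
# Cohomology and base change for a complex of finite free modules, over any ring
-/

set_option autoImplicit false
set_option backward.isDefEq.respectTransparency false
set_option backward.isDefEq.respectTransparency.types false
set_option linter.style.haveILetI false
set_option maxHeartbeats 1000000

universe u

open CategoryTheory CategoryTheory.Limits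
open scoped TensorProduct

noncomputable section

namespace Groth.Agent.CExt24

open FlatCxLib (Coker Cyc Hom' tM)

variable {A : Type u} [CommRing A]

/-- A bounded below complex of finite free modules with `T_q = 0` in positive degrees. -/
structure IsFinModel (P : ChainComplex (ModuleCat.{u} A) ℤ) : Prop where
  finite : ∀ i, Module.Finite A (P.X i)
  free : ∀ i, Module.Free A (P.X i)
  bdd : ∃ c : ℤ, ∀ i, i < c → IsZero (P.X i)
  pos : ∀ q : ℤ, 0 < q → ∀ M : ModuleCat.{u} A, IsZero (CohIII.T P q M)

namespace IsFinModel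

variable {P : ChainComplex (ModuleCat.{u} A) ℤ} (hP : IsFinModel P)
include hP

theorem flat (i : ℤ) : Module.Flat A (P.X i) :=
  @Module.Flat.of_free _ _ _ _ _ (hP.free i)

theorem finitePresentation_coker (p q : ℤ) : Module.FinitePresentation A (Coker P p q) := by
  haveI := hP.finite p
  haveI := hP.finite q
  haveI := hP.free q
  haveI : Module.FinitePresentation A (P.X q) := Module.finitePresentation_of_projective A (P.X q)
  refine Module.finitePresentation_of_surjective (LinearMap.range (P.d p q).hom).mkQ
    (Submodule.mkQ_surjective _) ?_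
  rw [Submodule.ker_mkQ]
  exact Module.Finite.iff_fg.1 (Module.Finite.range _)

end IsFinModel

/-- The cokernel of `P_q → P_{q-1}` is free at `x`. -/
def Good (P : ChainComplex (ModuleCat.{u} A) ℤ) (q : ℤ) (x : PrimeSpectrum A) : Prop :=
  x ∈ Module.freeLocus A (Coker P q (q - 1))

variable {P : ChainComplex (ModuleCat.{u} A) ℤ}

theorem exists_tM_repr (q : ℤ) (M : ModuleCat.{u} A) (z : Cyc P q (q - 1)) (m : M) :
    ∃ y, tM (CohIII.TFun P q) M (y ⊗ₜ m) =
      FlatCxLib.cycToT (show q - 1 + 1 = q by lia) M (z ⊗ₜ m) := by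
  refine ⟨FlatCxLib.cycToT (show q - 1 + 1 = q by lia) (ModuleCat.of A A) (z ⊗ₜ (1 : A)), ?_⟩
  rw [FlatCxLib.tM_tmul]
  refine (FlatCxLib.homologyMap_cls (CohIII.tensorMap P (ModuleCat.ofHom
    ((LinearMap.ringLmapEquivSelf A A M).symm m))) (FlatCxLib.next_down (show q - 1 + 1 = q by lia)) _ _).trans ?_
  refine congrArg (FlatCxLib.clsHom (CohIII.tensorObj P M) q (q - 1)
    (FlatCxLib.next_down (show q - 1 + 1 = q by lia))).hom (Subtype.ext ?_)
  show (z : P.X q) ⊗ₜ[A] ((LinearMap.ringLmapEquivSelf A A M).symm m (1 : A)) = (z : P.X q) ⊗ₜ[A] m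
  simp

theorem range_tM (q : ℤ) (M : ModuleCat.{u} A) :
    LinearMap.range (tM (CohIII.TFun P q) M) =
      LinearMap.range (FlatCxLib.cycToT (P := P) (show q - 1 + 1 = q by lia) M) := by
  apply le_antisymm
  · rintro _ ⟨w, rfl⟩
    induction w using TensorProduct.induction_on with
    | zero => rw [map_zero]; exact zero_mem _
    | add a b ha hb => rw [map_add]; exact add_mem ha hb
    | tmul y m =>
      obtain ⟨x, hx, rfl⟩ := FlatCxLib.cls_surjective
        (FlatCxLib.next_down (show q - 1 + 1 = q by lia)) y
      obtain ⟨w, rfl⟩ := (TensorProduct.rid A (P.X q)).symm.surjective x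
      have hw : (P.d q (q - 1)).hom w = 0 := by
        refine (TensorProduct.rid A (P.X (q - 1))).symm.injective ?_
        rw [map_zero]
        exact hx
      refine ⟨(⟨w, hw⟩ : Cyc P q (q - 1)) ⊗ₜ m, ?_⟩
      obtain ⟨y', hy'⟩ : ∃ y', y' = FlatCxLib.cycToT (show q - 1 + 1 = q by lia) (ModuleCat.of A A)
          ((⟨w, hw⟩ : Cyc P q (q - 1)) ⊗ₜ (1 : A)) := ⟨_, rfl⟩
      rw [FlatCxLib.tM_tmul]
      refine Eq.trans ?_ (FlatCxLib.homologyMap_cls (CohIII.tensorMap P (ModuleCat.ofHom
        ((LinearMap.ringLmapEquivSelf A A M).symm m))) (FlatCxLib.next_down (show q - 1 + 1 = q by lia)) _ _).symm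
      refine congrArg (FlatCxLib.clsHom (CohIII.tensorObj P M) q (q - 1)
        (FlatCxLib.next_down (show q - 1 + 1 = q by lia))).hom (Subtype.ext ?_)
      show w ⊗ₜ[A] m = w ⊗ₜ[A] ((LinearMap.ringLmapEquivSelf A A M).symm m (1 : A))
      simp
  · rintro _ ⟨w, rfl⟩
    induction w using TensorProduct.induction_on with
    | zero => rw [map_zero]; exact zero_mem _
    | add a b ha hb => rw [map_add]; exact add_mem ha hb
    | tmul z m =>
      obtain ⟨y, hy⟩ := exists_tM_repr q M z m
      exact ⟨_, hy⟩

/-- `T_q(A) ⊗ M → T_q(M)` is surjective iff the image of `d_q` stays injected after tensoring with `M`. -/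
theorem surjective_tM_iff (q : ℤ) (M : ModuleCat.{u} A) :
    Function.Surjective (tM (CohIII.TFun P q) M) ↔
      Function.Injective ((LinearMap.range (P.d q (q - 1)).hom).subtype.rTensor M) := by
  have hrq : q - 1 + 1 = q := by lia
  rw [← LinearMap.range_eq_top, range_tM, LinearMap.range_eq_top]
  let u' : P.X q →ₗ[A] P.X (q - 1) := (P.d q (q - 1)).hom
  have hex : Function.Exact (Cyc P q (q - 1)).subtype u'.rangeRestrict := by
    rw [LinearMap.exact_iff, LinearMap.ker_rangeRestrict, Submodule.range_subtype]
  have hc : ∀ z, (LinearMap.range u').subtype.rTensor M (u'.rangeRestrict.rTensor M z) = u'.rTensor M z := fun z => by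
    rw [← LinearMap.comp_apply, ← LinearMap.rTensor_comp]; rfl
  constructor
  · intro h
    rw [injective_iff_map_eq_zero]
    intro y hy
    obtain ⟨x, rfl⟩ := LinearMap.rTensor_surjective M u'.surjective_rangeRestrict y
    rw [hc] at hy
    obtain ⟨t, ht⟩ := h (FlatCxLib.cls (CohIII.tensorObj P M) q (q - 1) (FlatCxLib.next_down hrq) x hy)
    have ht' : (Cyc P q (q - 1)).subtype.rTensor M t - x ∈
        LinearMap.range ((P.d (q + 1) q).hom.rTensor M) :=
      (FlatCxLib.cls_eq_iff (K := CohIII.tensorObj P M) (FlatCxLib.prev_down (show q + 1 = q + 1 from rfl))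
        (FlatCxLib.next_down hrq) _ _ _ _).1 ht
    obtain ⟨w, hw⟩ := ht'
    have e : x = (Cyc P q (q - 1)).subtype.rTensor M t - (P.d (q + 1) q).hom.rTensor M w := by
      rw [hw, sub_sub_cancel]
    rw [e, map_sub, ← LinearMap.comp_apply, ← LinearMap.rTensor_comp, hex.linearMap_comp_eq_zero,
      LinearMap.rTensor_zero, LinearMap.zero_apply, ← LinearMap.comp_apply, ← LinearMap.rTensor_comp]
    have h0 : u'.rangeRestrict ∘ₗ (P.d (q + 1) q).hom = 0 := LinearMap.ext fun a => Subtype.ext
      (LinearMap.congr_fun (ModuleCat.hom_ext_iff.1 (P.d_comp_d (q + 1) q (q - 1))) a)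
    rw [h0, LinearMap.rTensor_zero, LinearMap.zero_apply, sub_zero]
  · intro h a
    obtain ⟨x, hx, rfl⟩ := FlatCxLib.cls_surjective (FlatCxLib.next_down hrq) a
    have hxr : u'.rangeRestrict.rTensor M x = 0 := h (((hc x).trans hx).trans (map_zero _).symm)
    obtain ⟨t, ht⟩ := (rTensor_exact M hex u'.surjective_rangeRestrict x).1 hxr
    exact ⟨t, congrArg (FlatCxLib.clsHom (CohIII.tensorObj P M) q (q - 1)
      (FlatCxLib.next_down hrq)).hom (Subtype.ext ht)⟩

/-- Restricting along a field homomorphism of residue fields. -/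
theorem injective_rTensor_of_field {k : Type u} [Field k] {A' : Type u} [CommRing A'] [IsLocalRing A']
    [Algebra A' k] (hk : RingHom.ker (algebraMap A' k) = IsLocalRing.maximalIdeal A')
    {M N : Type u} [AddCommGroup M] [Module A' M] [AddCommGroup N] [Module A' N] (i : M →ₗ[A'] N)
    (h : Function.Injective (i.lTensor k)) :
    Function.Injective (i.lTensor (IsLocalRing.ResidueField A')) := by
  let ι : IsLocalRing.ResidueField A' →+* k :=
    Ideal.Quotient.lift _ (algebraMap A' k) fun a ha => RingHom.mem_ker.1 (hk.ge ha)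
  letI := ι.toAlgebra
  haveI : IsScalarTower A' (IsLocalRing.ResidueField A') k := .of_algebraMap_eq fun _ => rfl
  obtain ⟨r, hr⟩ := (Algebra.linearMap (IsLocalRing.ResidueField A') k).exists_leftInverse_of_injective
    (LinearMap.ker_eq_bot.2 ι.injective)
  have hsplit : (r.restrictScalars A') ∘ₗ
      ((Algebra.linearMap (IsLocalRing.ResidueField A') k).restrictScalars A') = LinearMap.id :=
    LinearMap.ext fun x => LinearMap.congr_fun hr x
  let j := (Algebra.linearMap (IsLocalRing.ResidueField A') k).restrictScalars A'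
  rw [injective_iff_map_eq_zero]
  intro z hz
  have h1 : i.lTensor k (j.rTensor M z) = 0 := by
    rw [← LinearMap.comp_apply, LinearMap.lTensor_comp_rTensor, ← LinearMap.rTensor_comp_lTensor,
      LinearMap.comp_apply, hz, map_zero]
  have h2 : j.rTensor M z = 0 := h (h1.trans (map_zero _).symm)
  have h3 := congrArg ((r.restrictScalars A').rTensor M) h2
  rw [← LinearMap.comp_apply, ← LinearMap.rTensor_comp, hsplit, LinearMap.rTensor_id, map_zero] at h3
  exact h3

variable {k : Type u} [Field k] [Algebra A k]

/-- Over a field at `x`, injectivity of the image is freeness of the cokernel at `x`. -/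
theorem injective_range_iff_good (hP : IsFinModel P) (q : ℤ) (x : PrimeSpectrum A)
    (hx : RingHom.ker (algebraMap A k) = x.asIdeal) :
    Function.Injective ((LinearMap.range (P.d q (q - 1)).hom).subtype.rTensor k) ↔ Good P q x := by
  let A' := Localization.AtPrime x.asIdeal
  have hu : ∀ a : x.asIdeal.primeCompl, IsUnit (algebraMap A k a) := fun a =>
    isUnit_iff_ne_zero.2 fun h => a.2 (hx.le (RingHom.mem_ker.2 h))
  let π : A' →+* k := IsLocalization.lift hu
  letI : Algebra A' k := π.toAlgebra
  haveI : IsScalarTower A A' k := .of_algebraMap_eq fun a => (IsLocalization.lift_eq hu a).symm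
  have hker : RingHom.ker (algebraMap A' k) = IsLocalRing.maximalIdeal A' := by
    refine le_antisymm (IsLocalRing.le_maximalIdeal (RingHom.ker_ne_top _)) fun a ha => ?_
    obtain ⟨b, s, rfl⟩ := IsLocalization.exists_mk'_eq x.asIdeal.primeCompl a
    rw [IsLocalization.AtPrime.mk'_mem_maximal_iff (S := A') x.asIdeal] at ha
    rw [RingHom.mem_ker]
    show π (IsLocalization.mk' A' b s) = 0
    rw [IsLocalization.lift_mk', RingHom.mem_ker.1 (hx.ge ha)]
    exact zero_mul _
  let u' := LinearMap.range (P.d q (q - 1)).hom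
  let i := u'.subtype.baseChange A'
  let g := u'.mkQ.baseChange A'
  haveI := hP.finite q
  haveI := hP.finite (q - 1)
  haveI := hP.free (q - 1)
  haveI : Module.Finite A u' := Module.Finite.range _
  have hg : Function.Surjective g := LinearMap.lTensor_surjective A' u'.mkQ_surjective
  have hex : Function.Exact i g := lTensor_exact A' (LinearMap.exact_subtype_mkQ _) u'.mkQ_surjective
  have hi : Function.Injective i :=
    Module.Flat.lTensor_preserves_injective_linearMap (M := A') _ u'.injective_subtype
  have hiff : Function.Injective (u'.subtype.rTensor k) ↔ Function.Injective (i.lTensor k) := by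
    rw [← LinearMap.lTensor_inj_iff_rTensor_inj]
    let e₁ := TensorProduct.AlgebraTensorModule.cancelBaseChange A A' A' k u'
    let e₂ := TensorProduct.AlgebraTensorModule.cancelBaseChange A A' A' k (P.X (q - 1))
    have hc : ∀ z, e₂ (i.lTensor k z) = u'.subtype.lTensor k (e₁ z) := fun z => by
      induction z using TensorProduct.induction_on with
      | zero => simp
      | add a b ha hb => simp only [map_add, ha, hb]
      | tmul c w =>
        induction w using TensorProduct.induction_on with
        | zero => simp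
        | add a b ha hb => simp only [TensorProduct.tmul_add, map_add, ha, hb]
        | tmul a m => rfl
    refine Iff.trans ?_ (EquivLike.comp_injective (i.lTensor k) e₂)
    rw [show e₂ ∘ i.lTensor k = u'.subtype.lTensor k ∘ e₁ from funext hc]
    exact (EquivLike.injective_comp e₁ _).symm
  rw [Good, Module.mem_freeLocus_iff_tensor x A', hiff]
  constructor
  · intro h
    exact Module.free_of_lTensor_residueField_injective i g hg hex (injective_rTensor_of_field hker i h)
  · intro h
    rw [LinearMap.lTensor_inj_iff_rTensor_inj]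
    exact CAlgUI.ui_of_flat_quotient hi hex hg k

/-- Over a field at `x`, surjectivity of `T_q(A) ⊗ k → T_q(k)` is goodness at `x`. -/
theorem surjective_tM_field_iff (hP : IsFinModel P) (q : ℤ) (x : PrimeSpectrum A)
    (hx : RingHom.ker (algebraMap A k) = x.asIdeal) :
    Function.Surjective (tM (CohIII.TFun P q) (algMod A k)) ↔ Good P q x :=
  (surjective_tM_iff q (algMod A k)).trans (injective_range_iff_good hP q x hx)

theorem isOpen_good (hP : IsFinModel P) (q : ℤ) : IsOpen {x | Good P q x} :=
  haveI := hP.finitePresentation_coker q (q - 1)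
  Module.isOpen_freeLocus

theorem flat_coker_of_good (hP : IsFinModel P) {q : ℤ} (h : ∀ x, Good P q x) :
    Module.Flat A (Coker P q (q - 1)) :=
  haveI := hP.finitePresentation_coker q (q - 1)
  haveI : Module.Projective A (Coker P q (q - 1)) :=
    Module.freeLocus_eq_univ_iff.1 (Set.eq_univ_of_forall h)
  inferInstance

theorem bijective_tM_of_good (hP : IsFinModel P) {q : ℤ} (h : ∀ x, Good P q x) (M : ModuleCat.{u} A) :
    Function.Bijective (tM (CohIII.TFun P q) M) := by
  haveI := flat_coker_of_good hP h
  have he := (FlatCxLib.preservesEpi_iff hP.flat (show q - 1 + 1 = q by lia)).2 inferInstance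
  have := fun J : Type u => FlatCxLib.preservesColimitsOfShape_tfun P q J
  refine (FlatCxLib.rightExact_iff (CohIII.TFun P q)).1.1 ?_ M
  exact (FlatCxLib.rightExact_iff (CohIII.TFun P q)).2.2 ⟨FlatCxLib.halfExact_tfun hP.flat q,
    fun N => FlatCxLib.surjective_tM_of_epi _ (fun f hf => he.preserves f) N⟩

theorem good_of_flat_coker (hP : IsFinModel P) {q : ℤ} [Module.Flat A (Coker P q (q - 1))] (x : PrimeSpectrum A) :
    Good P q x := by
  haveI := hP.finite (q - 1)
  exact (Module.freeLocus_eq_univ (R := A) (M := Coker P q (q - 1))).ge (Set.mem_univ x)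

theorem good_top (hP : IsFinModel P) {q : ℤ} (hq : 0 < q) (x : PrimeSpectrum A) : Good P q x := by
  haveI : Module.Flat A (Coker P q (q - 1)) := by
    refine (FlatCxLib.preservesEpi_iff hP.flat (show q - 1 + 1 = q by lia)).1 ⟨fun {M N} f _ => ?_⟩
    exact (ModuleCat.epi_iff_surjective _).2 fun y =>
      ⟨0, @Subsingleton.elim _ (ModuleCat.subsingleton_of_isZero (hP.pos q hq N)) _ _⟩
  exact good_of_flat_coker hP x

theorem exists_good_bottom (hP : IsFinModel P) : ∃ c : ℤ, ∀ q, q < c → ∀ x, Good P q x := by
  obtain ⟨c, hc⟩ := hP.bdd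
  refine ⟨c, fun q hq x => ?_⟩
  haveI : Subsingleton (P.X (q - 1)) := ModuleCat.subsingleton_of_isZero (hc _ (by lia))
  exact good_of_flat_coker hP x

/-- Homology of the layer above a good layer. -/
theorem homology_facts (hP : IsFinModel P) {q : ℤ} (h : ∀ x, Good P q x) :
    Module.FinitePresentation A (Hom' P (q + 1) q (q - 1)) ∧
      ∀ x, (Good P (q + 1) x ↔ x ∈ Module.freeLocus A (Hom' P (q + 1) q (q - 1))) ∧
        CohIII.dRank P q x = FlatCxLib.fibreRank (Hom' P (q + 1) q (q - 1)) x := by
  haveI := flat_coker_of_good hP h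
  haveI := hP.finitePresentation_coker q (q - 1)
  haveI := hP.finitePresentation_coker (q + 1) q
  haveI := hP.finite q
  haveI := hP.finite (q - 1)
  haveI := hP.free (q - 1)
  let I := LinearMap.range (P.d q (q - 1)).hom
  haveI : Module.Finite A I := Module.Finite.range _
  haveI : Module.Flat A I := FlatCxLib.flat_range P q (q - 1) hP.flat
  haveI : Module.Projective A (Coker P q (q - 1)) := Module.Flat.projective_of_finitePresentation
  obtain ⟨s, hs⟩ := Module.projective_lifting_property I.mkQ LinearMap.id I.mkQ_surjective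
  haveI : Module.Projective A I := by
    refine Module.Projective.of_split I.subtype
      (LinearMap.codRestrict I (LinearMap.id - s ∘ₗ I.mkQ) fun v => ?_) (LinearMap.ext fun v => Subtype.ext ?_)
    · refine (Submodule.Quotient.mk_eq_zero I).1 ?_
      show I.mkQ (v - s (I.mkQ v)) = 0
      rw [map_sub, ← LinearMap.comp_apply, hs, LinearMap.id_apply, sub_self]
    · show (v : P.X (q - 1)) - s (I.mkQ v) = v
      rw [show I.mkQ (v : P.X (q - 1)) = 0 from (Submodule.Quotient.mk_eq_zero I).2 v.2, map_zero, sub_zero]
  let H := Hom' P (q + 1) q (q - 1)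
  let j := FlatCxLib.hom'ToCoker P (q + 1) q (q - 1)
  let π := (FlatCxLib.cokerDesc P (q + 1) q (q - 1)).rangeRestrict
  have hr : LinearMap.range (FlatCxLib.cokerDesc P (q + 1) q (q - 1)) = I :=
    FlatCxLib.range_cokerDesc P (q + 1) q (q - 1)
  haveI : Module.Projective A (LinearMap.range (FlatCxLib.cokerDesc P (q + 1) q (q - 1))) :=
    Module.Projective.of_equiv (LinearEquiv.ofEq _ _ hr.symm)
  have hj := FlatCxLib.hom'ToCoker_injective P (q + 1) q (q - 1)
  have hjπ : Function.Exact j π := FlatCxLib.exact_hom'ToCoker P (q + 1) q (q - 1)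
  obtain ⟨σ, hσ⟩ := Module.projective_lifting_property π LinearMap.id (LinearMap.surjective_rangeRestrict _)
  obtain ⟨e, he1, he2⟩ := (Function.Exact.splitSurjectiveEquiv hjπ hj ⟨σ, hσ⟩)
  let R' := LinearMap.range (FlatCxLib.cokerDesc P (q + 1) q (q - 1))
  haveI : Module.Finite A R' := Module.Finite.equiv (LinearEquiv.ofEq _ _ hr.symm)
  haveI : Module.FinitePresentation A R' := Module.finitePresentation_of_projective A R'
  haveI hHfp : Module.FinitePresentation A H := by
    haveI : Module.FinitePresentation A (H × R') :=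
      Module.FinitePresentation.of_equiv e
    refine Module.finitePresentation_of_surjective (LinearMap.fst A H R') LinearMap.fst_surjective ?_
    rw [LinearMap.ker_fst]
    exact Module.Finite.iff_fg.1 (Module.Finite.range _)
  refine ⟨hHfp, fun x => ⟨?_, FlatCxLib.dRank_eq_fibreRank P hP.flat rfl (show q - 1 + 1 = q by lia) x⟩⟩
  rw [Good, show q + 1 - 1 = q by lia, Module.freeLocus_congr e]
  let A' := Localization.AtPrime x.asIdeal
  rw [Module.mem_freeLocus_iff_tensor x A', Module.mem_freeLocus_iff_tensor x A']
  let ep := TensorProduct.prodRight A A' A' H R'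
  constructor
  · intro hfree
    haveI : Module.Free A' ((A' ⊗[A] H) × (A' ⊗[A] R')) := Module.Free.of_equiv ep
    haveI : Module.Projective A' (A' ⊗[A] H) :=
      Module.Projective.of_split (LinearMap.inl A' (A' ⊗[A] H) (A' ⊗[A] R')) (LinearMap.fst A' _ _)
        (LinearMap.ext fun _ => rfl)
    exact Module.free_of_flat_of_isLocalRing
  · intro hfree
    haveI : Module.Free A' (A' ⊗[A] R') := Module.free_of_flat_of_isLocalRing
    exact Module.Free.of_equiv ep.symm

end Groth.Agent.CExt24
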