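import Groth.Agent.CExt24.BCIso
import Groth.Agent.CExt24.ModelAlg
import Groth.Agent.QCoh.Support

/-!
# The fibre over a point through a Čech model on an affine neighbourhood
-/

set_option autoImplicit false
set_option backward.isDefEq.respectTransparency false
set_option backward.isDefEq.respectTransparency.types false
set_option linter.style.haveILetI false
set_option maxHeartbeats 1000000

universe u

open CategoryTheory CategoryTheory.Limits AlgebraicGeometry TopologicalSpace Opposite

noncomputable section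

namespace Groth.Agent.CExt24

open Groth.Agent.QCoh (smulAbHom overSpec)

variable {X S : Scheme.{u}} (f : X ⟶ S) {V : S.Opens} (hV : IsAffineOpen V) {s : S} (hs : s ∈ V)

theorem ker_evaluation : RingHom.ker (S.evaluation V s hs).hom = (hV.primeIdealOf ⟨s, hs⟩).asIdeal := by
  ext a
  rw [RingHom.mem_ker]
  show S.evaluation V s hs a = 0 ↔ _
  rw [Scheme.evaluation_eq_zero_iff_notMem_basicOpen _ _ hs, QCoh.mem_basicOpen_iff_notMem hV hs, not_not]

theorem specMap_evaluation :
    Spec.map (S.evaluation V s hs) ≫ hV.fromSpec = S.fromSpecResidueField s := by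
  rw [← Scheme.germ_residue, Spec.map_comp, Category.assoc]
  show Spec.map (S.residue s) ≫ hV.fromSpecStalk hs = _
  rw [hV.fromSpecStalk_eq_fromSpecStalk hs]
  rfl

include hs in
theorem range_fiberι_subset : Set.range (f.fiberι s) ⊆ Set.range (f ⁻¹ᵁ V).ι := by
  rintro _ ⟨z, rfl⟩
  rw [Scheme.Opens.range_ι]
  show f (f.fiberι s z) ∈ V
  have e := congr($(f.fiber_fac s) z)
  rw [Scheme.Hom.comp_apply, Scheme.Hom.comp_apply, Scheme.fromSpecResidueField_apply] at e
  exact e.symm ▸ hs

/-- The fibre mapped into the preimage of a neighbourhood. -/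
def fibreLift : f.fiber s ⟶ (f ⁻¹ᵁ V : X.Opens) :=
  IsOpenImmersion.lift (f ⁻¹ᵁ V).ι (f.fiberι s) (range_fiberι_subset f hs)

theorem fibreLift_ι : fibreLift f hs ≫ (f ⁻¹ᵁ V).ι = f.fiberι s :=
  IsOpenImmersion.lift_fac _ _ _

theorem isPullback_fibreLift :
    IsPullback (fibreLift f hs) (f.fiberToSpecResidueField s) (overSpec f hV)
      (Spec.map (S.evaluation V s hs)) := by
  have hB : IsPullback (f ⁻¹ᵁ V).ι (overSpec f hV) f hV.fromSpec := by
    refine (isPullback_morphismRestrict f V).flip.of_iso (Iso.refl _) (Iso.refl _) hV.isoSpec (Iso.refl _)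
      ?_ ?_ ?_ ?_
    · simp
    · simp [overSpec]
    · simp
    · simp [IsAffineOpen.isoSpec_hom_fromSpec]
  have hC : IsPullback (fibreLift f hs ≫ (f ⁻¹ᵁ V).ι) (f.fiberToSpecResidueField s) f
      (Spec.map (S.evaluation V s hs) ≫ hV.fromSpec) := by
    rw [fibreLift_ι, specMap_evaluation]
    exact IsPullback.of_hasPullback _ _
  refine hC.of_right ?_ hB
  rw [← cancel_mono hV.fromSpec, Category.assoc, QCoh.overSpec_fromSpec, ← Category.assoc,
    fibreLift_ι, f.fiber_fac s, Category.assoc, specMap_evaluation]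

/-- The restriction to the fibre, through the neighbourhood. -/
def fibreModIso (F : X.Modules) :
    (Scheme.Modules.pullback (fibreLift f hs)).obj (F.restrict (f ⁻¹ᵁ V).ι) ≅ CohIII.fiberMod f F s :=
  (Scheme.Modules.pullback (fibreLift f hs)).mapIso
      ((Scheme.Modules.restrictFunctorIsoPullback (f ⁻¹ᵁ V).ι).app F) ≪≫
    (Scheme.Modules.pullbackComp (fibreLift f hs) (f ⁻¹ᵁ V).ι).app F ≪≫
    (Scheme.Modules.pullbackCongr (fibreLift_ι f hs)).app F

variable {F : X.Modules} {P : ChainComplex (ModuleCat.{u} Γ(S, V)) ℤ}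

/-- The cohomology of the fibre is that of the base change of the model to the residue field. -/
theorem nonempty_fiberH_equiv (hF : Coh.IsQCoh F)
    (hP : HasCechModel (overSpec f hV) (F.restrict (f ⁻¹ᵁ V).ι) P) (p : ℕ) :
    Nonempty (CohIII.fiberH f F s p ≃ₗ[S.residueField s]
      (CohIII.bcCx (S.evaluation V s hs).hom P).homology (-(p : ℤ))) := by
  letI : Algebra Γ(S, V) (S.residueField s) := (S.evaluation V s hs).hom.toAlgebra
  have hsq : IsPullback (fibreLift f hs) (f.fiberToSpecResidueField s) (overSpec f hV)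
      (Spec.map (CommRingCat.ofHom (algebraMap Γ(S, V) (S.residueField s)))) := isPullback_fibreLift f hV hs
  obtain ⟨θ, θ', -, h2, -⟩ := exists_bc_core (B := S.residueField s) hsq (QCoh.isQCoh_restrict (f ⁻¹ᵁ V).ι hF) hP p
  obtain ⟨t₀, t, -, -, k3⟩ := exists_tfun_equiv (B := S.residueField s) P (-(p : ℤ))
  let ei := mapHEquiv (fibreModIso f hs F) p
  refine ⟨{ ei.symm.trans (θ'.trans t.symm) with map_smul' := fun r x => ?_ }⟩
  show t.symm (θ' (ei.symm (r • x))) = r • t.symm (θ' (ei.symm x))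
  rw [AddEquiv.symm_apply_eq, k3, AddEquiv.apply_symm_apply]
  have e1 : ei.symm (r • x) = Sheaf.H.map (smulAbHom _ (Coh.toGlobal (f.fiberToSpecResidueField s) r)) p
      (ei.symm x) := by
    rw [AddEquiv.symm_apply_eq]
    show _ = CohPull.mapH (fibreModIso f hs F).hom p _
    rw [map_smul_mapH]
    refine congrArg (Sheaf.H.map (smulAbHom (CohIII.fiberMod f F s) (Coh.toGlobal (f.fiberToSpecResidueField s) r)) p) ?_
    exact (ei.apply_symm_apply x).symm
  rw [e1]
  exact h2 r _

theorem fiberRank_eq_dRank (hF : Coh.IsQCoh F)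
    (hP : HasCechModel (overSpec f hV) (F.restrict (f ⁻¹ᵁ V).ι) P) (p : ℕ) :
    CohIII.fiberRank f F p s = CohIII.dRank P (-(p : ℤ)) (hV.primeIdealOf ⟨s, hs⟩) := by
  obtain ⟨e⟩ := nonempty_fiberH_equiv f hV hs hF hP p
  exact e.finrank_eq.trans (QCoh.finrank_bc_eq_dRank (S.evaluation V s hs).hom P (hV.primeIdealOf ⟨s, hs⟩)
    (ker_evaluation hV hs) _)

theorem subsingleton_fiberH_iff_dRank (hF : Coh.IsQCoh F) (hfin : ∀ i, Module.Finite Γ(S, V) (P.X i))
    (hP : HasCechModel (overSpec f hV) (F.restrict (f ⁻¹ᵁ V).ι) P) (p : ℕ) :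
    Subsingleton (CohIII.fiberH f F s p) ↔ CohIII.dRank P (-(p : ℤ)) (hV.primeIdealOf ⟨s, hs⟩) = 0 := by
  obtain ⟨e⟩ := nonempty_fiberH_equiv f hV hs hF hP p
  haveI := QCoh.finite_homology_bc (S.evaluation V s hs).hom P hfin (-(p : ℤ))
  haveI : Module.Finite (S.residueField s) (CohIII.fiberH f F s p) := Module.Finite.equiv e.symm
  rw [← fiberRank_eq_dRank f hV hs hF hP]
  exact Module.finrank_zero_iff.symm

variable [HasInjectiveResolutions X.Modules] [HasInjectiveResolutions (f.fiber s).Modules]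
  [QuasiCompact f] [QuasiSeparated f]
  {Δ : RDer.DerivedLES (Scheme.Modules.pushforward f)}
  {Δs : RDer.DerivedLES (Scheme.Modules.pushforward (f.fiberToSpecResidueField s))}
  {E : CohCmp.SectCmp f Δ} {Es : CohCmp.SectCmp (f.fiberToSpecResidueField s) Δs}

/-- The base change map to the fibre is epi iff the model is good at the point. -/
theorem epi_fibre_bc_iff_good
    (Bs : CohCmp.GenBC f (S.fromSpecResidueField s) (f.fiberToSpecResidueField s) (f.fiberι s)
      (f.fiber_fac s) E Es) (hF : Coh.IsQCoh F) (hfm : IsFinModel P)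
    (hP : HasCechModel (overSpec f hV) (F.restrict (f ⁻¹ᵁ V).ι) P) (p : ℕ) :
    Epi (Bs.bc p F) ↔ Good P (-(p : ℤ)) (hV.primeIdealOf ⟨s, hs⟩) := by
  let g := S.fromSpecResidueField s
  have hle : (⊤ : (Spec (S.residueField s)).Opens) ≤ g ⁻¹ᵁ V := fun z _ => by
    show g z ∈ V
    rwa [Scheme.fromSpecResidueField_apply]
  have hsq : IsPullback (f.fiberι s) (f.fiberToSpecResidueField s) f g := IsPullback.of_hasPullback _ _
  rw [epi_bc_iff_surjective_tM hsq Bs hF p hV hle hP]
  letI : Algebra Γ(S, V) Γ(Spec (S.residueField s), ⊤) := (g.appLE V ⊤ hle).hom.toAlgebra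
  have hfield : IsField Γ(Spec (S.residueField s), ⊤) :=
    (Scheme.ΓSpecIso (S.residueField s)).commRingCatIsoToRingEquiv.toMulEquiv.isField
      (Field.toIsField (S.residueField s))
  letI := hfield.toField
  refine surjective_tM_field_iff hfm _ _ ?_
  ext a
  rw [RingHom.mem_ker]
  show g.appLE V ⊤ hle a = 0 ↔ _
  have hb : (Spec (S.residueField s)).basicOpen (g.appLE V ⊤ hle a) = ⊤ ⊓ g ⁻¹ᵁ S.basicOpen a :=
    Scheme.basicOpen_appLE g ⊤ V hle a
  rw [← not_iff_not, ← QCoh.mem_basicOpen_iff_notMem hV hs]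
  constructor
  · intro ha
    have hu : IsUnit (g.appLE V ⊤ hle a) := isUnit_iff_ne_zero.2 ha
    rw [Scheme.basicOpen_of_isUnit _ hu] at hb
    have := hb.le (show IsLocalRing.closedPoint (S.residueField s) ∈ (⊤ : (Spec (S.residueField s)).Opens) from trivial)
    have h2 : g (IsLocalRing.closedPoint (S.residueField s)) ∈ S.basicOpen a := this.2
    rwa [Scheme.fromSpecResidueField_apply] at h2
  · intro ha h0
    rw [h0, Scheme.basicOpen_zero] at hb
    exact hb.ge (show IsLocalRing.closedPoint (S.residueField s) ∈ ⊤ ⊓ g ⁻¹ᵁ S.basicOpen a from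
      ⟨trivial, by show g _ ∈ S.basicOpen a; rwa [Scheme.fromSpecResidueField_apply]⟩)

end Groth.Agent.CExt24
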