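import Groth.Agent.CExt24.ResMap

/-!
# Pullback of classes followed by restriction is pullback of classes
-/

set_option autoImplicit false
set_option backward.isDefEq.respectTransparency false
set_option backward.isDefEq.respectTransparency.types false
set_option linter.style.haveILetI false
set_option maxHeartbeats 1000000
set_option maxRecDepth 4000

universe u

open CategoryTheory CategoryTheory.Limits AlgebraicGeometry TopologicalSpace Opposite

noncomputable section

namespace Groth.Agent.CExt24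

variable {X Y : Scheme.{u}}

/-- Maps along equal morphisms which agree on sections induce the same map on cohomology. -/
theorem pmMod_ext {g₁ g₂ : X ⟶ Y} (e : g₁ = g₂) {M : Y.Modules} {N : X.Modules}
    (β₁ : M ⟶ (Scheme.Modules.pushforward g₁).obj N) (β₂ : M ⟶ (Scheme.Modules.pushforward g₂).obj N)
    (hβ : ∀ (W : Y.Opens) (x : Γ(M, W)),
      N.presheaf.map (homOfLE (le_of_eq (by rw [e]) : g₂ ⁻¹ᵁ W ≤ g₁ ⁻¹ᵁ W)).op (β₁.app W x) =
        β₂.app W x) (p : ℕ) (x : Coh.HH Y M p) :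
    pmMod g₁ β₁ p x = pmMod g₂ β₂ p x := by
  subst e
  have : β₁ = β₂ := Scheme.Modules.hom_ext _ _ fun W => by
    ext z
    exact (QCoh.map_id' (M := N) _ _).symm.trans (hβ W z)
  rw [this]

/-- The pullback of classes commutes with restriction upstairs. -/
theorem resLE_pullOn (g : X ⟶ Y) (U : Y.Opens) {U₁ U₂ : X.Opens} (h₁ : U₁ ≤ g ⁻¹ᵁ U) (h : U₂ ≤ U₁)
    (F : Y.Modules) (p : ℕ) (x : Coh.HHon Y F U p) :
    CohPull.resLE ((Scheme.Modules.pullback g).obj F) h p (CohPull.pullOn g U U₁ h₁ F p x) =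
      CohPull.pullOn g U U₂ (h.trans h₁) F p x := by
  rw [pullOn_eq_pm, resLE_eq_pm, pmMod_pmMod, pullOn_eq_pm]
  have e : (𝟙 X : X ⟶ X).resLE U₁ U₂ (le_id_preimage h) ≫ g.resLE U U₁ h₁ =
      g.resLE U U₂ (h.trans h₁) := by
    rw [Scheme.Hom.resLE_comp_resLE]
    simp only [Category.id_comp]
  refine pmMod_ext e _ _ (fun W z => ?_) p x
  let r := g.resLE U U₁ h₁
  let i' := (𝟙 X : X ⟶ X).resLE U₁ U₂ (le_id_preimage h)
  let G := (Scheme.Modules.pullback g).obj F
  let w : Γ(G, U₁.ι ''ᵁ (r ⁻¹ᵁ W)) :=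
    QCoh.pullSec g F (image_preimage_resLE_le g U U₁ h₁ W) (show Γ(F, U.ι ''ᵁ W) from z)
  have h1 : (onMap g U U₁ h₁ F).app W z = w := onMap_app g U U₁ h₁ F W z
  have h2 : (resMap h G).app (r ⁻¹ᵁ W) w =
      G.presheaf.map (homOfLE (image_preimage_resLE_id_le h (r ⁻¹ᵁ W))).op w := resMap_app h G (r ⁻¹ᵁ W) w
  let W₂ : U₂.toScheme.Opens := g.resLE U U₂ (h.trans h₁) ⁻¹ᵁ W
  have hle : W₂ ≤ i' ⁻¹ᵁ (r ⁻¹ᵁ W) := le_of_eq (by rw [← Scheme.Hom.comp_preimage, e])
  have h3 : G.presheaf.map (homOfLE (U₂.ι.image_mono hle)).op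
      (G.presheaf.map (homOfLE (image_preimage_resLE_id_le h (r ⁻¹ᵁ W))).op w) =
      QCoh.pullSec g F (image_preimage_resLE_le g U U₂ (h.trans h₁) W) (show Γ(F, U.ι ''ᵁ W) from z) := by
    refine (QCoh.map_map _ _ _).trans ?_
    show G.presheaf.map _ (QCoh.pullSec g F _ _) = _
    unfold QCoh.pullSec
    exact (QCoh.map_map _ _ _).trans (congrArg (fun i => G.presheaf.map i _) (Subsingleton.elim _ _))
  refine Eq.trans ?_ (h3.trans (onMap_app g U U₂ (h.trans h₁) F W z).symm)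
  refine (congrArg (fun t => (G.restrict U₂.ι).presheaf.map (homOfLE hle).op ((resMap h G).app (r ⁻¹ᵁ W) t)) h1).trans ?_
  exact congrArg (fun t => G.presheaf.map (homOfLE (U₂.ι.image_mono hle)).op t) h2

end Groth.Agent.CExt24
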