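import Groth.Agent.CExt24.SectEps
import Groth.Agent.QCoh.RpushAbGod

/-!
# The comparison over affine opens of the base is bijective
-/

set_option autoImplicit false
set_option backward.isDefEq.respectTransparency false
set_option backward.isDefEq.respectTransparency.types false
set_option linter.style.haveILetI false
set_option maxHeartbeats 2000000

universe u

open CategoryTheory CategoryTheory.Limits AlgebraicGeometry TopologicalSpace Opposite

noncomputable section

namespace Groth.Agent.CExt24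

variable {X Y : Scheme.{u}} {f : X ⟶ Y} [HasInjectiveResolutions X.Modules]
  {Δ : RDer.DerivedLES (Scheme.Modules.pushforward f)} (E : CohCmp.SectCmp f Δ)

/-- A step of dimension shifting. -/
theorem eps_bijective_shift (V : Y.Opens) {S : ShortComplex X.Modules} (hS : S.ShortExact) (p : ℕ)
    (hfl : QCoh.IsFlasqueMod S.X₂) (h : Function.Bijective (E.ε V S.X₃ (p + 1))) :
    Function.Bijective (E.ε V S.X₁ (p + 2)) := by
  haveI := epi_δ (Δ := Δ) S hS (p + 1) (QCoh.isZero_Rpush_of_flasque f _ hfl (p + 1))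
  haveI := mono_δ (Δ := Δ) S hS (p + 1) (QCoh.isZero_Rpush_of_flasque f _ hfl p)
  haveI := isIso_of_mono_of_epi (Δ.δ S hS (p + 1) (p + 1 + 1) rfl)
  have hδ := app_surjective_of_isIso (Δ.δ S hS (p + 1) (p + 1 + 1) rfl) V
  have hex : ∀ x, ∃ y, deltaOn hS (f ⁻¹ᵁ V) (p + 1) y = x := fun x =>
    exists_deltaMod_eq (restrict_shortExact hS (f ⁻¹ᵁ V)) (p + 1) x
      ((subsingleton_HHon_of_flasque _ hfl (f ⁻¹ᵁ V) (p + 1)).elim _ _)
  constructor
  · refine (injective_iff_map_eq_zero _).2 fun x hx => ?_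
    obtain ⟨y, rfl⟩ := hex x
    have hy : E.ε V S.X₃ (p + 1) y = 0 :=
      hδ.1 (((eps_delta E V hS (p + 1) y).symm.trans hx).trans (map_zero _).symm)
    rw [(h.1 (hy.trans (map_zero _).symm)), map_zero]
  · intro t
    obtain ⟨t', rfl⟩ := hδ.2 t
    obtain ⟨y, rfl⟩ := h.2 t'
    exact ⟨deltaOn hS (f ⁻¹ᵁ V) (p + 1) y, eps_delta E V hS (p + 1) y⟩

/-- The first step: an acyclic presentation with localisation properties. -/
theorem eps_bijective_one (V : Y.Opens) (hV : IsAffineOpen V) {S : ShortComplex X.Modules}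
    (hS : S.ShortExact) (hfl : QCoh.IsFlasqueMod S.X₂)
    (hloc : QCoh.LocRange ((Scheme.Modules.pushforward f).map S.g)) :
    Function.Bijective (E.ε V S.X₁ 1) := by
  haveI := isIso_toRightDerivedZero_app f S.X₂
  haveI := isIso_toRightDerivedZero_app f S.X₃
  let α := (Coh.Rpush f 0).map S.g
  have hα : QCoh.LocRange α :=
    QCoh.LocRange.of_iso (asIso ((Scheme.Modules.pushforward f).toRightDerivedZero.app S.X₂))
      (asIso ((Scheme.Modules.pushforward f).toRightDerivedZero.app S.X₃))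
      ((Scheme.Modules.pushforward f).toRightDerivedZero.naturality S.g) hloc
  let δ := Δ.δ S hS 0 (0 + 1) rfl
  have w : α ≫ δ = 0 := Δ.comp_δ S hS 0 (0 + 1) rfl
  haveI : Epi δ := epi_δ (Δ := Δ) S hS 0 (QCoh.isZero_Rpush_of_flasque f _ hfl 0)
  haveI : Mono (cokernel.desc α δ w) := (Δ.exact₃ S hS 0 (0 + 1) rfl).mono_cokernelDesc
  haveI : Epi (cokernel.desc α δ w) := epi_of_epi_fac (cokernel.π_desc α δ w)
  haveI := isIso_of_mono_of_epi (cokernel.desc α δ w)
  have hd := app_surjective_of_isIso (cokernel.desc α δ w) V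
  have he : ∀ z, δ.app V z = (cokernel.desc α δ w).app V ((cokernel.π α).app V z) := fun z =>
    (congr(($(cokernel.π_desc α δ w)).app V z) : _).symm
  have hex : ∀ x, ∃ y, deltaOn hS (f ⁻¹ᵁ V) 0 y = x := fun x =>
    exists_deltaMod_eq (restrict_shortExact hS (f ⁻¹ᵁ V)) 0 x
      ((subsingleton_HHon_of_flasque _ hfl (f ⁻¹ᵁ V) 0).elim _ _)
  constructor
  · refine (injective_iff_map_eq_zero _).2 fun x hx => ?_
    obtain ⟨y, rfl⟩ := hex x
    have hy : δ.app V (E.ε V S.X₃ 0 y) = 0 := (eps_delta E V hS 0 y).symm.trans hx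
    rw [he] at hy
    obtain ⟨a, ha⟩ := hα.mem_range hV _ (hd.1 (hy.trans (map_zero _).symm))
    obtain ⟨w', rfl⟩ := (eps_zero_bijective E V S.X₂).2 a
    have hyw : CohPull.mapH ((Scheme.Modules.restrictFunctor (f ⁻¹ᵁ V).ι).map S.g) 0 w' = y :=
      (eps_zero_bijective E V S.X₃).1 ((E.natural V S.g 0 w').trans ha)
    rw [← hyw]
    exact deltaMod_mapH (restrict_shortExact hS (f ⁻¹ᵁ V)) 0 w'
  · intro t
    obtain ⟨c, rfl⟩ := hd.2 t
    obtain ⟨z, rfl⟩ := hα.surjective hV c
    obtain ⟨y, rfl⟩ := (eps_zero_bijective E V S.X₃).2 z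
    exact ⟨deltaOn hS (f ⁻¹ᵁ V) 0 y, (eps_delta E V hS 0 y).trans (he _)⟩

/-- For quasi-coherent modules the comparison is bijective over affine opens. -/
theorem eps_bijective_affine [QuasiCompact f] [QuasiSeparated f] {F : X.Modules}
    (hF : Coh.IsQCoh F) (V : Y.Opens) (hV : IsAffineOpen V) (p : ℕ) :
    Function.Bijective (E.ε V F p) := by
  cases p with
  | zero => exact eps_zero_bijective E V F
  | succ q =>
    suffices h : ∀ i k : ℕ, k + i = q → Function.Bijective (E.ε V (QCoh.godQ F k) (i + 1)) from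
      h q 0 (Nat.zero_add q)
    intro i
    induction i with
    | zero =>
      intro k hk
      exact eps_bijective_one E V hV (S := QCoh.godSES F k) (QCoh.godSES_shortExact F k)
        (QCoh.isFlasqueMod_God _) (QCoh.locRange_rpushModel f hF k)
    | succ i ih =>
      intro k hk
      exact eps_bijective_shift E V (S := QCoh.godSES F k) (QCoh.godSES_shortExact F k) i (QCoh.isFlasqueMod_God _)
        (ih (k + 1) (by lia))

end Groth.Agent.CExt24
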