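import Groth.Agent.CExt24.BCSquare
import Groth.Agent.CExt24.SectAff
import Groth.Agent.CExt24.OnRes
import Groth.Agent.QCoh.RpushGod
import Groth.Agent.QCoh.PullbackBC
import Groth.Agent.FlatCxLib.TFunctor

/-!
# The base change map on sections over affine opens is the comparison `T(A) ⊗ B → T(B)`
-/

set_option autoImplicit false
set_option backward.isDefEq.respectTransparency false
set_option backward.isDefEq.respectTransparency.types false
set_option linter.style.haveILetI false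
set_option maxHeartbeats 2000000

universe u

open CategoryTheory CategoryTheory.Limits AlgebraicGeometry TopologicalSpace Opposite
open scoped TensorProduct

noncomputable section

namespace Groth.Agent.CExt24

open Groth.Agent.QCoh (smulAbHom rhoV overSpec pullSec)

variable {X S X' S' : Scheme.{u}} {f : X ⟶ S} {g : S' ⟶ S} {f' : X' ⟶ S'} {g' : X' ⟶ X}
  [HasInjectiveResolutions X.Modules] [HasInjectiveResolutions X'.Modules]
  {Δ : RDer.DerivedLES (Scheme.Modules.pushforward f)} {Δ' : RDer.DerivedLES (Scheme.Modules.pushforward f')}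
  {E : CohCmp.SectCmp f Δ} {E' : CohCmp.SectCmp f' Δ'}

/-- The base change map on the pullback of a comparison class. -/
theorem bc_app_pullSec {w : g' ≫ f = f' ≫ g} (B : CohCmp.GenBC f g f' g' w E E') {V : S.Opens}
    {V' : S'.Opens} (hle : V' ≤ g ⁻¹ᵁ V) (F : X.Modules) (p : ℕ) (x : Coh.HHon X F (f ⁻¹ᵁ V) p) :
    (B.bc p F).app V' (pullSec g ((Coh.Rpush f p).obj F) hle (E.ε V F p x)) =
      E'.ε V' ((Scheme.Modules.pullback g').obj F) p
        (CohPull.pullOn g' (f ⁻¹ᵁ V) (f' ⁻¹ᵁ V') (preimage_le w hle) F p x) := by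
  let R := (Coh.Rpush f p).obj F
  let adj := Scheme.Modules.pullbackPushforwardAdjunction g
  have hφ : B.φ p F = adj.unit.app R ≫ (Scheme.Modules.pushforward g).map (B.bc p F) := by
    refine Eq.trans ?_ (adj.homEquiv_unit _ _ _)
    exact ((adj.homEquiv _ _).apply_symm_apply _).symm
  have h1 : (B.bc p F).app (g ⁻¹ᵁ V) ((adj.unit.app R).app V (E.ε V F p x)) =
      E'.ε (g ⁻¹ᵁ V) ((Scheme.Modules.pullback g').obj F) p
        (CohPull.pullOn g' (f ⁻¹ᵁ V) (f' ⁻¹ᵁ (g ⁻¹ᵁ V)) (CohCmp.sqLE f g f' g' w V) F p x) := by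
    rw [← B.compat, hφ]
    rfl
  unfold pullSec
  refine (QCoh.map_app_comm (B.bc p F) (homOfLE hle) _).trans ?_
  refine (congrArg (((Coh.Rpush f' p).obj ((Scheme.Modules.pullback g').obj F)).presheaf.map
    (homOfLE hle).op) h1).trans ?_
  rw [← eps_res]
  exact congrArg (E'.ε V' ((Scheme.Modules.pullback g').obj F) p)
    (resLE_pullOn g' (f ⁻¹ᵁ V) (CohCmp.sqLE f g f' g' w V) (f'.preimage_mono hle) F p x)

variable [QuasiCompact f] [QuasiSeparated f]

theorem exists_sect_equiv {V : S.Opens} (hV : IsAffineOpen V) {F : X.Modules} (hF : Coh.IsQCoh F)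
    (E : CohCmp.SectCmp f Δ) (p : ℕ) :
    ∃ ε : Coh.HHon X F (f ⁻¹ᵁ V) p ≃+ Γ((Coh.Rpush f p).obj F, V), ∀ x, ε x = E.ε V F p x :=
  ⟨AddEquiv.ofBijective (E.ε V F p) (eps_bijective_affine E hF V hV p), fun _ => rfl⟩

variable [QuasiCompact f'] [QuasiSeparated f']

/-- On affine opens the base change map is `T(A) ⊗ B → T(B)`. -/
theorem exists_bc_app_eq_tM (h : IsPullback g' f' f g) (Bc : CohCmp.GenBC f g f' g' h.w E E')
    {V : S.Opens} (hV : IsAffineOpen V)
    {V' : S'.Opens} (hV' : IsAffineOpen V') (hle : V' ≤ g ⁻¹ᵁ V) {F : X.Modules} (hF : Coh.IsQCoh F)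
    {P : ChainComplex (ModuleCat.{u} Γ(S, V)) ℤ}
    (hP : HasCechModel (overSpec f hV) (F.restrict (f ⁻¹ᵁ V).ι) P) (p : ℕ) :
    letI : Algebra Γ(S, V) Γ(S', V') := (g.appLE V V' hle).hom.toAlgebra
    ∃ (e : Γ((Scheme.Modules.pullback g).obj ((Coh.Rpush f p).obj F), V') ≃+
        CohIII.T P (-(p : ℤ)) (ModuleCat.of Γ(S, V) Γ(S, V)) ⊗[Γ(S, V)] Γ(S', V'))
      (e' : Γ((Coh.Rpush f' p).obj ((Scheme.Modules.pullback g').obj F), V') ≃+
        CohIII.T P (-(p : ℤ)) (algMod Γ(S, V) Γ(S', V'))),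
      ∀ z, e' ((Bc.bc p F).app V' z) =
        FlatCxLib.tM (CohIII.TFun P (-(p : ℤ))) (algMod Γ(S, V) Γ(S', V')) (e z) := by
  letI alg : Algebra Γ(S, V) Γ(S', V') := (g.appLE V V' hle).hom.toAlgebra
  let A := Γ(S, V)
  let B := Γ(S', V')
  let R := (Coh.Rpush f p).obj F
  let F' := (Scheme.Modules.pullback g').obj F
  have hR : Coh.IsQCoh R := QCoh.isQCoh_Rpush f hF p
  have hF' : Coh.IsQCoh F' := QCoh.isQCoh_pullback g' hF
  obtain ⟨θ, θ', hθ, hθ', hpull⟩ := exists_bc_square h hV hV' hle hF hP p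
  obtain ⟨ε, hε⟩ := exists_sect_equiv (f := f) hV hF E p
  obtain ⟨ε', hε'⟩ := exists_sect_equiv (f := f') hV' hF' E' p
  let eR : Γ(R, V) ≃ₗ[A] CohIII.T P (-(p : ℤ)) (ModuleCat.of A A) :=
    { ε.symm.trans θ with
      map_smul' := fun a z => by
        show θ (ε.symm (a • z)) = a • θ (ε.symm z)
        rw [← hθ]
        refine congrArg θ ?_
        rw [AddEquiv.symm_apply_eq, hε, eps_smul]
        refine congrArg (a • ·) ?_
        rw [← hε, AddEquiv.apply_symm_apply] }
  let e' := ε'.symm.trans θ'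
  have he' : ∀ (b : B) z, e' (b • z) = (CohIII.TFun P (-(p : ℤ))).map (mulMap A b) (e' z) := fun b z => by
    show θ' (ε'.symm (b • z)) = (CohIII.TFun P (-(p : ℤ))).map (mulMap A b) (θ' (ε'.symm z))
    rw [← hθ']
    refine congrArg θ' ?_
    rw [AddEquiv.symm_apply_eq, hε', eps_smul]
    refine congrArg (b • ·) ?_
    rw [← hε', AddEquiv.apply_symm_apply]
  letI : Module A Γ((Scheme.Modules.pullback g).obj R, V') := Module.compHom _ (g.appLE V V' hle).hom
  haveI : IsScalarTower A B Γ((Scheme.Modules.pullback g).obj R, V') := .of_algebraMap_smul fun _ _ => rfl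
  let l : Γ(R, V) →ₗ[A] Γ((Scheme.Modules.pullback g).obj R, V') :=
    { toFun := pullSec g R hle
      map_add' := QCoh.pullSec_add g R hle
      map_smul' := fun a z => QCoh.pullSec_smul g R hle a z }
  have hl : IsBaseChange B l := QCoh.isBaseChange_pullback hV g hV' hR hle (fun _ => rfl) l fun _ => rfl
  let e : Γ((Scheme.Modules.pullback g).obj R, V') ≃+
      CohIII.T P (-(p : ℤ)) (ModuleCat.of A A) ⊗[A] B :=
    hl.equiv.symm.toAddEquiv.trans
      ((TensorProduct.comm A B Γ(R, V)).trans (TensorProduct.congr eR (LinearEquiv.refl A B))).toAddEquiv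
  have hsymm : ∀ (b : B) (z : Γ(R, V)), e (b • l z) = eR z ⊗ₜ[A] b := fun b z => by
    show (TensorProduct.congr eR (LinearEquiv.refl A B))
      (TensorProduct.comm A B Γ(R, V) (hl.equiv.symm (b • l z))) = _
    rw [show hl.equiv.symm (b • l z) = b ⊗ₜ[A] z from by
      rw [LinearEquiv.symm_apply_eq, IsBaseChange.equiv_tmul]]
    rfl
  refine ⟨e, e', fun z => ?_⟩
  obtain ⟨w, rfl⟩ := hl.equiv.surjective z
  induction w using TensorProduct.induction_on with
  | zero => rw [map_zero, map_zero, map_zero, map_zero, map_zero]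
  | add a b ha hb => rw [map_add, map_add, map_add, map_add, map_add, ha, hb]
  | tmul b z =>
    rw [IsBaseChange.equiv_tmul, hsymm, FlatCxLib.tM_tmul, Scheme.Modules.Hom.app_smul, he']
    have hz : e' ((Bc.bc p F).app V' (l z)) = (CohIII.TFun P (-(p : ℤ))).map (unitMap A B) (eR z) := by
      obtain ⟨x, rfl⟩ := ε.surjective z
      show θ' (ε'.symm ((Bc.bc p F).app V' (pullSec g R hle (ε x)))) =
        (CohIII.TFun P (-(p : ℤ))).map (unitMap A B) (θ (ε.symm (ε x)))
      rw [AddEquiv.symm_apply_apply, ← hpull, hε, bc_app_pullSec, ← hε', AddEquiv.symm_apply_apply]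
    rw [hz, ← ConcreteCategory.comp_apply, ← Functor.map_comp]
    refine congrArg (fun t => (CohIII.TFun P (-(p : ℤ))).map t (eR z)) ?_
    refine ModuleCat.hom_ext (LinearMap.ext fun a => ?_)
    show b * algebraMap A B a = a • b
    rw [mul_comm, ← Algebra.smul_def]

end Groth.Agent.CExt24
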