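import Groth.Agent.CExt24.ResMap
import Groth.Agent.CExt24.PushEdge
import Groth.Prelude.Def_CohCmp

/-!
# The comparison `H^p(f⁻¹V, F) → Γ(V, R^p f_* F)`: restriction, local bijectivity, affine bases
-/

set_option autoImplicit false
set_option backward.isDefEq.respectTransparency false
set_option backward.isDefEq.respectTransparency.types false
set_option linter.style.haveILetI false
set_option maxHeartbeats 2000000

universe u

open CategoryTheory CategoryTheory.Limits AlgebraicGeometry TopologicalSpace Opposite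

noncomputable section

namespace Groth.Agent.CExt24

variable {X Y : Scheme.{u}}

/-- The restriction of a flasque module to an open is flasque. -/
theorem isFlasqueMod_restrict (M : X.Modules) (hM : QCoh.IsFlasqueMod M) (U : X.Opens) :
    QCoh.IsFlasqueMod (M.restrict U.ι) where
  epi i := hM.epi (U.ι.opensFunctor.op.map i)

theorem subsingleton_HHon_of_flasque (M : X.Modules) (hM : QCoh.IsFlasqueMod M) (U : X.Opens) (p : ℕ) :
    Subsingleton (Coh.HHon X M U (p + 1)) :=
  subsingleton_HH_of_flasque _ (isFlasqueMod_restrict M hM U) p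

theorem app_surjective_of_isIso {A B : Y.Modules} (φ : A ⟶ B) [IsIso φ] (V : Y.Opens) :
    Function.Bijective (φ.app V) :=
  ConcreteCategory.bijective_of_isIso (φ.app V)

/-- The image of a morphism is the kernel of its exact successor, locally on sections. -/
theorem exists_local_of_exact {T : ShortComplex Y.Modules} (hT : T.Exact) {U : Y.Opens}
    (b : Γ(T.X₂, U)) (hb : T.g.app U b = 0) {y : Y} (hy : y ∈ U) :
    ∃ (V : Y.Opens) (i : V ≤ U), y ∈ V ∧ ∃ a : Γ(T.X₁, V), T.f.app V a = QCoh.rs T.X₂ i b := by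
  refine QCoh.exists_local_range T.f b ?_ hy
  haveI : Mono (cokernel.desc T.f T.g T.zero) := hT.mono_cokernelDesc
  have h2 : (cokernel.desc T.f T.g T.zero).app U ((cokernel.π T.f).app U b) = 0 :=
    (congr(($(cokernel.π_desc T.f T.g T.zero)).app U b) : _).trans hb
  exact (injective_iff_map_eq_zero _).1 (QCoh.app_injective (cokernel.desc T.f T.g T.zero) U) _ h2

variable (f : X ⟶ Y) [HasInjectiveResolutions X.Modules]

theorem isIso_toRightDerivedZero_app (F : X.Modules) :
    IsIso ((Scheme.Modules.pushforward f).toRightDerivedZero.app F) := by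
  haveI := SpObjSS.enoughInjectives_of_hasInjectiveResolutions (C := X.Modules)
  haveI := QCoh.preservesFiniteLimits_push f
  infer_instance

theorem isZero_Rpush_God (M : X.Modules) (q : ℕ) :
    IsZero ((Coh.Rpush f (q + 1)).obj (QCoh.God M)) :=
  QCoh.isZero_Rpush_of_flasque f _ (QCoh.isFlasqueMod_God M) q

variable {f} {Δ : RDer.DerivedLES (Scheme.Modules.pushforward f)}

theorem epi_δ (S : ShortComplex X.Modules) (hS : S.ShortExact) (q : ℕ)
    (h : IsZero ((Coh.Rpush f (q + 1)).obj S.X₂)) : Epi (Δ.δ S hS q (q + 1) rfl) :=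
  (Δ.exact₁ S hS q (q + 1) rfl).epi_f (h.eq_of_tgt _ _)

theorem mono_δ (S : ShortComplex X.Modules) (hS : S.ShortExact) (q : ℕ)
    (h : IsZero ((Coh.Rpush f q).obj S.X₂)) : Mono (Δ.δ S hS q (q + 1) rfl) :=
  (Δ.exact₃ S hS q (q + 1) rfl).mono_g (h.eq_of_src _ _)

variable (E : CohCmp.SectCmp f Δ)

theorem eps_delta (V : Y.Opens) {S : ShortComplex X.Modules} (hS : S.ShortExact) (p : ℕ)
    (x : Coh.HHon X S.X₃ (f ⁻¹ᵁ V) p) :
    E.ε V S.X₁ (p + 1) (deltaOn hS (f ⁻¹ᵁ V) p x) =
      (Δ.δ S hS p (p + 1) rfl).app V (E.ε V S.X₃ p x) :=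
  E.delta V S hS (QCoh.toAb_shortExact (restrict_shortExact hS (f ⁻¹ᵁ V))) p x

theorem eps_zero_bijective (V : Y.Opens) (F : X.Modules) : Function.Bijective (E.ε V F 0) := by
  have e : E.ε V F 0 ∘ CohPull.sectH0 F (f ⁻¹ᵁ V) =
      fun s => ((Scheme.Modules.pushforward f).toRightDerivedZero.app F).app V s :=
    funext fun s => E.zero V F s
  haveI := isIso_toRightDerivedZero_app f F
  have h : Function.Bijective (E.ε V F 0 ∘ CohPull.sectH0 F (f ⁻¹ᵁ V)) := by
    rw [e]
    exact app_surjective_of_isIso ((Scheme.Modules.pushforward f).toRightDerivedZero.app F) V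
  exact (Function.Bijective.of_comp_iff _ (CohPull.sectH0 F (f ⁻¹ᵁ V)).bijective).1 h

omit [HasInjectiveResolutions X.Modules] in
theorem exists_deltaOn_god (M : X.Modules) (U : X.Opens) (p : ℕ) (x : Coh.HHon X M U (p + 1)) :
    ∃ y, deltaOn (QCoh.godSES_shortExact M 0) U p y = x :=
  exists_deltaMod_eq (restrict_shortExact (QCoh.godSES_shortExact M 0) U) p x
    ((subsingleton_HHon_of_flasque (QCoh.God M) (QCoh.isFlasqueMod_God M) U p).elim _ _)

omit [HasInjectiveResolutions X.Modules] in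
/-- Restrictions compose. -/
theorem resLE_trans {U U' U'' : X.Opens} (h : U' ≤ U) (h' : U'' ≤ U') (F : X.Modules) (p : ℕ)
    (x : Coh.HHon X F U p) :
    CohPull.resLE F h' p (CohPull.resLE F h p x) = CohPull.resLE F (h'.trans h) p x := by
  induction p generalizing F with
  | zero =>
    obtain ⟨s, rfl⟩ := (CohPull.sectH0 F U).surjective x
    rw [resLE_sectH0, resLE_sectH0, resLE_sectH0]
    exact congrArg (CohPull.sectH0 F U'') ((QCoh.map_map _ _ s).trans
      (congrArg (fun i => F.presheaf.map i s) (Subsingleton.elim _ _)))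
  | succ p ih =>
    obtain ⟨y, rfl⟩ := exists_deltaOn_god F U p x
    let S := QCoh.godSES F 0
    have hS : S.ShortExact := QCoh.godSES_shortExact F 0
    show CohPull.resLE S.X₁ h' (p + 1) (CohPull.resLE S.X₁ h (p + 1) (deltaOn hS U p y)) =
      CohPull.resLE S.X₁ (h'.trans h) (p + 1) (deltaOn hS U p y)
    rw [resLE_delta, resLE_delta, resLE_delta, ih S.X₃]

/-- The comparison commutes with restriction. -/
theorem eps_res (F : X.Modules) (p : ℕ) {V V' : Y.Opens} (h : V' ≤ V)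
    (x : Coh.HHon X F (f ⁻¹ᵁ V) p) :
    E.ε V' F p (CohPull.resLE F (f.preimage_mono h) p x) =
      ((Coh.Rpush f p).obj F).presheaf.map (homOfLE h).op (E.ε V F p x) := by
  induction p generalizing F with
  | zero =>
    obtain ⟨s, rfl⟩ := (CohPull.sectH0 F (f ⁻¹ᵁ V)).surjective x
    rw [resLE_sectH0, E.zero, E.zero]
    exact QCoh.map_app_comm ((Scheme.Modules.pushforward f).toRightDerivedZero.app F) (homOfLE h) s
  | succ p ih =>
    obtain ⟨y, rfl⟩ := exists_deltaOn_god F (f ⁻¹ᵁ V) p x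
    let S := QCoh.godSES F 0
    have hS : S.ShortExact := QCoh.godSES_shortExact F 0
    show E.ε V' S.X₁ (p + 1) (CohPull.resLE S.X₁ (f.preimage_mono h) (p + 1)
      (deltaOn hS (f ⁻¹ᵁ V) p y)) = ((Coh.Rpush f (p + 1)).obj S.X₁).presheaf.map (homOfLE h).op
        (E.ε V S.X₁ (p + 1) (deltaOn hS (f ⁻¹ᵁ V) p y))
    rw [resLE_delta, eps_delta E V' hS, eps_delta E V hS, ih S.X₃]
    exact QCoh.map_app_comm (Δ.δ S hS p (p + 1) rfl) (homOfLE h) _

/-- The comparison is locally surjective. -/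
theorem eps_locally_surjective (F : X.Modules) (p : ℕ) (V : Y.Opens)
    (t : Γ((Coh.Rpush f p).obj F, V)) {y : Y} (hy : y ∈ V) :
    ∃ (W : Y.Opens) (hWV : W ≤ V), y ∈ W ∧
      ∃ x : Coh.HHon X F (f ⁻¹ᵁ W) p,
        E.ε W F p x = ((Coh.Rpush f p).obj F).presheaf.map (homOfLE hWV).op t := by
  induction p generalizing F V with
  | zero =>
    obtain ⟨x, hx⟩ := (eps_zero_bijective E V F).2 t
    refine ⟨V, le_rfl, hy, x, hx.trans ?_⟩
    rw [show (homOfLE (le_refl V)) = 𝟙 _ from rfl, op_id, CategoryTheory.Functor.map_id]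
    rfl
  | succ p ih =>
    let S := QCoh.godSES F 0
    have hS : S.ShortExact := QCoh.godSES_shortExact F 0
    haveI := epi_δ (Δ := Δ) S hS p (isZero_Rpush_God f _ p)
    obtain ⟨W₁, i₁, hy₁, t₁, ht₁⟩ := QCoh.exists_local_preimage (Δ.δ S hS p (p + 1) rfl) t hy
    obtain ⟨W, i, hyW, z, hz⟩ := ih S.X₃ W₁ t₁ hy₁
    refine ⟨W, i.trans i₁, hyW, deltaOn hS (f ⁻¹ᵁ W) p z, (eps_delta E W hS p z).trans ?_⟩
    rw [hz]
    refine (QCoh.map_app_comm (Δ.δ S hS p (p + 1) rfl) (homOfLE i) t₁).trans ?_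
    rw [ht₁]
    exact QCoh.map_map _ _ _

/-- The comparison is locally injective. -/
theorem eps_locally_injective (F : X.Modules) (p : ℕ) (V : Y.Opens)
    (x : Coh.HHon X F (f ⁻¹ᵁ V) p) (hx : E.ε V F p x = 0) {y : Y} (hy : y ∈ V) :
    ∃ (W : Y.Opens) (hWV : W ≤ V), y ∈ W ∧ CohPull.resLE F (f.preimage_mono hWV) p x = 0 := by
  induction p generalizing F V with
  | zero =>
    refine ⟨V, le_rfl, hy, ?_⟩
    rw [(eps_zero_bijective E V F).1 (hx.trans (map_zero _).symm), map_zero]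
  | succ p ih =>
    let S := QCoh.godSES F 0
    have hS : S.ShortExact := QCoh.godSES_shortExact F 0
    obtain ⟨z, rfl⟩ := exists_deltaOn_god F (f ⁻¹ᵁ V) p x
    obtain ⟨W₁, i₁, hy₁, s, hs⟩ := exists_local_of_exact (Δ.exact₃ S hS p (p + 1) rfl)
      (E.ε V S.X₃ p z) ((eps_delta E V hS p z).symm.trans hx) hy
    obtain ⟨W₂, i₂, hy₂, w, hw⟩ := eps_locally_surjective E S.X₂ p W₁ s hy₁
    have hi : W₂ ≤ V := i₂.trans i₁
    let z₂ := CohPull.resLE S.X₃ (f.preimage_mono hi) p z -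
      CohPull.mapH ((Scheme.Modules.restrictFunctor (f ⁻¹ᵁ W₂).ι).map S.g) p w
    have hz₂ : E.ε W₂ S.X₃ p z₂ = 0 := by
      rw [map_sub, eps_res E S.X₃ p hi, E.natural, hw, sub_eq_zero]
      refine Eq.trans ?_ (QCoh.map_app_comm ((Coh.Rpush f p).map S.g) (homOfLE i₂) s).symm
      refine Eq.trans ?_ (congrArg _ hs.symm)
      exact (QCoh.map_map _ _ _).symm
    obtain ⟨W₃, i₃, hy₃, hz₃⟩ := ih S.X₃ W₂ z₂ hz₂ hy₂
    refine ⟨W₃, i₃.trans hi, hy₃, ?_⟩
    have h₃ : CohPull.resLE S.X₃ (f.preimage_mono i₃) p (CohPull.resLE S.X₃ (f.preimage_mono hi) p z) =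
        CohPull.mapH ((Scheme.Modules.restrictFunctor (f ⁻¹ᵁ W₃).ι).map S.g) p
          (CohPull.resLE S.X₂ (f.preimage_mono i₃) p w) := by
      rw [← resLE_natural, ← sub_eq_zero, ← map_sub]
      exact hz₃
    show CohPull.resLE S.X₁ (f.preimage_mono (i₃.trans hi)) (p + 1) (deltaOn hS (f ⁻¹ᵁ V) p z) = 0
    rw [resLE_delta, ← resLE_trans (f.preimage_mono hi) (f.preimage_mono i₃) S.X₃ p z, h₃]
    exact deltaMod_mapH (restrict_shortExact hS (f ⁻¹ᵁ W₃)) p _

end Groth.Agent.CExt24
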