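import Groth.Agent.QCoh.FT
import Groth.Agent.CExt24.SectEps

/-!
# Maps of quasi-coherent modules bijective over an affine cover
-/

set_option autoImplicit false
set_option backward.isDefEq.respectTransparency false
set_option backward.isDefEq.respectTransparency.types false
set_option linter.style.haveILetI false

universe u

open CategoryTheory CategoryTheory.Limits AlgebraicGeometry TopologicalSpace Opposite

noncomputable section

namespace Groth.Agent.CExt24

open Groth.Agent.QCoh (basicModule basicRes isLocalizedModule_basicRes)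

variable {X : Scheme.{u}} {M N : X.Modules}

theorem bijective_app_basic (hM : Coh.IsQCoh M) (hN : Coh.IsQCoh N) (φ : M ⟶ N) {U : X.Opens}
    (hU : IsAffineOpen U) (a : Γ(X, U)) (h : Function.Bijective (φ.app U)) :
    Function.Bijective (φ.app (X.basicOpen a)) := by
  letI := basicModule a M
  letI := basicModule a N
  haveI := isLocalizedModule_basicRes a hM hU
  haveI := isLocalizedModule_basicRes a hN hU
  let l : Γ(M, U) →ₗ[Γ(X, U)] Γ(N, U) :=
    { toFun := φ.app U
      map_add' := map_add (φ.app U).hom
      map_smul' := fun r x => Scheme.Modules.Hom.app_smul φ r x }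
  let l' : Γ(M, X.basicOpen a) →ₗ[Γ(X, U)] Γ(N, X.basicOpen a) :=
    { toFun := φ.app (X.basicOpen a)
      map_add' := map_add (φ.app (X.basicOpen a)).hom
      map_smul' := fun r x => Scheme.Modules.Hom.app_smul φ (algebraMap Γ(X, U) Γ(X, X.basicOpen a) r) x }
  have e : IsLocalizedModule.map (Submonoid.powers a) (basicRes a M) (basicRes a N) l = l' := by
    refine IsLocalizedModule.linearMap_ext (Submonoid.powers a) (basicRes a M) (basicRes a N) ?_
    refine LinearMap.ext fun x => ?_
    rw [LinearMap.comp_apply, LinearMap.comp_apply, IsLocalizedModule.map_apply]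
    exact (QCoh.map_app_comm φ (homOfLE (X.basicOpen_le a)) x).symm
  have hb : Function.Bijective (IsLocalizedModule.map (Submonoid.powers a) (basicRes a M) (basicRes a N) l) :=
    ⟨IsLocalizedModule.map_injective _ _ _ l h.1, IsLocalizedModule.map_surjective _ _ _ l h.2⟩
  rw [e] at hb
  exact hb

/-- An isomorphism is detected on an affine cover. -/
theorem isIso_of_affine_cover (hM : Coh.IsQCoh M) (hN : Coh.IsQCoh N) (φ : M ⟶ N)
    (h : ∀ x : X, ∃ U : X.Opens, IsAffineOpen U ∧ x ∈ U ∧ Function.Bijective (φ.app U)) : IsIso φ := by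
  refine QCoh.isIso_of_isBasis φ (B := {W | ∃ (U : X.Opens) (a : Γ(X, U)), IsAffineOpen U ∧
    Function.Bijective (φ.app U) ∧ W = X.basicOpen a}) ?_ ?_
  · rw [Opens.isBasis_iff_nbhd]
    intro O x hx
    obtain ⟨U, hU, hxU, hb⟩ := h x
    obtain ⟨a, ha, hxa⟩ := hU.exists_basicOpen_le ⟨x, hx⟩ hxU
    exact ⟨_, ⟨U, a, hU, hb, rfl⟩, hxa, ha⟩
  · rintro _ ⟨U, a, hU, hb, rfl⟩
    exact bijective_app_basic hM hN φ hU a hb

end Groth.Agent.CExt24
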