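import Groth.Agent.CExt24.FlatModelT
import Groth.Agent.CExt24.BasicBij
import Groth.Agent.CExt24.BCSections
import Groth.Agent.RingPO.Props2
import Groth.Agent.QCoh.FlatBC
import Groth.Agent.QCoh.FlatOver
import Groth.Agent.QCoh.RpushModel
import Groth.Agent.FlatFunHx.Flat
import Groth.Agent.FlatLimHx.Flat

/-!
# Base change for flat higher direct images
-/

set_option autoImplicit false
set_option backward.isDefEq.respectTransparency false
set_option backward.isDefEq.respectTransparency.types false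
set_option linter.style.haveILetI false
set_option maxHeartbeats 2000000

universe u

open CategoryTheory CategoryTheory.Limits AlgebraicGeometry TopologicalSpace Opposite
open scoped TensorProduct

noncomputable section

namespace Groth.Agent.CExt24

open Groth.Agent.QCoh (smulAbHom rhoV overSpec pullSec)

variable {X Y S X' Y' S' : Scheme.{u}}

theorem overSpec_fromSpec (f : X ⟶ Y) {V : Y.Opens} (hV : IsAffineOpen V) :
    overSpec f hV ≫ hV.fromSpec = (f ⁻¹ᵁ V).ι ≫ f :=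
  (QCoh.isPullback_overSpec (f := f) hV).w.symm

theorem toGlobal_comp_SpecMap {A R : Type u} [CommRing A] [CommRing R] (p : X ⟶ Spec (CommRingCat.of R))
    (ψ : A →+* R) (a : A) :
    Coh.toGlobal (p ≫ Spec.map (CommRingCat.ofHom ψ)) a = Coh.toGlobal p (ψ a) := by
  show (p ≫ Spec.map (CommRingCat.ofHom ψ)).appTop _ = p.appTop _
  rw [Scheme.Hom.comp_appTop, CommRingCat.comp_apply]
  refine congrArg p.appTop ?_
  exact (congr($(Scheme.ΓSpecIso_inv_naturality (CommRingCat.ofHom ψ)) a)).symm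

variable {a : X ⟶ S} {b : Y ⟶ S} {f : X ⟶ Y} {F : X.Modules}

/-- Flatness over the base, seen over affine opens. -/
theorem isFlatOver_overSpec_comp (hf : f ≫ b = a) (hfl : FlatMod.IsFlatOver a F)
    {W : S.Opens} (hW : IsAffineOpen W) {V : Y.Opens} (hV : IsAffineOpen V) (hVW : V ≤ b ⁻¹ᵁ W) :
    FlatMod.IsFlatOver (overSpec f hV ≫ Spec.map (b.appLE W V hVW)) (F.restrict (f ⁻¹ᵁ V).ι) := by
  have hle : f ⁻¹ᵁ V ≤ a ⁻¹ᵁ W := by
    rw [← hf, Scheme.Hom.comp_preimage]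
    exact f.preimage_mono hVW
  let m := X.homOfLE hle
  have hm : m ≫ overSpec a hW = overSpec f hV ≫ Spec.map (b.appLE W V hVW) := by
    rw [← cancel_mono hW.fromSpec, Category.assoc, Category.assoc, overSpec_fromSpec,
      hW.SpecMap_appLE_fromSpec b hV hVW, ← Category.assoc (overSpec f hV), overSpec_fromSpec, Category.assoc, hf]
    exact X.homOfLE_ι_assoc hle a
  have h1 : FlatMod.IsFlatOver (overSpec a hW)
      ((Scheme.Modules.pullback ((a ⁻¹ᵁ W).ι ≫ 𝟙 X)).obj F) :=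
    FlatLimHx.isFlatOver_baseChange (m := (a ⁻¹ᵁ W).ι) (g := hW.fromSpec) (QCoh.isPullback_overSpec hW)
      (𝟙 X) F ((FlatLimHx.isFlatOver_congr a ((Scheme.Modules.pullbackId X).app F)).2 hfl)
  have h2 : FlatMod.IsFlatOver (m ≫ overSpec a hW)
      ((Scheme.Modules.pullback m).obj ((Scheme.Modules.pullback ((a ⁻¹ᵁ W).ι ≫ 𝟙 X)).obj F)) :=
    fun x => FlatFunHx.isFlatOverAt_pullback_of_flat _ m _ x (Flat.stalkMap m x) (h1 (m x))
  rw [← hm]
  exact (FlatLimHx.isFlatOver_congr _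
    ((Scheme.Modules.pullbackComp m ((a ⁻¹ᵁ W).ι ≫ 𝟙 X)).app F ≪≫
      (Scheme.Modules.pullbackCongr (by rw [Category.comp_id]; exact X.homOfLE_ι hle)).app F ≪≫
      ((Scheme.Modules.restrictFunctorIsoPullback (f ⁻¹ᵁ V).ι).app F).symm)).1 h2

variable {g : S' ⟶ S} {gY : Y' ⟶ Y} {b' : Y' ⟶ S'} {gX : X' ⟶ X} {f' : X' ⟶ Y'}
  [HasInjectiveResolutions X.Modules] [HasInjectiveResolutions X'.Modules]
  {Δ : RDer.DerivedLES (Scheme.Modules.pushforward f)} {Δ' : RDer.DerivedLES (Scheme.Modules.pushforward f')}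
  {E : CohCmp.SectCmp f Δ} {E' : CohCmp.SectCmp f' Δ'}

/-- Base change is bijective over products of affine opens when the higher direct images are flat. -/
theorem bijective_bc_app_of_flat [IsSeparated f] [QuasiCompact f] (hf : f ≫ b = a) (hY : IsPullback gY b' b g)
    (hX : IsPullback gX f' f gY) (B : CohCmp.GenBC f gY f' gX hX.w E E') (hF : Coh.IsQCoh F)
    (hfl : FlatMod.IsFlatOver a F) (hR : ∀ n : ℕ, FlatMod.IsFlatOver b ((Coh.Rpush f n).obj F))
    {W : S.Opens} (hW : IsAffineOpen W) {W' : S'.Opens} (hW' : IsAffineOpen W') (hWW : W' ≤ g ⁻¹ᵁ W)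
    {V : Y.Opens} (hV : IsAffineOpen V) (hVW : V ≤ b ⁻¹ᵁ W) (n : ℕ) :
    IsAffineOpen (gY ⁻¹ᵁ V ⊓ b' ⁻¹ᵁ W') ∧
      Function.Bijective ((B.bc n F).app (gY ⁻¹ᵁ V ⊓ b' ⁻¹ᵁ W')) := by
  haveI : QuasiCompact f' := MorphismProperty.of_isPullback hX ‹_›
  haveI : QuasiSeparated f' := MorphismProperty.of_isPullback hX inferInstance
  let V' : Y'.Opens := gY ⁻¹ᵁ V ⊓ b' ⁻¹ᵁ W'
  have hle : V' ≤ gY ⁻¹ᵁ V := inf_le_left
  have hle' : V' ≤ b' ⁻¹ᵁ W' := inf_le_right
  have hres := Scheme.Hom.isPullback_resLE hY hWW hVW (rfl : V' = _)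
  have hV' : IsAffineOpen V' := by
    haveI : IsAffine (V : Scheme.{u}) := hV
    haveI : IsAffine (W : Scheme.{u}) := hW
    haveI : IsAffine (W' : Scheme.{u}) := hW'
    exact IsAffine.of_isIso hres.isoPullback.hom
  refine ⟨hV', ?_⟩
  -- rings
  let A := Γ(S, W)
  let A' := Γ(S', W')
  letI : Algebra Γ(S, W) Γ(S', W') := (g.appLE W W' hWW).hom.toAlgebra
  letI : Algebra Γ(S, W) Γ(Y, V) := (b.appLE W V hVW).hom.toAlgebra
  letI : Algebra Γ(S', W') Γ(Y', V') := (b'.appLE W' V' hle').hom.toAlgebra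
  letI : Algebra Γ(Y, V) Γ(Y', V') := (gY.appLE V V' hle).hom.toAlgebra
  letI : Algebra Γ(S, W) Γ(Y', V') := ((gY.appLE V V' hle).hom.comp (b.appLE W V hVW).hom).toAlgebra
  haveI : IsScalarTower Γ(S, W) Γ(Y, V) Γ(Y', V') := .of_algebraMap_eq fun _ => rfl
  have hcomm : b.appLE W V hVW ≫ gY.appLE V V' hle = g.appLE W W' hWW ≫ b'.appLE W' V' hle' := by
    rw [Scheme.Hom.appLE_comp_appLE, Scheme.Hom.appLE_comp_appLE]
    congr 1
    exact hY.w
  haveI : IsScalarTower Γ(S, W) Γ(S', W') Γ(Y', V') := .of_algebraMap_eq fun r => by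
    exact congr($hcomm r)
  -- the square of spectra
  have hspec : IsPullback (Spec.map (gY.appLE V V' hle)) (Spec.map (b'.appLE W' V' hle'))
      (Spec.map (b.appLE W V hVW)) (Spec.map (g.appLE W W' hWW)) := by
    refine hres.of_iso hV'.isoSpec hV.isoSpec hW'.isoSpec hW.isoSpec ?_ ?_ ?_ ?_
    all_goals
      rw [IsAffineOpen.isoSpec_hom, IsAffineOpen.isoSpec_hom]
      exact (Scheme.Opens.toSpecΓ_SpecMap_appLE _ _ _ _).symm
  haveI hpo : Algebra.IsPushout Γ(S, W) Γ(S', W') Γ(Y, V) Γ(Y', V') := by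
    rw [← CommRingCat.isPushout_iff_isPushout]
    have h4 : IsPullback (gY.appLE V V' hle).op (b'.appLE W' V' hle').op (b.appLE W V hVW).op
        (g.appLE W W' hWW).op :=
      IsPullback.of_map Scheme.Spec (by rw [← op_comp, ← op_comp, hcomm]) hspec
    exact h4.unop
  -- the model
  let pA : (f ⁻¹ᵁ V : Scheme.{u}) ⟶ Spec (CommRingCat.of Γ(S, W)) := overSpec f hV ≫ Spec.map (b.appLE W V hVW)
  haveI : CompactSpace (f ⁻¹ᵁ V : X.Opens) := isCompact_iff_compactSpace.1 (f.isCompact_preimage hV.isCompact)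
  haveI : (f ⁻¹ᵁ V : Scheme.{u}).IsSeparated := ⟨by
    haveI : IsSeparated (f ∣_ V) := inferInstance
    haveI : IsAffine (V : Scheme.{u}) := hV
    rw [← Limits.terminal.comp_from (f ∣_ V)]
    infer_instance⟩
  obtain ⟨P, hP, hPm⟩ := exists_flat_model pA (QCoh.isQCoh_restrict _ hF)
    (isFlatOver_overSpec_comp hf hfl hW hV hVW)
  let U := f ⁻¹ᵁ V
  let U' := f' ⁻¹ᵁ V'
  let r := gX.resLE U U' (preimage_le hX.w hle)
  let pB : (U' : Scheme.{u}) ⟶ Spec (CommRingCat.of Γ(S', W')) := overSpec f' hV' ≫ Spec.map (b'.appLE W' V' hle')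
  have hsq : IsPullback r pB pA (Spec.map (CommRingCat.ofHom (algebraMap Γ(S, W) Γ(S', W')))) :=
    (isPullback_over hX hV hV' hle).paste_vert hspec
  have hpA : ∀ s : Γ(S, W), Coh.toGlobal pA s = rhoV f V (algebraMap Γ(S, W) Γ(Y, V) s) := fun s =>
    (toGlobal_comp_SpecMap (overSpec f hV) (b.appLE W V hVW).hom s).trans
      (by rw [QCoh.toGlobal_overSpec]; rfl)
  have hpB : ∀ s : Γ(S', W'), Coh.toGlobal pB s = rhoV f' V' (algebraMap Γ(S', W') Γ(Y', V') s) := fun s =>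
    (toGlobal_comp_SpecMap (overSpec f' hV') (b'.appLE W' V' hle').hom s).trans
      (by rw [QCoh.toGlobal_overSpec]; rfl)
  let R := (Coh.Rpush f n).obj F
  let F' := (Scheme.Modules.pullback gX).obj F
  let R' := (Coh.Rpush f' n).obj F'
  have hF' : Coh.IsQCoh F' := QCoh.isQCoh_pullback gX hF
  letI mR : ∀ m : ℕ, Module Γ(S, W) Γ((Coh.Rpush f m).obj F, V) := fun m =>
    Module.compHom _ (b.appLE W V hVW).hom
  -- cohomology over the product, linearly over the small rings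
  have hθ : ∀ m : ℕ, ∃ (θ : Γ((Coh.Rpush f m).obj F, V) ≃ₗ[Γ(S, W)]
        CohIII.T P (-(m : ℤ)) (ModuleCat.of Γ(S, W) Γ(S, W)))
      (θ' : Γ((Coh.Rpush f' m).obj F', V') ≃+ CohIII.T P (-(m : ℤ)) (algMod Γ(S, W) Γ(S', W'))),
      (∀ (c : Γ(S', W')) z, θ' (algebraMap Γ(S', W') Γ(Y', V') c • z) =
        (CohIII.TFun P (-(m : ℤ))).map (mulMap Γ(S, W) c) (θ' z)) ∧
      ∀ z, θ' ((B.bc m F).app V' (pullSec gY ((Coh.Rpush f m).obj F) hle z)) =
        (CohIII.TFun P (-(m : ℤ))).map (unitMap Γ(S, W) Γ(S', W')) (θ z) := by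
    intro m
    obtain ⟨θ₀, θ₀', h1, h2, h3⟩ := exists_bc_core hsq (QCoh.isQCoh_restrict U.ι hF) hPm m
    let i := CohPull.pullOnIso gX U U' (preimage_le hX.w hle) F
    let ei := mapHEquiv i m
    have hei : ∀ y, ei y = CohPull.mapH i.hom m y := fun y => rfl
    obtain ⟨ε, hε⟩ := exists_sect_equiv (f := f) hV hF E m
    obtain ⟨ε', hε'⟩ := exists_sect_equiv (f := f') hV' hF' E' m
    refine ⟨{ ε.symm.trans θ₀ with map_smul' := fun s z => ?_ }, ε'.symm.trans (ei.symm.trans θ₀'),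
      fun c z => ?_, fun z => ?_⟩
    · show θ₀ (ε.symm (algebraMap Γ(S, W) Γ(Y, V) s • z)) = s • θ₀ (ε.symm z)
      rw [← h1, hpA]
      refine congrArg θ₀ ?_
      rw [AddEquiv.symm_apply_eq, hε, eps_smul]
      refine congrArg (_ • ·) ?_
      rw [← hε, AddEquiv.apply_symm_apply]
    · show θ₀' (ei.symm (ε'.symm _)) = _
      refine Eq.trans ?_ (h2 c (ei.symm (ε'.symm z)))
      refine congrArg θ₀' ?_
      rw [AddEquiv.symm_apply_eq, hei, map_smul_mapH, ← hei, AddEquiv.apply_symm_apply, AddEquiv.symm_apply_eq,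
        hε', hpB, eps_smul]
      refine congrArg (_ • ·) ?_
      rw [← hε', AddEquiv.apply_symm_apply]
    · obtain ⟨x, rfl⟩ := ε.surjective z
      show θ₀' (ei.symm (ε'.symm _)) = (CohIII.TFun P (-(m : ℤ))).map (unitMap Γ(S, W) Γ(S', W')) (θ₀ (ε.symm (ε x)))
      rw [hε, bc_app_pullSec, ← hε', ← hε, AddEquiv.symm_apply_apply, AddEquiv.symm_apply_apply]
      refine Eq.trans ?_ (h3 x)
      refine congrArg θ₀' ?_
      rw [AddEquiv.symm_apply_eq, hei]
      rfl
  obtain ⟨θ, θ', hθ', hpull⟩ := hθ n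
  have hflT : ∀ m : ℕ, Module.Flat Γ(S, W) (CohIII.T P (-(m : ℤ)) (ModuleCat.of Γ(S, W) Γ(S, W))) := fun m => by
    obtain ⟨θm, -⟩ := hθ m
    haveI : Module.Flat Γ(S, W) Γ((Coh.Rpush f m).obj F, V) :=
      (QCoh.flat_appLE_iff b (QCoh.isQCoh_Rpush f hF m) hV hW hVW).2 fun y _ => hR m y
    exact Module.Flat.of_linearEquiv θm.symm
  have htM := bijective_tM_of_flat hP hflT (-(n : ℤ)) (algMod Γ(S, W) Γ(S', W'))
  -- sections of the pullback
  let N := (Scheme.Modules.pullback gY).obj R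
  letI : Module Γ(Y, V) Γ(N, V') := Module.compHom _ (gY.appLE V V' hle).hom
  letI : Module Γ(S', W') Γ(N, V') := Module.compHom _ (b'.appLE W' V' hle').hom
  letI : Module Γ(S, W) Γ(N, V') :=
    Module.compHom _ ((gY.appLE V V' hle).hom.comp (b.appLE W V hVW).hom)
  haveI : IsScalarTower Γ(Y, V) Γ(Y', V') Γ(N, V') := .of_algebraMap_smul fun _ _ => rfl
  haveI : IsScalarTower Γ(S', W') Γ(Y', V') Γ(N, V') := .of_algebraMap_smul fun _ _ => rfl
  haveI : IsScalarTower Γ(S, W) Γ(Y, V) Γ(R, V) := .of_algebraMap_smul fun _ _ => rfl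
  haveI : IsScalarTower Γ(S, W) Γ(S', W') Γ(N, V') := .of_algebraMap_smul fun s z => by
    show b'.appLE W' V' hle' (g.appLE W W' hWW s) • z = gY.appLE V V' hle (b.appLE W V hVW s) • z
    exact congrArg (fun t => t • z) congr($hcomm s).symm
  let l : Γ(R, V) →ₗ[Γ(Y, V)] Γ(N, V') :=
    { toFun := pullSec gY R hle
      map_add' := QCoh.pullSec_add gY R hle
      map_smul' := fun s z => QCoh.pullSec_smul gY R hle s z }
  have hl : IsBaseChange Γ(Y', V') l :=
    QCoh.isBaseChange_pullback hV gY hV' (QCoh.isQCoh_Rpush f hF n) hle (fun _ => rfl) l fun _ => rfl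
  let l' : Γ(R, V) →ₗ[Γ(S, W)] Γ(N, V') :=
    { toFun := pullSec gY R hle
      map_add' := QCoh.pullSec_add gY R hle
      map_smul' := fun s z => QCoh.pullSec_smul gY R hle _ z }
  have hl' : IsBaseChange Γ(S', W') l' :=
    QCoh.isBaseChange_of_isPushout (A := Γ(S, W)) (B := Γ(S', W')) (R := Γ(Y, V)) (R' := Γ(Y', V'))
      l hl l' fun _ => rfl
  let e : Γ(N, V') ≃+
      CohIII.T P (-(n : ℤ)) (ModuleCat.of Γ(S, W) Γ(S, W)) ⊗[Γ(S, W)] Γ(S', W') :=
    hl'.equiv.symm.toAddEquiv.trans ((TensorProduct.comm Γ(S, W) Γ(S', W') Γ(R, V)).trans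
      (TensorProduct.congr θ (LinearEquiv.refl Γ(S, W) Γ(S', W')))).toAddEquiv
  have hsymm : ∀ (c : Γ(S', W')) (z : Γ(R, V)), e (c • l' z) = θ z ⊗ₜ[Γ(S, W)] c := fun c z => by
    show (TensorProduct.congr θ (LinearEquiv.refl _ _))
      (TensorProduct.comm _ _ _ (hl'.equiv.symm (c • l' z))) = _
    rw [show hl'.equiv.symm (c • l' z) = c ⊗ₜ[Γ(S, W)] z from by
      rw [LinearEquiv.symm_apply_eq, IsBaseChange.equiv_tmul]]
    rfl
  have hkey : θ' ∘ (B.bc n F).app V' =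
      FlatCxLib.tM (CohIII.TFun P (-(n : ℤ))) (algMod Γ(S, W) Γ(S', W')) ∘ e := by
    funext z
    obtain ⟨w, rfl⟩ := hl'.equiv.surjective z
    simp only [Function.comp_apply]
    induction w using TensorProduct.induction_on with
    | zero => rw [map_zero, map_zero, map_zero, map_zero, map_zero]
    | add u v hu hv => rw [map_add, map_add, map_add, map_add, map_add, hu, hv]
    | tmul c z =>
      rw [IsBaseChange.equiv_tmul, hsymm, FlatCxLib.tM_tmul]
      show θ' ((B.bc n F).app V' (algebraMap Γ(S', W') Γ(Y', V') c • pullSec gY R hle z)) = _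
      rw [Scheme.Modules.Hom.app_smul, hθ', hpull, ← ConcreteCategory.comp_apply, ← Functor.map_comp]
      refine congrArg (fun t => (CohIII.TFun P (-(n : ℤ))).map t (θ z)) ?_
      refine ModuleCat.hom_ext (LinearMap.ext fun s => ?_)
      show c * algebraMap Γ(S, W) Γ(S', W') s = s • c
      rw [mul_comm, ← Algebra.smul_def]
  refine (Function.Bijective.of_comp_iff' θ'.bijective _).1 ?_
  rw [hkey]
  exact htM.comp e.bijective

end Groth.Agent.CExt24
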