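import Groth.Agent.CExt24.BCSections
import Groth.Agent.QCoh.ClosedPush
import Groth.Agent.QCoh.CokerQC

/-!
# Criteria for the base change maps to be isomorphisms, and to be epimorphisms at a fibre
-/

set_option autoImplicit false
set_option backward.isDefEq.respectTransparency false
set_option backward.isDefEq.respectTransparency.types false
set_option linter.style.haveILetI false
set_option maxHeartbeats 1000000

universe u

open CategoryTheory CategoryTheory.Limits AlgebraicGeometry TopologicalSpace Opposite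

noncomputable section

namespace Groth.Agent.CExt24

open Groth.Agent.QCoh (overSpec)

/-- Over a one-point space epimorphisms are the maps surjective on global sections. -/
theorem epi_iff_top_surjective_of_subsingleton {T : Scheme.{u}} [Subsingleton T] {M N : T.Modules}
    (α : M ⟶ N) : Epi α ↔ Function.Surjective (α.app ⊤) := by
  constructor
  · intro hα y
    rcases isEmpty_or_nonempty T with hT | ⟨⟨x⟩⟩
    · exact ⟨0, (map_zero _).trans (QCoh.eq_zero_of_locally ⊤ y fun q _ => hT.elim q).symm⟩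
    obtain ⟨V, i, hxV, a, ha⟩ := QCoh.exists_local_range α (U := ⊤) y
      (congr($(cokernel.π_of_epi α).app ⊤ y) : _) (x := x) trivial
    obtain rfl : V = ⊤ := le_antisymm le_top fun z _ => Subsingleton.elim x z ▸ hxV
    exact ⟨a, ha.trans (QCoh.rs_self i y)⟩
  · intro hs
    refine Preadditive.epi_of_isZero_cokernel α ((Limits.IsZero.iff_id_eq_zero _).2 ?_)
    rw [← cancel_epi (cokernel.π α), Category.comp_id, comp_zero]
    refine Scheme.Modules.hom_ext _ _ fun U => ?_
    ext z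
    rcases (U : Set T).eq_empty_or_nonempty with hU | ⟨x, hx⟩
    · exact (QCoh.eq_zero_of_locally U _ fun q hq => absurd hq (by rw [← SetLike.mem_coe, hU]; simp)).trans (by rfl)
    · obtain rfl : U = ⊤ := le_antisymm le_top fun w _ => Subsingleton.elim x w ▸ hx
      obtain ⟨a, rfl⟩ := hs z
      exact (congr($(cokernel.condition α).app ⊤ a) : _)

variable {X S X' S' : Scheme.{u}} {f : X ⟶ S} {g : S' ⟶ S} {f' : X' ⟶ S'} {g' : X' ⟶ X}
  [HasInjectiveResolutions X.Modules] [HasInjectiveResolutions X'.Modules]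
  {Δ : RDer.DerivedLES (Scheme.Modules.pushforward f)} {Δ' : RDer.DerivedLES (Scheme.Modules.pushforward f')}
  {E : CohCmp.SectCmp f Δ} {E' : CohCmp.SectCmp f' Δ'} [QuasiCompact f] [QuasiSeparated f]

/-- The base change map is an isomorphism when `T(A) ⊗ M → T(M)` is bijective on the pieces. -/
theorem isIso_bc_of_local (h : IsPullback g' f' f g) (Bc : CohCmp.GenBC f g f' g' h.w E E')
    {F : X.Modules} (hF : Coh.IsQCoh F) (p : ℕ)
    (hloc : ∀ z : S', ∃ (V : S.Opens) (hV : IsAffineOpen V) (P : ChainComplex (ModuleCat.{u} Γ(S, V)) ℤ),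
      g z ∈ V ∧ HasCechModel (overSpec f hV) (F.restrict (f ⁻¹ᵁ V).ι) P ∧
        ∀ M, Function.Bijective (FlatCxLib.tM (CohIII.TFun P (-(p : ℤ))) M)) :
    IsIso (Bc.bc p F) := by
  haveI : QuasiCompact f' := MorphismProperty.of_isPullback h ‹_›
  haveI : QuasiSeparated f' := MorphismProperty.of_isPullback h ‹_›
  refine QCoh.isIso_of_isBasis (Bc.bc p F)
    (B := {V' : S'.Opens | IsAffineOpen V' ∧ ∃ (V : S.Opens) (hV : IsAffineOpen V)
      (P : ChainComplex (ModuleCat.{u} Γ(S, V)) ℤ), V' ≤ g ⁻¹ᵁ V ∧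
      HasCechModel (overSpec f hV) (F.restrict (f ⁻¹ᵁ V).ι) P ∧
        ∀ M, Function.Bijective (FlatCxLib.tM (CohIII.TFun P (-(p : ℤ))) M)}) ?_ ?_
  · rw [Opens.isBasis_iff_nbhd]
    intro U z hz
    obtain ⟨V, hV, P, hzV, hP, hM⟩ := hloc z
    obtain ⟨W, hW, hzW, hWle⟩ := exists_isAffineOpen_mem_and_subset (x := z) (U := U ⊓ g ⁻¹ᵁ V) ⟨hz, hzV⟩
    exact ⟨W, ⟨hW, V, hV, P, fun a ha => (hWle ha).2, hP, hM⟩, hzW, fun a ha => (hWle ha).1⟩
  · rintro V' ⟨hV', V, hV, P, hle, hP, hM⟩
    letI : Algebra Γ(S, V) Γ(S', V') := (g.appLE V V' hle).hom.toAlgebra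
    obtain ⟨e, e', he⟩ := exists_bc_app_eq_tM h Bc hV hV' hle hF hP p
    have : e' ∘ (Bc.bc p F).app V' =
        FlatCxLib.tM (CohIII.TFun P (-(p : ℤ))) (algMod Γ(S, V) Γ(S', V')) ∘ e := funext he
    refine (Function.Bijective.of_comp_iff' e'.bijective _).1 ?_
    rw [this]
    exact (hM _).comp e.bijective

/-- Over the spectrum of a field: epimorphism iff `T(A) ⊗ B → T(B)` is surjective. -/
theorem epi_bc_iff_surjective_tM [IsAffine S'] [Subsingleton S'] (h : IsPullback g' f' f g)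
    (Bc : CohCmp.GenBC f g f' g' h.w E E') {F : X.Modules} (hF : Coh.IsQCoh F) (p : ℕ)
    {V : S.Opens} (hV : IsAffineOpen V) (hle : (⊤ : S'.Opens) ≤ g ⁻¹ᵁ V)
    {P : ChainComplex (ModuleCat.{u} Γ(S, V)) ℤ}
    (hP : HasCechModel (overSpec f hV) (F.restrict (f ⁻¹ᵁ V).ι) P) :
    letI : Algebra Γ(S, V) Γ(S', ⊤) := (g.appLE V ⊤ hle).hom.toAlgebra
    Epi (Bc.bc p F) ↔ Function.Surjective
      (FlatCxLib.tM (CohIII.TFun P (-(p : ℤ))) (algMod Γ(S, V) Γ(S', ⊤))) := by
  letI : Algebra Γ(S, V) Γ(S', ⊤) := (g.appLE V ⊤ hle).hom.toAlgebra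
  haveI : QuasiCompact f' := MorphismProperty.of_isPullback h ‹_›
  haveI : QuasiSeparated f' := MorphismProperty.of_isPullback h ‹_›
  obtain ⟨e, e', he⟩ := exists_bc_app_eq_tM h Bc hV (isAffineOpen_top S') hle hF hP p
  have : e' ∘ (Bc.bc p F).app ⊤ =
      FlatCxLib.tM (CohIII.TFun P (-(p : ℤ))) (algMod Γ(S, V) Γ(S', ⊤)) ∘ e := funext he
  rw [epi_iff_top_surjective_of_subsingleton, ← EquivLike.comp_surjective _ e']
  refine (Iff.of_eq (congrArg Function.Surjective this)).trans ?_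
  exact EquivLike.surjective_comp e _

end Groth.Agent.CExt24
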