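import Groth.Agent.CExt24.BCTheory
import Groth.Agent.CExt24.Models
import Groth.Agent.GrothVanish.Main

/-!
# Cohomology and base change: the statements
-/

set_option autoImplicit false
set_option backward.isDefEq.respectTransparency false
set_option backward.isDefEq.respectTransparency.types false
set_option linter.style.haveILetI false
set_option maxHeartbeats 1000000

universe u

open CategoryTheory CategoryTheory.Limits AlgebraicGeometry TopologicalSpace Opposite

noncomputable section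

namespace Groth.Agent.CExt24

open Groth.Agent.QCoh (overSpec)

variable {X S X' S' : Scheme.{u}} {f : X ⟶ S}

theorem isPullback_fiber (f : X ⟶ S) (s : S) :
    IsPullback (f.fiberι s) (f.fiberToSpecResidueField s) f (S.fromSpecResidueField s) :=
  IsPullback.of_hasPullback _ _

theorem isZero_of_restrict_top {M : S.Modules}
    (h : IsZero (M.restrict (⊤ : S.Opens).ι)) : IsZero M := by
  refine (Limits.IsZero.iff_id_eq_zero _).2 (Scheme.Modules.hom_ext _ _ fun W => ?_)
  have e : (⊤ : S.Opens).ι ''ᵁ ((⊤ : S.Opens).ι ⁻¹ᵁ W) = W := by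
    rw [Scheme.Hom.image_preimage_eq_opensRange_inf, Scheme.Opens.opensRange_ι, top_inf_eq]
  ext t
  show t = 0
  have h1 : ∀ z : Γ(M.restrict (⊤ : S.Opens).ι, (⊤ : S.Opens).ι ⁻¹ᵁ W), z = 0 := fun z =>
    (congr($(h.eq_of_src (𝟙 _) 0).app _ z) : _)
  have h2 : M.presheaf.map (eqToHom e).op t = 0 := h1 _
  have h3 := congrArg (M.presheaf.map (eqToHom e.symm).op) h2
  rw [map_zero] at h3
  rw [← h3]
  exact ((QCoh.map_map _ _ t).trans (QCoh.map_id' _ t)).symm

theorem isFinLocFree_of_restrict_top {M : S.Modules}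
    (h : FlatMod.IsFinLocFree (M.restrict (⊤ : S.Opens).ι)) : FlatMod.IsFinLocFree M :=
  ConsPropLib.isFinLocFree_of_cover (fun _ : Unit => (⊤ : S.Opens).ι)
    (fun z => ⟨(), ⟨z, trivial⟩, rfl⟩) fun _ => h

variable {F : X.Modules}

theorem subsingleton_fiberH_of_dim_lt [IsProper f] (s : S) {d : ℕ}
    (hd : topologicalKrullDim (f.fiber s) ≤ d) {p : ℕ} (hp : d < p) :
    Subsingleton (CohIII.fiberH f F s p) := by
  haveI : IsProper (f.fiberToSpecResidueField s) :=
    MorphismProperty.of_isPullback (isPullback_fiber f s) ‹_›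
  haveI : IsLocallyNoetherian (f.fiber s) :=
    LocallyOfFiniteType.isLocallyNoetherian (f.fiberToSpecResidueField s)
  haveI : CompactSpace (f.fiber s) :=
    QuasiCompact.compactSpace_of_compactSpace (f.fiberToSpecResidueField s)
  haveI : AlgebraicGeometry.IsNoetherian (f.fiber s) := ⟨⟩
  exact GrothVanish.subsingleton_H_of_dim_lt hd _ hp

/-- A locally constant fibre rank where the next degree is good as well. -/
theorem isLocallyConstant_fiberRank (hF : Coh.IsQCoh F) [HasInjectiveResolutions X.Modules] [QuasiCompact f]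
    [QuasiSeparated f] (p : ℕ) (U : S.Opens)
    (hg : ∀ z ∈ U, GoodNhd f F (-(p : ℤ)) z ∧ GoodNhd f F (-(p : ℤ) + 1) z) :
    IsLocallyConstant fun v : U => CohIII.fiberRank f F p v.1 := by
  refine (IsLocallyConstant.iff_exists_open _).2 fun v => ?_
  obtain ⟨V, hV, P, hle, hvV, hP, hgood, hgood₂⟩ := exists_both hF p v.2 (hg v.1 v.2).1 (hg v.1 v.2).2
  obtain ⟨hfp, hall⟩ := homology_facts hP.1 hgood
  have hproj : Module.Projective Γ(S, V) (FlatCxLib.Hom' P (-(p : ℤ) + 1) (-(p : ℤ)) (-(p : ℤ) - 1)) :=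
    Module.freeLocus_eq_univ_iff.1 (Set.eq_univ_of_forall fun x => (hall x).1.1 (hgood₂ x))
  let r : PrimeSpectrum Γ(S, V) → ℕ :=
    fun x => Module.rankAtStalk (R := Γ(S, V)) (FlatCxLib.Hom' P (-(p : ℤ) + 1) (-(p : ℤ)) (-(p : ℤ) - 1)) x
  have hr : ∀ (z : S) (hz : z ∈ V), CohIII.fiberRank f F p z = r (hV.primeIdealOf ⟨z, hz⟩) := fun z hz => by
    rw [fiberRank_eq_dRank f hV hz hF hP.2, (hall _).2, FlatCxLib.fibreRank_eq_rankAtStalk]
  have hc : IsLocallyConstant r := Module.isLocallyConstant_rankAtStalk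
  obtain ⟨_, ⟨a, rfl⟩, ha, hsub⟩ :=
    PrimeSpectrum.isTopologicalBasis_basic_opens.exists_subset_of_mem_open
      (show hV.primeIdealOf ⟨v.1, hvV⟩ ∈ {x | r x = r (hV.primeIdealOf ⟨v.1, hvV⟩)} from rfl)
      (hc.isOpen_fiber _)
  refine ⟨Subtype.val ⁻¹' (S.basicOpen a : Set S), (S.basicOpen a).2.preimage continuous_subtype_val,
    (QCoh.mem_basicOpen_iff_notMem hV hvV a).2 ha, fun w hw => ?_⟩
  have hwV : w.1 ∈ V := S.basicOpen_le a hw
  show CohIII.fiberRank f F p w.1 = CohIII.fiberRank f F p v.1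
  rw [hr _ hwV, hr _ hvV]
  exact hsub ((QCoh.mem_basicOpen_iff_notMem hV hwV a).1 hw)

variable [HasInjectiveResolutions X.Modules] {g : S' ⟶ S} {f' : X' ⟶ S'} {g' : X' ⟶ X}
  [HasInjectiveResolutions X'.Modules]
  {Δ : RDer.DerivedLES (Scheme.Modules.pushforward f)} {Δ' : RDer.DerivedLES (Scheme.Modules.pushforward f')}
  {E : CohCmp.SectCmp f Δ} {E' : CohCmp.SectCmp f' Δ'} [QuasiCompact f] [QuasiSeparated f]

/-- Where a degree is good the base change maps are isomorphisms. -/
theorem isIso_bc_of_goodNhd (h : IsPullback g' f' f g) (Bc : CohCmp.GenBC f g f' g' h.w E E')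
    (hF : Coh.IsQCoh F) (p : ℕ) (hg : ∀ z : S', GoodNhd f F (-(p : ℤ)) (g z)) : IsIso (Bc.bc p F) :=
  isIso_bc_of_local h Bc hF p fun z =>
    let ⟨V, hV, P, hz, hP, hgood⟩ := hg z
    ⟨V, hV, P, hz, hP.2, fun M => bijective_tM_of_good hP.1 hgood M⟩

/-- Base change maps are isomorphisms where fibre cohomology vanishes, in that degree and the one below. -/
theorem isIso_bc_of_subsingleton (hm : HasModels f F) (h : IsPullback g' f' f g)
    (Bc : CohCmp.GenBC f g f' g' h.w E E') (hF : Coh.IsQCoh F) (p : ℕ)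
    (hv : ∀ z : S', Subsingleton (CohIII.fiberH f F (g z) p)) :
    IsIso (Bc.bc p F) ∧ ∀ j : ℕ, j + 1 = p → IsIso (Bc.bc j F) := by
  refine ⟨isIso_bc_of_goodNhd h Bc hF p fun z => (goodNhd_of_subsingleton hm hF p (hv z)).1,
    fun j hj => isIso_bc_of_goodNhd h Bc hF j fun z => ?_⟩
  have e : (-(j : ℤ)) = -(p : ℤ) + 1 := by rw [← hj]; push_cast; ring
  rw [e]
  exact (goodNhd_of_subsingleton hm hF p (hv z)).2

end Groth.Agent.CExt24
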