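import Groth.Agent.CExt24.BCCore
import Groth.Agent.CExt24.EpsSmul
import Groth.Agent.QCoh.RpushProper
import Groth.Prelude.Def_CohPull

/-!
# The pullback of classes over affine opens of the bases of a cartesian square
-/

set_option autoImplicit false
set_option backward.isDefEq.respectTransparency false
set_option backward.isDefEq.respectTransparency.types false
set_option linter.style.haveILetI false
set_option maxHeartbeats 1000000

universe u

open CategoryTheory CategoryTheory.Limits AlgebraicGeometry TopologicalSpace Opposite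

noncomputable section

namespace Groth.Agent.CExt24

open Groth.Agent.QCoh (smulAbHom rhoV overSpec)

variable {X S X' S' : Scheme.{u}} {f : X ⟶ S} {g : S' ⟶ S} {f' : X' ⟶ S'} {g' : X' ⟶ X}

theorem preimage_le (w : g' ≫ f = f' ≫ g) {V : S.Opens} {V' : S'.Opens} (hle : V' ≤ g ⁻¹ᵁ V) :
    f' ⁻¹ᵁ V' ≤ g' ⁻¹ᵁ (f ⁻¹ᵁ V) :=
  (f'.preimage_mono hle).trans (CohCmp.sqLE f g f' g' w V)

theorem mapH_comp_apply {Z : Scheme.{u}} {M N K : Z.Modules} (a : M ⟶ N) (b : N ⟶ K) (p : ℕ) (x : Coh.HH Z M p) :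
    CohPull.mapH b p (CohPull.mapH a p x) = CohPull.mapH (a ≫ b) p x :=
  (Sheaf.H.map_comp_apply _ _ x).symm

theorem mapH_id_apply {Z : Scheme.{u}} (M : Z.Modules) (p : ℕ) (x : Coh.HH Z M p) :
    CohPull.mapH (𝟙 M) p x = x := by
  show Sheaf.H.map ((SheafOfModules.toSheaf Z.ringCatSheaf).map (𝟙 M)) p x = x
  rw [CategoryTheory.Functor.map_id]
  exact Sheaf.H.map_id_apply x

/-- An isomorphism of modules on cohomology. -/
def mapHEquiv {Z : Scheme.{u}} {M N : Z.Modules} (e : M ≅ N) (p : ℕ) : Coh.HH Z M p ≃+ Coh.HH Z N p where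
  toFun := CohPull.mapH e.hom p
  invFun := CohPull.mapH e.inv p
  left_inv x := by rw [mapH_comp_apply, e.hom_inv_id, mapH_id_apply]
  right_inv x := by rw [mapH_comp_apply, e.inv_hom_id, mapH_id_apply]
  map_add' := map_add _

/-- The square over affine opens of the bases. -/
theorem isPullback_over (h : IsPullback g' f' f g) {V : S.Opens} (hV : IsAffineOpen V)
    {V' : S'.Opens} (hV' : IsAffineOpen V') (hle : V' ≤ g ⁻¹ᵁ V) :
    IsPullback (g'.resLE (f ⁻¹ᵁ V) (f' ⁻¹ᵁ V') (preimage_le h.w hle)) (overSpec f' hV')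
      (overSpec f hV) (Spec.map (g.appLE V V' hle)) := by
  let r := g'.resLE (f ⁻¹ᵁ V) (f' ⁻¹ᵁ V') (preimage_le h.w hle)
  have hA : IsPullback (f' ⁻¹ᵁ V').ι (f' ∣_ V') f' V'.ι := (isPullback_morphismRestrict f' V').flip
  have hB : IsPullback (f ⁻¹ᵁ V).ι (f ∣_ V) f V.ι := (isPullback_morphismRestrict f V).flip
  have hC := hA.paste_horiz h
  rw [← Scheme.Hom.resLE_comp_ι g' (preimage_le h.w hle), ← Scheme.Hom.resLE_comp_ι g hle] at hC
  have hw : r ≫ (f ∣_ V) = (f' ∣_ V') ≫ g.resLE V V' hle := by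
    rw [← cancel_mono V.ι, Category.assoc, morphismRestrict_ι, Scheme.Hom.resLE_comp_ι_assoc,
      Category.assoc, Scheme.Hom.resLE_comp_ι, h.w, morphismRestrict_ι_assoc]
  have hD : IsPullback r (f' ∣_ V') (f ∣_ V) (g.resLE V V' hle) := hC.of_right hw hB
  have hE : IsPullback (g.resLE V V' hle) hV'.isoSpec.hom hV.isoSpec.hom
      (Spec.map (g.appLE V V' hle)) :=
    IsPullback.of_vert_isIso ⟨by
      rw [IsAffineOpen.isoSpec_hom, IsAffineOpen.isoSpec_hom]
      exact (Scheme.Opens.toSpecΓ_SpecMap_appLE g V V' hle).symm⟩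
  exact hD.paste_vert hE

/-- Over affine opens both cohomologies are values of `T`, compatibly with pullback and scalars. -/
theorem exists_bc_square (h : IsPullback g' f' f g) {V : S.Opens} (hV : IsAffineOpen V)
    {V' : S'.Opens} (hV' : IsAffineOpen V') (hle : V' ≤ g ⁻¹ᵁ V)
    {F : X.Modules} (hF : Coh.IsQCoh F) {P : ChainComplex (ModuleCat.{u} Γ(S, V)) ℤ}
    (hP : HasCechModel (overSpec f hV) (F.restrict (f ⁻¹ᵁ V).ι) P) (p : ℕ) :
    letI : Algebra Γ(S, V) Γ(S', V') := (g.appLE V V' hle).hom.toAlgebra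
    ∃ (θ : Coh.HHon X F (f ⁻¹ᵁ V) p ≃+ CohIII.T P (-(p : ℤ)) (ModuleCat.of Γ(S, V) Γ(S, V)))
      (θ' : Coh.HHon X' ((Scheme.Modules.pullback g').obj F) (f' ⁻¹ᵁ V') p ≃+
        CohIII.T P (-(p : ℤ)) (algMod Γ(S, V) Γ(S', V'))),
      (∀ (a : Γ(S, V)) (x : Coh.HHon X F (f ⁻¹ᵁ V) p),
        θ (Sheaf.H.map (smulAbHom (F.restrict (f ⁻¹ᵁ V).ι) (rhoV f V a)) p x) = a • θ x) ∧
      (∀ (b : Γ(S', V')) (y : Coh.HHon X' ((Scheme.Modules.pullback g').obj F) (f' ⁻¹ᵁ V') p),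
        θ' (Sheaf.H.map (smulAbHom (((Scheme.Modules.pullback g').obj F).restrict (f' ⁻¹ᵁ V').ι)
          (rhoV f' V' b)) p y) = (CohIII.TFun P (-(p : ℤ))).map (mulMap Γ(S, V) b) (θ' y)) ∧
      ∀ x : Coh.HHon X F (f ⁻¹ᵁ V) p,
        θ' (CohPull.pullOn g' (f ⁻¹ᵁ V) (f' ⁻¹ᵁ V') (preimage_le h.w hle) F p x) =
          (CohIII.TFun P (-(p : ℤ))).map (unitMap Γ(S, V) Γ(S', V')) (θ x) := by
  letI : Algebra Γ(S, V) Γ(S', V') := (g.appLE V V' hle).hom.toAlgebra
  let U := f ⁻¹ᵁ V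
  let U' := f' ⁻¹ᵁ V'
  let r := g'.resLE U U' (preimage_le h.w hle)
  have hsq : IsPullback r (overSpec f' hV') (overSpec f hV)
      (Spec.map (CommRingCat.ofHom (algebraMap Γ(S, V) Γ(S', V')))) := isPullback_over h hV hV' hle
  obtain ⟨θ, θ', h1, h2, h3⟩ := exists_bc_core hsq (QCoh.isQCoh_restrict U.ι hF) hP p
  rw [QCoh.toGlobal_overSpec] at h1 h2
  let i := CohPull.pullOnIso g' U U' (preimage_le h.w hle) F
  let ei : Coh.HH (U' : Scheme.{u}) ((Scheme.Modules.pullback r).obj (F.restrict U.ι)) p ≃+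
      Coh.HHon X' ((Scheme.Modules.pullback g').obj F) U' p := mapHEquiv i p
  have hei : ∀ y, ei y = CohPull.mapH i.hom p y := fun y => rfl
  refine ⟨θ, ei.symm.trans θ', h1, fun b y => ?_, fun x => ?_⟩
  · show θ' (ei.symm _) = _
    have hy : ei.symm (Sheaf.H.map (smulAbHom (((Scheme.Modules.pullback g').obj F).restrict U'.ι)
        (rhoV f' V' b)) p y) = Sheaf.H.map (smulAbHom ((Scheme.Modules.pullback r).obj (F.restrict U.ι))
          (rhoV f' V' b)) p (ei.symm y) := by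
      rw [AddEquiv.symm_apply_eq, hei, map_smul_mapH, ← hei, AddEquiv.apply_symm_apply]
    rw [hy, h2]
    rfl
  · show θ' (ei.symm (CohPull.mapH i.hom p (CohPull.pullMod r (F.restrict U.ι) p x))) = _
    rw [← hei, AddEquiv.symm_apply_apply]
    exact h3 x

end Groth.Agent.CExt24
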