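import Groth.Agent.CExt24.GMapMod
import Groth.Agent.QCoh.CechMap
import Groth.Agent.QCoh.AffineCohom
import Groth.Agent.QCoh.Pullback
import Groth.Prelude.Def_ega3

/-!
# The Čech complex of a direct image, with its scalars upstairs

For `φ : X' ⟶ X` and `η : M ⟶ φ_* M'` semilinear over `A → B`, the Čech complex of `φ_* M'` is a complex
of `B`-modules receiving the Čech complex of `M`; when sections change base this is base change.
-/

set_option autoImplicit false
set_option backward.isDefEq.respectTransparency false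
set_option backward.isDefEq.respectTransparency.types false
set_option linter.style.haveILetI false
set_option maxHeartbeats 1000000

universe u

open CategoryTheory CategoryTheory.Limits AlgebraicGeometry TopologicalSpace Opposite
open scoped TensorProduct

noncomputable section

namespace Groth.Agent.CExt24

open Groth.Agent.QCoh

variable {X X' : Scheme.{u}} {A B : Type u} [CommRing A] [CommRing B] [Algebra A B]
  (ρ : A →+* Coh.Γtop X) (ρ' : B →+* Coh.Γtop X') {ι : Type u} (U : ι → X.Opens) (φ : X' ⟶ X)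
  {M : X.Modules} (M' : X'.Modules)

/-- Scalars upstairs, as endomorphisms of the direct image. -/
def endP : B →+* End ((CohTop.push φ.base).obj (Coh.toAb M')) where
  toFun b := (CohTop.push φ.base).map (smulAbHom M' (ρ' b))
  map_one' := by
    rw [map_one, map_one]
    exact (CohTop.push φ.base).map_id _
  map_mul' a b := by
    rw [map_mul, map_mul]
    exact (CohTop.push φ.base).map_comp _ _
  map_zero' := by
    rw [map_zero, map_zero]
    rfl
  map_add' a b := by
    rw [map_add, map_add]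
    rfl

theorem endP_app (b : B) (W : X.Opens) (y : Γ(M', φ ⁻¹ᵁ W)) :
    ((endP ρ' φ M' b).hom.app (op W)) y =
      X'.presheaf.map (homOfLE (le_top : φ ⁻¹ᵁ W ≤ ⊤)).op (ρ' b) • y :=
  rfl

/-- Scalars upstairs on Čech cochains of the direct image. -/
def cxPushScalar (p : ℕ) :
    B →+* End ((Ab.natCx ((CohTop.push φ.base).obj (Coh.toAb M')).obj U).X p) where
  toFun b := (Ab.natCxMap U (endP ρ' φ M' b).hom).f p
  map_one' := by rw [map_one]; exact congrArg (fun φ => φ.f p) (Ab.natCxMap_id U)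
  map_mul' a b := by
    rw [map_mul]
    exact congrArg (fun φ => φ.f p) (Ab.natCxMap_comp U _ _)
  map_zero' := by rw [map_zero]; exact congrArg (fun φ => φ.f p) (Ab.natCxMap_zero U)
  map_add' a b := by
    rw [map_add]
    exact congrArg (fun φ => φ.f p) (Ab.natCxMap_add U _ _)

/-- The Čech complex of the direct image, over the upper ring. -/
def cxPush : CochainComplex (ModuleCat.{u} B) ℕ where
  X p := ModuleCat.mkOfSMul (cxPushScalar ρ' U φ M' p)
  d p q := ModuleCat.homMk ((Ab.natCx ((CohTop.push φ.base).obj (Coh.toAb M')).obj U).d p q)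
    fun b => ((Ab.natCxMap U (endP ρ' φ M' b).hom).comm p q).symm
  shape p q h := ModuleCat.hom_ext (LinearMap.ext fun x => ConcreteCategory.congr_hom
    ((Ab.natCx ((CohTop.push φ.base).obj (Coh.toAb M')).obj U).shape p q h) x)
  d_comp_d' p q r _ _ := ModuleCat.hom_ext (LinearMap.ext fun x => ConcreteCategory.congr_hom
    ((Ab.natCx ((CohTop.push φ.base).obj (Coh.toAb M')).obj U).d_comp_d p q r) x)

theorem forget_smul_id_cxPush (b : B) :
    ((forget₂ (ModuleCat.{u} B) AddCommGrpCat.{u}).mapHomologicalComplex _).map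
        (b • 𝟙 (cxPush ρ' U φ M')) = Ab.natCxMap U (endP ρ' φ M' b).hom := rfl

variable {M'} (η : M ⟶ (Scheme.Modules.pushforward φ).obj M')
  (hρ : ∀ a, ρ' (algebraMap A B a) = φ.appTop (ρ a))

include hρ in
theorem smul_abHom (a : A) :
    smulAbHom M (ρ a) ≫ abHom φ η = abHom φ η ≫ endP ρ' φ M' (algebraMap A B a) := by
  refine Sheaf.hom_ext (NatTrans.ext (funext fun W => AddCommGrpCat.ext fun x => ?_))
  show η.app W.unop (X.presheaf.map (homOfLE (le_top : W.unop ≤ ⊤)).op (ρ a) • (show Γ(M, W.unop) from x)) =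
    X'.presheaf.map (homOfLE (le_top : φ ⁻¹ᵁ W.unop ≤ ⊤)).op (ρ' (algebraMap A B a)) •
      (show Γ(M', φ ⁻¹ᵁ W.unop) from η.app W.unop x)
  have h := secMap_smul ρ ρ' φ η (le_refl (φ ⁻¹ᵁ W.unop)) a x hρ
  have e : ∀ z, secMap φ η (le_refl (φ ⁻¹ᵁ W.unop)) z =
      (show Γ(M', φ ⁻¹ᵁ W.unop) from η.app W.unop z) := fun z => by
    unfold secMap
    exact map_id' (M := M') _ _
  rw [e, e] at h
  exact h

/-- The map of Čech complexes along `η`. -/
def pushMap : cxMod ρ U M ⟶
    ((ModuleCat.restrictScalars (algebraMap A B)).mapHomologicalComplex _).obj (cxPush ρ' U φ M') where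
  f p := ModuleCat.ofHom (Y := (ModuleCat.restrictScalars (algebraMap A B)).obj ((cxPush ρ' U φ M').X p))
    { toFun := fun c => (Ab.natCxMap U (abHom φ η).hom).f p c
      map_add' := fun c c' => map_add ((Ab.natCxMap U (abHom φ η).hom).f p).hom c c'
      map_smul' := fun a c => by
        show (Ab.natCxMap U (abHom φ η).hom).f p ((Ab.natCxMap U (smulAbHom M (ρ a)).hom).f p c) =
          (Ab.natCxMap U (endP ρ' φ M' (algebraMap A B a)).hom).f p
            ((Ab.natCxMap U (abHom φ η).hom).f p c)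
        rw [← ConcreteCategory.comp_apply, ← ConcreteCategory.comp_apply, ← HomologicalComplex.comp_f,
          ← HomologicalComplex.comp_f, ← Ab.natCxMap_comp, ← Ab.natCxMap_comp]
        exact congrArg (fun t : Coh.toAb M ⟶ (CohTop.push φ.base).obj (Coh.toAb M') =>
          (Ab.natCxMap U t.hom).f p c) (smul_abHom ρ ρ' φ η hρ a) }
  comm' p q h := by
    refine ModuleCat.hom_ext (LinearMap.ext fun c => ?_)
    exact ConcreteCategory.congr_hom ((Ab.natCxMap U (abHom φ η).hom).comm p q) c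

/-- Cochains of the direct image are tuples of sections over preimages. -/
def pushCoord (p : ℕ) :
    letI := fun σ : Fin (p + 1) → ι => secModule ρ' M' (φ ⁻¹ᵁ ⨅ a, U (σ a))
    (cxPush ρ' U φ M').X p ≃ₗ[B] (∀ σ : Fin (p + 1) → ι, Γ(M', φ ⁻¹ᵁ ⨅ a, U (σ a))) :=
  letI := fun σ : Fin (p + 1) → ι => secModule ρ' M' (φ ⁻¹ᵁ ⨅ a, U (σ a))
  { toFun := fun c σ => c.1 σ ⟨_, fun a => iInf_le _ a⟩
    map_add' := fun _ _ => rfl
    map_smul' := fun _ _ => rfl
    invFun := fun x => ⟨fun σ W =>
        M'.presheaf.map (homOfLE (φ.preimage_mono (le_iInf W.2))).op (x σ),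
      fun σ W W' h h' i => map_map _ _ _⟩
    left_inv := fun c => Subtype.ext <| funext₂ fun σ W => by
      refine Eq.trans ?_ (c.2 σ _ W.1 (fun a => iInf_le _ a) W.2 (homOfLE (le_iInf W.2)))
      rfl
    right_inv := fun x => funext fun σ => map_id' _ _ }

/-- Sections over affine intersections change base. -/
def IsBCAt : Prop :=
  ∀ {p : ℕ} (σ : Fin (p + 1) → ι),
    letI := secModule ρ M (⨅ a, U (σ a))
    letI := secModule ρ' M' (φ ⁻¹ᵁ ⨅ a, U (σ a))
    letI := secModule (ρ'.comp (algebraMap A B)) M' (φ ⁻¹ᵁ ⨅ a, U (σ a))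
    haveI : IsScalarTower A B Γ(M', φ ⁻¹ᵁ ⨅ a, U (σ a)) := .of_algebraMap_smul fun _ _ => rfl
    IsBaseChange B (secLin ρ ρ' φ η hρ (⨅ a, U (σ a)) (φ ⁻¹ᵁ ⨅ a, U (σ a)) le_rfl)

theorem bijective_adjunct_pushMap [Finite ι] (hbc : IsBCAt ρ ρ' U φ η hρ) (p : ℕ) :
    Function.Bijective (adjunct ((pushMap ρ ρ' U φ η hρ).f p)) := by
  let _ := fun σ : Fin (p + 1) → ι => secModule ρ M (⨅ a, U (σ a))
  let _ := fun σ : Fin (p + 1) → ι => secModule ρ' M' (φ ⁻¹ᵁ ⨅ a, U (σ a))
  let _ := fun σ : Fin (p + 1) → ι => secModule (ρ'.comp (algebraMap A B)) M' (φ ⁻¹ᵁ ⨅ a, U (σ a))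
  have : ∀ σ : Fin (p + 1) → ι, IsScalarTower A B Γ(M', φ ⁻¹ᵁ ⨅ a, U (σ a)) :=
    fun σ => .of_algebraMap_smul fun _ _ => rfl
  let N := (cxPush ρ' U φ M').X p
  let : Module A N := Module.compHom N (algebraMap A B)
  have : IsScalarTower A B N := .of_algebraMap_smul fun _ _ => rfl
  have hpi := IsBaseChange.pi (S := B) (fun σ : Fin (p + 1) → ι =>
    secLin ρ ρ' φ η hρ (⨅ a, U (σ a)) (φ ⁻¹ᵁ ⨅ a, U (σ a)) le_rfl) fun σ => hbc σ
  let g : (cxMod ρ U M).X p →ₗ[A] N :=
    { toFun := fun c => (pushMap ρ ρ' U φ η hρ).f p c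
      map_add' := fun c c' => ((pushMap ρ ρ' U φ η hρ).f p).hom.map_add c c'
      map_smul' := fun a c => ((pushMap ρ ρ' U φ η hρ).f p).hom.map_smul a c }
  refine bijective_adjunct_of_isBaseChange _ g (fun _ => rfl) ?_
  refine IsBaseChange.of_equiv ((LinearEquiv.baseChange A B _ _ (coordEquiv ρ U M p)).trans
    (hpi.equiv.trans (pushCoord ρ' U φ p).symm)) fun c => ?_
  refine (pushCoord ρ' U φ p).injective (funext fun σ => ?_)
  simp only [LinearEquiv.trans_apply, LinearEquiv.baseChange_tmul, IsBaseChange.equiv_tmul, one_smul,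
    LinearEquiv.apply_symm_apply]
  show secMap φ η (le_refl _) _ = _
  unfold secMap
  exact map_id' (M := M') _ _

variable (A B) in
/-- `B ⊗_A -` on complexes. -/
abbrev bcC {ι₀ : Type} {c : ComplexShape ι₀} (K : HomologicalComplex (ModuleCat.{u} A) c) :
    HomologicalComplex (ModuleCat.{u} B) c :=
  ((bcFunctor A B).mapHomologicalComplex c).obj K

/-- The comparison of the base change of the complex with the complex of the direct image. -/
def pushPsi : bcC A B (cxMod ρ U M) ⟶ cxPush ρ' U φ M' where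
  f i := adjunct ((pushMap ρ ρ' U φ η hρ).f i)
  comm' i j _ := by
    let : Module A ((cxPush ρ' U φ M').X j) :=
      Module.compHom ((cxPush ρ' U φ M').X j) (algebraMap A B)
    have : IsScalarTower A B ((cxPush ρ' U φ M').X j) := .of_algebraMap_smul fun _ _ => rfl
    let K := cxMod ρ U M
    let K' := cxPush ρ' U φ M'
    let f := pushMap ρ ρ' U φ η hρ
    refine ModuleCat.hom_ext (TensorProduct.AlgebraTensorModule.ext
      (R := A) (A := B) (M := B) (N := K.X i) (P := K'.X j) fun b m => ?_)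
    show (K'.d i j).hom ((adjunct (f.f i)).hom (b ⊗ₜ[A] m : B ⊗[A] K.X i)) =
      (adjunct (f.f j)).hom ((K.d i j).hom.baseChange B (b ⊗ₜ m))
    refine (congrArg (K'.d i j).hom (adjunct_tmul (f.f i) b m)).trans ?_
    refine ((K'.d i j).hom.map_smul b _).trans ?_
    refine Eq.trans ?_ (adjunct_tmul (f.f j) b ((K.d i j).hom m)).symm
    exact congrArg (b • ·) (ConcreteCategory.congr_hom (f.comm i j) m)

theorem isIso_pushPsi [Finite ι] (hbc : IsBCAt ρ ρ' U φ η hρ) :
    IsIso (pushPsi ρ ρ' U φ η hρ) :=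
  haveI : ∀ i, IsIso ((pushPsi ρ ρ' U φ η hρ).f i) := fun i =>
    (ConcreteCategory.isIso_iff_bijective _).2 (bijective_adjunct_pushMap ρ ρ' U φ η hρ hbc i)
  HomologicalComplex.Hom.isIso_of_components _

/-- `m ↦ 1 ⊗ m` on complexes of abelian groups. -/
def unitCx {ι₀ : Type} {c : ComplexShape ι₀} (K : HomologicalComplex (ModuleCat.{u} A) c) :
    ((forget₂ (ModuleCat.{u} A) AddCommGrpCat.{u}).mapHomologicalComplex c).obj K ⟶
      ((forget₂ (ModuleCat.{u} B) AddCommGrpCat.{u}).mapHomologicalComplex c).obj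
        (bcC A B K) where
  f i := AddCommGrpCat.ofHom ((TensorProduct.mk A B (K.X i) 1).toAddMonoidHom)
  comm' i j _ := AddCommGrpCat.ext fun m => by
    show (K.d i j).hom.baseChange B ((1 : B) ⊗ₜ[A] m) = (1 : B) ⊗ₜ[A] (K.d i j).hom m
    rfl

theorem unitCx_pushPsi :
    unitCx (B := B) (cxMod ρ U M) ≫
        ((forget₂ (ModuleCat.{u} B) AddCommGrpCat.{u}).mapHomologicalComplex _).map
          (pushPsi ρ ρ' U φ η hρ) =
      Ab.natCxMap U (abHom φ η).hom := by
  ext i : 1
  refine AddCommGrpCat.ext fun m => ?_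
  show (adjunct ((pushMap ρ ρ' U φ η hρ).f i)).hom ((1 : B) ⊗ₜ[A] m) = _
  rw [adjunct_tmul, one_smul]
  rfl

/-- The identification of `H^p` of a homological complex after forgetting the scalars. -/
abbrev forgetH {R : Type u} [CommRing R] (K : CochainComplex (ModuleCat.{u} R) ℕ) (p : ℕ) :
    (((forget₂ (ModuleCat.{u} R) AddCommGrpCat.{u}).mapHomologicalComplex _).obj K).homology p ≅
      (forget₂ (ModuleCat.{u} R) AddCommGrpCat.{u}).obj (K.homology p) :=
  (K.sc p).mapHomologyIso (forget₂ (ModuleCat.{u} R) AddCommGrpCat.{u})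

theorem smul_homologyMap {R : Type u} [CommRing R] (K : CochainComplex (ModuleCat.{u} R) ℕ) (p : ℕ)
    (r : R) (x : K.homology p) :
    (forgetH K p).inv (r • x : K.homology p) =
      HomologicalComplex.homologyMap
        (((forget₂ (ModuleCat.{u} R) AddCommGrpCat.{u}).mapHomologicalComplex _).map (r • 𝟙 K)) p
        ((forgetH K p).inv x) := by
  have h1 : (r • x : K.homology p) = HomologicalComplex.homologyMap (r • 𝟙 K) p x := by
    rw [homologyMap_smul_id]
    rfl
  rw [h1]
  exact ConcreteCategory.congr_hom (ShortComplex.mapHomologyIso_inv_naturality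
    ((HomologicalComplex.shortComplexFunctor (ModuleCat.{u} R) (ComplexShape.up ℕ) p).map (r • 𝟙 K))
    (forget₂ (ModuleCat.{u} R) AddCommGrpCat.{u})) x

include hρ in
/-- Cohomology of the direct image is the homology of the base change of the Čech complex. -/
theorem exists_cech_bc [Finite ι] [QuasiCompact φ] [QuasiSeparated φ] (hbc : IsBCAt ρ ρ' U φ η hρ)
    (hcov : ⨆ i, U i = ⊤) (hU : ∀ {p : ℕ} (σ : Fin (p + 1) → ι), IsAffineOpen (⨅ a, U (σ a)))
    (hM : Coh.IsQCoh M) (hM' : Coh.IsQCoh M') (p : ℕ) :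
    ∃ (θ : Coh.HH X M p ≃+ ((cxMod ρ U M).homology p : ModuleCat.{u} A))
      (θ' : Coh.HH X ((Scheme.Modules.pushforward φ).obj M') p ≃+
        ((bcC A B (cxMod ρ U M)).homology p : ModuleCat.{u} B)),
      (∀ (a : A) (x : Coh.HH X M p), θ (Sheaf.H.map (smulAbHom M (ρ a)) p x) = a • θ x) ∧
      (∀ (b : B) (y : Coh.HH X ((Scheme.Modules.pushforward φ).obj M') p),
        θ' (Sheaf.H.map (endP ρ' φ M' b) p y) = b • θ' y) ∧
      ∀ x : Coh.HH X M p, θ' (CohPull.mapH η p x) =
        (forgetH _ p).hom (HomologicalComplex.homologyMap (unitCx (cxMod ρ U M)) p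
          ((forgetH _ p).inv (θ x))) := by
  obtain ⟨e, he⟩ := Ab.exists_natural_equiv (X := X.toPresheafedSpace.carrier) hcov
    (stdCovers_sectionClass hU) (fun I hI _ _ _ V _ => @Ab.acyclic_of_injective _ I hI _ V) p
  have hM₂ : Coh.IsQCoh ((Scheme.Modules.pushforward φ).obj M') := isQCoh_pushforward φ hM'
  let GB := forget₂ (ModuleCat.{u} B) AddCommGrpCat.{u}
  let C := cxMod ρ U M
  let N := (CohTop.push φ.base).obj (Coh.toAb M')
  haveI := isIso_pushPsi ρ ρ' U φ η hρ hbc
  let ψ := (GB.mapHomologicalComplex _).mapIso (asIso (pushPsi ρ ρ' U φ η hρ))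
  let eM := e (abSheaf M) (stdCovers_acyclic hM)
  let eN := e N (stdCovers_acyclic hM₂)
  let θ : Coh.HH X M p ≃+ (C.homology p : ModuleCat.{u} A) :=
    eM.symm.trans (forgetH C p).addCommGroupIsoToAddEquiv
  let θ' : Coh.HH X ((Scheme.Modules.pushforward φ).obj M') p ≃+
      ((bcC A B C).homology p : ModuleCat.{u} B) :=
    eN.symm.trans (((HomologicalComplex.homologyFunctor _ _ p).mapIso ψ.symm) ≪≫
      forgetH (bcC A B C) p).addCommGroupIsoToAddEquiv
  refine ⟨θ, θ', fun a x => ?_, fun b y => ?_, fun x => ?_⟩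
  · apply θ.symm.injective
    rw [AddEquiv.symm_apply_apply]
    show _ = eM ((forgetH C p).inv (a • θ x : C.homology p))
    rw [smul_homologyMap, smul_id_eq]
    refine Eq.trans ?_ (he (abSheaf M) (abSheaf M) (stdCovers_acyclic hM) (stdCovers_acyclic hM)
      (smulAbHom M (ρ a)) _).symm
    refine congrArg (Sheaf.H.map (smulAbHom M (ρ a)) p) ?_
    exact (θ.symm_apply_apply x).symm
  · apply θ'.symm.injective
    rw [AddEquiv.symm_apply_apply]
    show _ = eN (HomologicalComplex.homologyMap ψ.hom p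
      ((forgetH _ p).inv (b • θ' y : (bcC A B C).homology p)))
    rw [smul_homologyMap, ← ConcreteCategory.comp_apply, ← HomologicalComplex.homologyMap_comp]
    have hc : (GB.mapHomologicalComplex _).map (b • 𝟙 (bcC A B C)) ≫ ψ.hom =
        ψ.hom ≫ Ab.natCxMap U (endP ρ' φ M' b).hom := by
      rw [← forget_smul_id_cxPush ρ' U φ M' b]
      show (GB.mapHomologicalComplex _).map _ ≫ (GB.mapHomologicalComplex _).map _ =
        (GB.mapHomologicalComplex _).map (pushPsi ρ ρ' U φ η hρ) ≫
          (GB.mapHomologicalComplex _).map (b • 𝟙 (cxPush ρ' U φ M'))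
      rw [← Functor.map_comp, ← Functor.map_comp, Linear.smul_comp, Linear.comp_smul, Category.id_comp,
        Category.comp_id]
      rfl
    rw [hc, HomologicalComplex.homologyMap_comp, ConcreteCategory.comp_apply]
    refine Eq.trans ?_ (he N N (stdCovers_acyclic hM₂) (stdCovers_acyclic hM₂) (endP ρ' φ M' b) _).symm
    refine congrArg (Sheaf.H.map (endP ρ' φ M' b) p) ?_
    exact (θ'.symm_apply_apply y).symm
  · apply θ'.symm.injective
    rw [AddEquiv.symm_apply_apply]
    show _ = eN (HomologicalComplex.homologyMap ψ.hom p ((forgetH _ p).inv ((forgetH _ p).hom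
      (HomologicalComplex.homologyMap (unitCx C) p ((forgetH C p).inv (θ x))))))
    rw [Iso.hom_inv_id_apply, ← ConcreteCategory.comp_apply (HomologicalComplex.homologyMap (unitCx C) p),
      ← HomologicalComplex.homologyMap_comp, show unitCx C ≫ ψ.hom = Ab.natCxMap U (abHom φ η).hom from
        unitCx_pushPsi ρ ρ' U φ η hρ]
    refine Eq.trans ?_ (he (abSheaf M) N (stdCovers_acyclic hM) (stdCovers_acyclic hM₂) (abHom φ η) _).symm
    refine congrArg (Sheaf.H.map (abHom φ η) p) ?_
    exact (θ.symm_apply_apply x).symm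

end Groth.Agent.CExt24
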