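import Groth.Agent.CExt24.BCCore
import Groth.Agent.QCoh.FlatCoh

/-!
# A Čech model by flat modules, and base change when the cohomology is flat
-/

set_option autoImplicit false
set_option backward.isDefEq.respectTransparency false
set_option backward.isDefEq.respectTransparency.types false
set_option linter.style.haveILetI false
set_option maxHeartbeats 1000000

universe u

open CategoryTheory CategoryTheory.Limits AlgebraicGeometry TopologicalSpace Opposite

noncomputable section

namespace Groth.Agent.CExt24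

open Groth.Agent.QCoh

variable {A : Type u} [CommRing A]

/-- A complex of flat modules with `T_q = 0` outside a bounded range. -/
structure IsFlatModel (P : ChainComplex (ModuleCat.{u} A) ℤ) : Prop where
  flat : ∀ i, Module.Flat A (P.X i)
  low : ∃ d : ℤ, ∀ q, q < d → ∀ M, IsZero ((CohIII.TFun P q).obj M)
  pos : ∀ q : ℤ, 0 < q → IsZero (P.homology q)

theorem exists_flat_model {X : Scheme.{u}} (pA : X ⟶ Spec (CommRingCat.of A)) [CompactSpace X] [X.IsSeparated]
    {F : X.Modules} (hF : Coh.IsQCoh F) (hfl : FlatMod.IsFlatOver pA F) :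
    ∃ P : ChainComplex (ModuleCat.{u} A) ℤ, IsFlatModel P ∧ HasCechModel pA F P := by
  letI : X.Over (Spec (CommRingCat.of A)) := ⟨pA⟩
  obtain ⟨κ, hκ, U, hcov, hU⟩ := exists_affine_cover (X := X)
  obtain ⟨d, hd⟩ := exists_HH_bound (X := X)
  let C := cechA (A := A) F U
  let P := revCx (FlatModel.toZ C)
  have hflP : ∀ i, Module.Flat A (P.X i) := fun i => by
    by_cases hi : 0 < i
    · haveI := ModuleCat.subsingleton_of_isZero (FlatModel.isZero_toZ C (-i) (by lia))
      exact inferInstanceAs (Module.Flat A ((FlatModel.toZ C).X (-i)))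
    · obtain ⟨m, hm⟩ : ∃ m : ℕ, ComplexShape.embeddingUpNat.f m = -i := ⟨(-i).toNat, by simp; lia⟩
      haveI := flat_cechA F hF hfl hU m
      exact Module.Flat.of_linearEquiv (C.extendXIso ComplexShape.embeddingUpNat hm).toLinearEquiv
  have hiso : ∀ p : ℕ, Nonempty (CohIII.TFun P (-(p : ℤ)) ≅ CohIII.TFun C p) := fun p => by
    obtain ⟨r⟩ := nonempty_tfun_revCx (FlatModel.toZ C) (-(p : ℤ))
    obtain ⟨z⟩ := FlatModel.nonempty_tfun_toZ C p
    exact ⟨r ≪≫ eqToIso (by rw [neg_neg]) ≪≫ z⟩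
  refine ⟨P, ⟨hflP, ⟨-(d : ℤ), fun q hq M => ?_⟩, fun q hq => ?_⟩,
    κ, hκ, U, hcov, hU, fun p => ?_⟩
  · obtain ⟨p, rfl⟩ : ∃ p : ℕ, q = -(p : ℤ) := ⟨(-q).toNat, by lia⟩
    obtain ⟨r⟩ := hiso p
    obtain ⟨e⟩ := nonempty_tfun_iso (A := A) F hF hcov hU p
    have h0 : Subsingleton (Coh.HH X (tA F M) p) := hd _ (isQCoh_tA F hF M) p (by lia)
    haveI : Subsingleton ((CohIII.TFun P (-(p : ℤ))).obj M) :=
      ((Functor.isoWhiskerRight r (forget₂ (ModuleCat.{u} A) AddCommGrpCat.{u}) ≪≫ e).app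
        M).addCommGroupIsoToAddEquiv.toEquiv.subsingleton_congr.2 h0
    exact ModuleCat.isZero_of_subsingleton _
  · exact (HomologicalComplex.exactAt_iff_isZero_homology P q).1
      (HomologicalComplex.ExactAt.of_isZero (FlatModel.isZero_toZ C (-q) (by lia)))
  · obtain ⟨r⟩ := hiso p
    exact ⟨Functor.isoWhiskerRight r _⟩

/-- With flat cohomology the comparison `T(A) ⊗ M → T(M)` is bijective. -/
theorem bijective_tM_of_flat {P : ChainComplex (ModuleCat.{u} A) ℤ} (hP : IsFlatModel P)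
    (hH : ∀ p : ℕ, Module.Flat A (CohIII.T P (-(p : ℤ)) (ModuleCat.of A A))) (q : ℤ) (M : ModuleCat.{u} A) :
    Function.Bijective (FlatCxLib.tM (CohIII.TFun P q) M) := by
  obtain ⟨d, hd⟩ := hP.low
  have hflH : ∀ r, Module.Flat A (P.homology r) := fun r => by
    by_cases hr : 0 < r
    · haveI := ModuleCat.subsingleton_of_isZero (hP.pos r hr)
      infer_instance
    · obtain ⟨p, rfl⟩ : ∃ p : ℕ, r = -(p : ℤ) := ⟨(-r).toNat, by lia⟩
      haveI := hH p
      exact Module.Flat.of_linearEquiv (FlatCxLib.tUnitIso (P := P) (-(p : ℤ))).toLinearEquiv.symm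
  have he := (isExactT_all_of_flat P hP.flat d hd hflH q).2
  have := fun J : Type u => FlatCxLib.preservesColimitsOfShape_tfun P q J
  refine (FlatCxLib.rightExact_iff (CohIII.TFun P q)).1.1 ?_ M
  exact (FlatCxLib.rightExact_iff (CohIII.TFun P q)).2.2 ⟨FlatCxLib.halfExact_tfun hP.flat q,
    fun N => FlatCxLib.surjective_tM_of_epi _ (fun f hf => he.preserves f) N⟩

end Groth.Agent.CExt24
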