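import Groth.Prelude.Def_CohPull
import Groth.Agent.EtMVLib.ExtTools
import Mathlib.Algebra.Homology.DerivedCategory.Ext.ExactSequences
import Mathlib.CategoryTheory.Sites.SheafCohomology.Basic
import Mathlib.Algebra.Category.Grp.EnoughInjectives

/-!
# Maps on cohomology induced by a morphism of abelian sheaves over a continuous map

For `g : X ⟶ Y` and `α : M ⟶ g_* N` the map `H^p(Y, M) → H^p(X, N)`, and its calculus.
-/

set_option autoImplicit false
set_option backward.isDefEq.respectTransparency false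
set_option linter.style.haveILetI false

universe u

open CategoryTheory CategoryTheory.Limits TopologicalSpace Opposite Abelian

noncomputable section

namespace Groth.Agent.CExt24

open CohPull

variable {X Y Z : TopCat.{u}}

/-- The transpose of `α : M ⟶ g_* N`. -/
abbrev gAdj (g : X ⟶ Y) {M : CohTop.Ab Y} {N : CohTop.Ab X} (α : M ⟶ (CohTop.push g).obj N) :
    (inv g).obj M ⟶ N :=
  ((invPushAdj g).homEquiv M N).symm α

/-- `H^p(Y, M) → H^p(X, N)` along `α : M ⟶ g_* N`. -/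
def pm (g : X ⟶ Y) {M : CohTop.Ab Y} {N : CohTop.Ab X} (α : M ⟶ (CohTop.push g).obj N) (p : ℕ) :
    Sheaf.H M p →+ Sheaf.H N p :=
  (Sheaf.H.map (gAdj g α) p).comp (pullAb g M p)

/-- `pullAb` is the map along the unit. -/
theorem pm_unit (g : X ⟶ Y) (M : CohTop.Ab Y) (p : ℕ) (x : Sheaf.H M p) :
    pm g ((invPushAdj g).unit.app M) p x = pullAb g M p x := by
  have : gAdj g ((invPushAdj g).unit.app M) = 𝟙 _ := by
    rw [Equiv.symm_apply_eq, Adjunction.homEquiv_unit, CategoryTheory.Functor.map_id]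
    exact (Category.comp_id _).symm
  rw [pm, AddMonoidHom.comp_apply, this]
  exact Sheaf.H.map_id_apply _

theorem map_pm (g : X ⟶ Y) {M : CohTop.Ab Y} {N N' : CohTop.Ab X} (α : M ⟶ (CohTop.push g).obj N)
    (ψ : N ⟶ N') (p : ℕ) (x : Sheaf.H M p) :
    Sheaf.H.map ψ p (pm g α p x) = pm g (α ≫ (CohTop.push g).map ψ) p x := by
  simp only [pm, AddMonoidHom.comp_apply, gAdj, Adjunction.homEquiv_naturality_right_symm]
  exact (Sheaf.H.map_comp_apply _ _ _).symm

theorem pullAb_map (g : X ⟶ Y) {M M' : CohTop.Ab Y} (φ : M ⟶ M') (p : ℕ) (x : Sheaf.H M p) :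
    pullAb g M' p (Sheaf.H.map φ p x) = Sheaf.H.map ((inv g).map φ) p (pullAb g M p x) := by
  simp only [pullAb, AddMonoidHom.comp_apply, Functor.mapExtAddHom_apply, Sheaf.H.map_apply,
    Ext.mapExactFunctor_comp, Ext.mapExactFunctor_mk₀]
  exact (Ext.comp_assoc_of_third_deg_zero _ _ _ (zero_add p)).symm

theorem pm_map (g : X ⟶ Y) {M M' : CohTop.Ab Y} {N : CohTop.Ab X} (φ : M ⟶ M')
    (α : M' ⟶ (CohTop.push g).obj N) (p : ℕ) (x : Sheaf.H M p) :
    pm g α p (Sheaf.H.map φ p x) = pm g (φ ≫ α) p x := by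
  simp only [pm, AddMonoidHom.comp_apply, gAdj, Adjunction.homEquiv_naturality_left_symm,
    Sheaf.H.map_comp_apply, pullAb_map]

/-- In degree zero `pm` is `α` on global sections. -/
theorem equiv₀_pm (g : X ⟶ Y) {M : CohTop.Ab Y} {N : CohTop.Ab X} (α : M ⟶ (CohTop.push g).obj N)
    (x : Sheaf.H M 0) :
    Sheaf.H.equiv₀ N isTerminalTop (pm g α 0 x) =
      α.hom.app (op ⊤) (Sheaf.H.equiv₀ M isTerminalTop x) := by
  simp only [pm, AddMonoidHom.comp_apply]
  rw [← Sheaf.H.equiv₀_naturality, equiv₀_pullAb]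
  have h : (invPushAdj g).unit.app M ≫ (CohTop.push g).map (gAdj g α) = α := by
    exact ((invPushAdj g).homEquiv_unit _ _ _).symm.trans (Equiv.apply_symm_apply _ _)
  exact congr_arg (fun t => (t.hom.app (op ⊤)) (Sheaf.H.equiv₀ M isTerminalTop x)) h

/-- The connecting homomorphism on cohomology. -/
abbrev delta {S : ShortComplex (CohTop.Ab X)} (hS : S.ShortExact) (p : ℕ) :
    Sheaf.H S.X₃ p →+ Sheaf.H S.X₁ (p + 1) :=
  hS.extClass.postcomp (CohTop.const X (ULift.{u} ℤ)) rfl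

/-- `pm` commutes with connecting homomorphisms. -/
theorem pm_delta (g : X ⟶ Y) {S : ShortComplex (CohTop.Ab Y)} {T : ShortComplex (CohTop.Ab X)}
    (hS : S.ShortExact) (hT : T.ShortExact)
    (a₁ : S.X₁ ⟶ (CohTop.push g).obj T.X₁) (a₂ : S.X₂ ⟶ (CohTop.push g).obj T.X₂)
    (a₃ : S.X₃ ⟶ (CohTop.push g).obj T.X₃)
    (h₁₂ : S.f ≫ a₂ = a₁ ≫ (CohTop.push g).map T.f) (h₂₃ : S.g ≫ a₃ = a₂ ≫ (CohTop.push g).map T.g)
    (p : ℕ) (x : Sheaf.H S.X₃ p) :
    pm g a₁ (p + 1) (delta hS p x) = delta hT p (pm g a₃ p x) := by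
  let φ : S.map (inv g) ⟶ T := ShortComplex.homMk (gAdj g a₁) (gAdj g a₂) (gAdj g a₃)
    (by
      show gAdj g a₁ ≫ T.f = (inv g).map S.f ≫ gAdj g a₂
      rw [gAdj, gAdj, ← Adjunction.homEquiv_naturality_right_symm,
        ← Adjunction.homEquiv_naturality_left_symm, h₁₂])
    (by
      show gAdj g a₂ ≫ T.g = (inv g).map S.g ≫ gAdj g a₃
      rw [gAdj, gAdj, ← Adjunction.homEquiv_naturality_right_symm,
        ← Adjunction.homEquiv_naturality_left_symm, h₂₃])
  have e := ShortComplex.ShortExact.extClass_naturality (hS.map_of_exact (inv g)) hT φ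
  simp only [pm, pullAb, delta, AddMonoidHom.comp_apply, Functor.mapExtAddHom_apply, Sheaf.H.map_apply,
    AddMonoidHom.flip_apply, Ext.bilinearComp, AddMonoidHom.mk'_apply, Ext.mapExactFunctor_comp, Ext.mapExactFunctor_extClass]
  let o := Ext.mk₀ (oneTo g)
  let xm := x.mapExactFunctor (inv g)
  let E := (hS.map_of_exact (inv g)).extClass
  show (o.comp (xm.comp E rfl) (zero_add (p + 1))).comp (Ext.mk₀ φ.τ₁) (add_zero (p + 1)) =
    ((o.comp xm (zero_add p)).comp (Ext.mk₀ φ.τ₃) (add_zero p)).comp hT.extClass rfl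
  rw [← Ext.comp_assoc o xm E (zero_add p) rfl (show (0 : ℕ) + p + 1 = p + 1 by lia),
    Ext.comp_assoc_of_third_deg_zero, Ext.comp_assoc_of_second_deg_zero]
  exact congrArg (fun c => (o.comp xm (zero_add p)).comp c rfl) e

/-- Everything of positive degree comes from an embedding into an injective sheaf. -/
theorem exists_eq_delta {M : CohTop.Ab X} {S : ShortComplex (CohTop.Ab X)} (hS : S.ShortExact)
    [Injective S.X₂] (e : S.X₁ = M) (p : ℕ) (x : Sheaf.H M (p + 1)) :
    ∃ y, e ▸ delta hS p y = x := by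
  subst e
  exact Ext.covariant_sequence_exact₁ _ hS x (Ext.eq_zero_of_injective _) rfl

/-- A morphism into an injective extends to an injective embedding. -/
theorem exists_emb (g : X ⟶ Y) {S : ShortComplex (CohTop.Ab Y)} (hS : S.ShortExact)
    {N : CohTop.Ab X} (α : S.X₁ ⟶ (CohTop.push g).obj N) :
    ∃ (T : ShortComplex (CohTop.Ab X)) (_ : T.ShortExact) (_ : Injective T.X₂) (e : N = T.X₁)
      (a₂ : S.X₂ ⟶ (CohTop.push g).obj T.X₂) (a₃ : S.X₃ ⟶ (CohTop.push g).obj T.X₃),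
      S.f ≫ a₂ = (α ≫ (CohTop.push g).map (eqToHom e)) ≫ (CohTop.push g).map T.f ∧
        S.g ≫ a₃ = a₂ ≫ (CohTop.push g).map T.g := by
  let T := EtMVLib.injSES N
  have hT : T.ShortExact := EtMVLib.injSES_shortExact N
  haveI : Injective T.X₂ := inferInstanceAs (Injective (Injective.under N))
  haveI : Injective ((CohTop.push g).obj T.X₂) := Injective.injective_of_adjoint (invPushAdj g) _
  haveI := hS.mono_f
  haveI := hS.epi_g
  let a₂ : S.X₂ ⟶ (CohTop.push g).obj T.X₂ :=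
    Injective.factorThru (α ≫ (CohTop.push g).map T.f) S.f
  have h2 : S.f ≫ a₂ = α ≫ (CohTop.push g).map T.f := Injective.comp_factorThru _ _
  refine ⟨T, hT, inferInstance, rfl, a₂,
    hS.gIsCokernel.desc (CokernelCofork.ofπ (a₂ ≫ (CohTop.push g).map T.g) ?_), ?_,
    hS.gIsCokernel.fac _ WalkingParallelPair.one⟩
  · rw [← Category.assoc, h2, Category.assoc, ← Functor.map_comp, T.zero, Functor.map_zero, comp_zero]
  · rw [h2, eqToHom_refl, CategoryTheory.Functor.map_id, Category.comp_id]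

/-- Functoriality in composites of continuous maps. -/
theorem pm_comp (h : Z ⟶ X) (g : X ⟶ Y) {M : CohTop.Ab Y} {N : CohTop.Ab X} {P : CohTop.Ab Z}
    (α : M ⟶ (CohTop.push g).obj N) (β : N ⟶ (CohTop.push h).obj P) (p : ℕ) (x : Sheaf.H M p) :
    pm h β p (pm g α p x) = pm (h ≫ g) (α ≫ (CohTop.push g).map β) p x := by
  induction p generalizing M N P with
  | zero =>
    apply (Sheaf.H.equiv₀ P isTerminalTop).injective
    rw [equiv₀_pm, equiv₀_pm, equiv₀_pm]
    rfl
  | succ p ih =>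
    let S := EtMVLib.injSES M
    have hS : S.ShortExact := EtMVLib.injSES_shortExact M
    haveI : Injective S.X₂ := inferInstanceAs (Injective (Injective.under M))
    obtain ⟨y, rfl⟩ := exists_eq_delta hS (rfl : S.X₁ = M) p x
    obtain ⟨T, hT, -, rfl, a₂, a₃, ha₁, ha₂⟩ := exists_emb g hS α
    obtain ⟨R, hR, -, rfl, b₂, b₃, hb₁, hb₂⟩ := exists_emb h hT β
    simp only [eqToHom_refl, CategoryTheory.Functor.map_id, Category.comp_id] at ha₁ hb₁
    show pm h β (p + 1) (pm g α (p + 1) (delta hS p y)) = pm (h ≫ g) _ (p + 1) (delta hS p y)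
    rw [pm_delta g hS hT α a₂ a₃ ha₁ ha₂, pm_delta h hT hR β b₂ b₃ hb₁ hb₂,
      pm_delta (h ≫ g) hS hR (α ≫ (CohTop.push g).map β) (a₂ ≫ (CohTop.push g).map b₂)
        (a₃ ≫ (CohTop.push g).map b₃), ih]
    · rw [← Category.assoc, ha₁, Category.assoc, ← Functor.map_comp, hb₁, Category.assoc]
      simp only [Functor.map_comp]
      rfl
    · rw [← Category.assoc, ha₂, Category.assoc, ← Functor.map_comp, hb₂, Category.assoc]
      simp only [Functor.map_comp]
      rfl

/-- Over the identity `pm` is functoriality in the sheaf. -/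
theorem pm_id {M N : CohTop.Ab X} (ψ : M ⟶ N) (p : ℕ) (x : Sheaf.H M p) :
    pm (𝟙 X) (show M ⟶ (CohTop.push (𝟙 X)).obj N from ψ) p x = Sheaf.H.map ψ p x := by
  induction p generalizing M N with
  | zero =>
    apply (Sheaf.H.equiv₀ N isTerminalTop).injective
    rw [equiv₀_pm, ← Sheaf.H.equiv₀_naturality]
    rfl
  | succ p ih =>
    let S := EtMVLib.injSES M
    have hS : S.ShortExact := EtMVLib.injSES_shortExact M
    haveI : Injective S.X₂ := inferInstanceAs (Injective (Injective.under M))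
    obtain ⟨y, rfl⟩ := exists_eq_delta hS (rfl : S.X₁ = M) p x
    obtain ⟨T, hT, -, rfl, a₂, a₃, ha₁, ha₂⟩ :=
      exists_emb (𝟙 X) hS (show S.X₁ ⟶ (CohTop.push (𝟙 X)).obj N from ψ)
    simp only [eqToHom_refl, CategoryTheory.Functor.map_id, Category.comp_id] at ha₁
    show pm (𝟙 X) _ (p + 1) (delta hS p y) = Sheaf.H.map ψ (p + 1) (delta hS p y)
    rw [pm_delta (𝟙 X) hS hT _ a₂ a₃ ha₁ ha₂, ih (show S.X₃ ⟶ T.X₃ from a₃)]
    let φ : S ⟶ T := ShortComplex.homMk ψ a₂ a₃ ha₁.symm ha₂.symm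
    simp only [delta, Sheaf.H.map_apply]
    exact (Ext.comp_assoc_of_second_deg_zero _ _ _ _).trans
      ((congrArg (fun c => y.comp c rfl) (ShortComplex.ShortExact.extClass_naturality hS hT φ)).symm.trans
        (Ext.comp_assoc_of_third_deg_zero _ _ _ _).symm)

end Groth.Agent.CExt24
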