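import Groth.Agent.QCoh.AlgGen
import Groth.Agent.QCoh.FT
import Mathlib.Topology.Sheaves.SheafCondition.UniqueGluing

/-!
# The subalgebra generated by a submodule of finite type
-/

set_option autoImplicit false
set_option backward.isDefEq.respectTransparency false
set_option backward.isDefEq.respectTransparency.types false
set_option linter.style.haveILetI false

universe u

open CategoryTheory CategoryTheory.Limits AlgebraicGeometry TopologicalSpace Opposite

noncomputable section

namespace Groth.Agent.CExt24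

open RelSpec Groth.Agent.QCoh

variable {X : Scheme.{u}} (B : QCAlg X) (N : SubMod B.toModule)

theorem rB_rB {U V W : X.Opens} (h : V ≤ U) (h' : W ≤ V) (s : B.presheaf.obj (op U)) :
    rB B h' (rB B h s) = rB B (h'.trans h) s := by
  show (B.presheaf.map _).hom ((B.presheaf.map _).hom s) = _
  rw [← CommRingCat.comp_apply, ← Functor.map_comp]
  rfl

theorem rB_self {U : X.Opens} (h : U ≤ U) (s : B.presheaf.obj (op U)) : rB B h s = s := by
  show (B.presheaf.map (𝟙 _)).hom s = s
  rw [CategoryTheory.Functor.map_id]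
  rfl

/-- Sections locally in the generated subring. -/
def locGen (O : X.Opens) : Subring (B.presheaf.obj (op O)) where
  carrier := {b | ∀ x ∈ O, ∃ (P : X.Opens) (hP : P ≤ O), x ∈ P ∧ rB B hP b ∈ genRing B N P}
  one_mem' := fun x hx => ⟨O, le_rfl, hx, by rw [map_one]; exact one_mem _⟩
  zero_mem' := fun x hx => ⟨O, le_rfl, hx, by rw [map_zero]; exact zero_mem _⟩
  add_mem' := fun {a b} ha hb x hx => by
    obtain ⟨P, hP, hxP, h1⟩ := ha x hx
    obtain ⟨Q, hQ, hxQ, h2⟩ := hb x hx
    refine ⟨P ⊓ Q, inf_le_left.trans hP, ⟨hxP, hxQ⟩, ?_⟩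
    rw [map_add]
    refine add_mem ?_ ?_
    · simpa only [rB_rB] using rB_mem_genRing B N (inf_le_left : P ⊓ Q ≤ P) h1
    · simpa only [rB_rB] using rB_mem_genRing B N (inf_le_right : P ⊓ Q ≤ Q) h2
  mul_mem' := fun {a b} ha hb x hx => by
    obtain ⟨P, hP, hxP, h1⟩ := ha x hx
    obtain ⟨Q, hQ, hxQ, h2⟩ := hb x hx
    refine ⟨P ⊓ Q, inf_le_left.trans hP, ⟨hxP, hxQ⟩, ?_⟩
    rw [map_mul]
    refine mul_mem ?_ ?_
    · simpa only [rB_rB] using rB_mem_genRing B N (inf_le_left : P ⊓ Q ≤ P) h1
    · simpa only [rB_rB] using rB_mem_genRing B N (inf_le_right : P ⊓ Q ≤ Q) h2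
  neg_mem' := fun {a} ha x hx => by
    obtain ⟨P, hP, hxP, h⟩ := ha x hx
    exact ⟨P, hP, hxP, by rw [map_neg]; exact neg_mem h⟩

theorem genRing_le_locGen (O : X.Opens) : genRing B N O ≤ locGen B N O :=
  fun b hb x hx => ⟨O, le_rfl, hx, rB_mem_genRing B N _ hb⟩

theorem rB_mem_locGen {U V : X.Opens} (h : V ≤ U) {b : B.presheaf.obj (op U)} (hb : b ∈ locGen B N U) :
    rB B h b ∈ locGen B N V := fun x hx => by
  obtain ⟨P, hP, hxP, hPb⟩ := hb x (h hx)
  refine ⟨P ⊓ V, inf_le_right, ⟨hxP, hx⟩, ?_⟩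
  simpa only [rB_rB] using rB_mem_genRing B N (inf_le_left : P ⊓ V ≤ P) hPb

variable {N}

/-- On an affine open the sections locally in the generated subring are in it. -/
theorem locGen_le_genRing (hN : FTOn N ⊤) {U : X.Opens} (hU : IsAffineOpen U) :
    locGen B N U ≤ genRing B N U := by
  intro b hb
  let bM : Γ(B.toModule, U) := b
  let I : Ideal Γ(X, U) :=
  { carrier := {a | (B.str.app (op U)).hom a * b ∈ genRing B N U}
    zero_mem' := by
      show (B.str.app (op U)).hom 0 * b ∈ genRing B N U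
      rw [map_zero, zero_mul]; exact zero_mem _
    add_mem' := fun {a c} ha hc => by
      show (B.str.app (op U)).hom (a + c) * b ∈ genRing B N U
      rw [map_add, add_mul]; exact add_mem ha hc
    smul_mem' := fun r a ha => by
      show (B.str.app (op U)).hom (r * a) * b ∈ genRing B N U
      rw [map_mul, mul_assoc]; exact mul_mem (str_mem_genRing B N r) ha }
  have hI : I.radical = ⊤ := by
    refine top_unique ((hU.self_le_iSup_basicOpen_iff (s := (I.radical : Set Γ(X, U)))).1 ?_
      |>.ge.trans (Ideal.span_le.2 subset_rfl))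
    intro x hx
    obtain ⟨P, hP, hxP, hPb⟩ := hb x hx
    obtain ⟨g, hg, hxg⟩ := hU.exists_basicOpen_le ⟨x, hxP⟩ hx
    have hgb : rB B (X.basicOpen_le g) b ∈ genRing B N (X.basicOpen g) := by
      simpa only [rB_rB] using rB_mem_genRing B N hg hPb
    obtain ⟨n, c, hc, hcb⟩ := exists_lift_genRing B hN hU g hgb
    have h0 : rs B.toModule (X.basicOpen_le g) (g ^ n • bM - (show Γ(B.toModule, U) from c)) = 0 := by
      show rB B (X.basicOpen_le g) ((B.str.app (op U)).hom (g ^ n) * b - c) = 0
      rw [map_sub, map_mul, map_pow, map_pow, rB_str, hcb, sub_self]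
    obtain ⟨m, hm⟩ := exists_pow_smul_eq_zero (isQCoh_toModule B) hU g _ h0
    refine Opens.mem_iSup.2 ⟨⟨g, ⟨m + n, ?_⟩⟩, hxg⟩
    show (B.str.app (op U)).hom (g ^ (m + n)) * b ∈ genRing B N U
    have hm' : (B.str.app (op U)).hom (g ^ m) * ((B.str.app (op U)).hom (g ^ n) * b - c) = 0 := hm
    rw [mul_sub, sub_eq_zero, ← mul_assoc, ← map_mul, ← pow_add] at hm'
    rw [hm']
    exact mul_mem (str_mem_genRing B N _) hc
  have h1 : (1 : Γ(X, U)) ∈ I := (Ideal.eq_top_iff_one _).1 (Ideal.radical_eq_top.1 hI)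
  have h2 : (B.str.app (op U)).hom 1 * b ∈ genRing B N U := h1
  rwa [map_one, one_mul] at h2

variable (N)

/-- The presheaf of sections locally in the generated subring. -/
def genPresheaf : TopCat.Presheaf CommRingCat.{u} X.carrier where
  obj O := CommRingCat.of (locGen B N O.unop)
  map {O O'} i := CommRingCat.ofHom
    { toFun := fun b => ⟨rB B i.unop.le b.1, rB_mem_locGen B N _ b.2⟩
      map_one' := Subtype.ext (map_one _)
      map_mul' := fun _ _ => Subtype.ext (map_mul _ _ _)
      map_zero' := Subtype.ext (map_zero _)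
      map_add' := fun _ _ => Subtype.ext (map_add _ _ _) }
  map_id O := CommRingCat.hom_ext (RingHom.ext fun b => Subtype.ext (rB_self B _ _))
  map_comp {O O' O''} i j := CommRingCat.hom_ext (RingHom.ext fun b =>
    Subtype.ext (rB_rB B i.unop.le j.unop.le b.1).symm)

/-- The inclusion. -/
def genIncl : genPresheaf B N ⟶ B.presheaf where
  app O := CommRingCat.ofHom (locGen B N O.unop).subtype
  naturality _ _ _ := rfl

theorem isSheaf_genPresheaf : (genPresheaf B N).IsSheaf := by
  rw [TopCat.Presheaf.isSheaf_iff_isSheafUniqueGluing]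
  intro ι U sf hsf
  let sf' : ∀ i, B.presheaf.obj (op (U i)) := fun i => Subtype.val (show locGen B N (U i) from sf i)
  obtain ⟨s, hs, huniq⟩ := (B.presheaf.isSheaf_iff_isSheafUniqueGluing.1 B.isSheaf) U sf'
    (fun i j => congrArg Subtype.val (hsf i j))
  have hmem : s ∈ locGen B N (iSup U) := fun x hx => by
    obtain ⟨i, hi⟩ := Opens.mem_iSup.1 hx
    obtain ⟨P, hP, hxP, h⟩ := Subtype.prop (show locGen B N (U i) from sf i) x hi
    refine ⟨P, hP.trans (le_iSup U i), hxP, ?_⟩
    have e : rB B (le_iSup U i) s = sf' i := hs i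
    rw [← rB_rB B (le_iSup U i) hP, e]
    exact h
  refine ⟨(⟨s, hmem⟩ : locGen B N (iSup U)), fun i => Subtype.ext (hs i), fun t ht => Subtype.ext ?_⟩
  exact huniq _ fun i => congrArg Subtype.val (ht i)

variable {N}

/-- The structure map of the generated algebra. -/
def genStr : X.presheaf ⟶ genPresheaf B N where
  app O := CommRingCat.ofHom ((B.str.app O).hom.codRestrict (locGen B N O.unop)
    fun a => genRing_le_locGen B N _ (str_mem_genRing B N a))
  naturality O O' i := CommRingCat.hom_ext (RingHom.ext fun a =>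
    Subtype.ext congr($(B.str.naturality i) a))

theorem isQC_gen (hN : FTOn N ⊤) : IsQC (genPresheaf B N) (genStr B) := by
  intro U hU r
  let D := X.basicOpen r
  let ρ := (genPresheaf B N).map (homOfLE (X.basicOpen_le r)).op
  letI := ρ.hom.toAlgebra
  let bU : B.presheaf.obj (op U) := (B.str.app (op U)).hom r
  refine (isLocalization_iff _ _).mpr ⟨fun ⟨_, n, rfl⟩ => ?_, fun z => ?_, fun {x y} hxy => ?_⟩
  · show IsUnit (ρ.hom (((genStr B).app (op U)).hom r ^ n))
    rw [map_pow]
    refine IsUnit.pow n ?_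
    have e : ρ.hom (((genStr B).app (op U)).hom r) =
        ((genStr B).app (op D)).hom (rf X (X.basicOpen_le r) r) :=
      Subtype.ext (rB_str B (X.basicOpen_le r) r)
    rw [e]
    exact (RingedSpace.isUnit_res_basicOpen X.toRingedSpace r).map _
  · let z' : locGen B N D := z
    obtain ⟨n, c, hc, hcz⟩ := exists_lift_genRing B hN hU r (locGen_le_genRing B hN (hU.basicOpen r) z'.2)
    refine ⟨((⟨c, genRing_le_locGen B N U hc⟩ : locGen B N U), ⟨_, n, rfl⟩), Subtype.ext ?_⟩
    show z'.1 * rB B (X.basicOpen_le r)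
        (Subtype.val (show locGen B N U from ((genStr B).app (op U)).hom r ^ n)) =
      rB B (X.basicOpen_le r) c
    rw [hcz, mul_comm]
    refine congrArg (· * z'.1) ?_
    show rB B (X.basicOpen_le r) (bU ^ n) = _
    rw [map_pow]
    exact congrArg (· ^ n) (rB_str B (X.basicOpen_le r) r)
  · letI := (B.presheaf.map (homOfLE (X.basicOpen_le r)).op).hom.toAlgebra
    haveI := B.isQC U hU r
    have h1 : algebraMap (B.presheaf.obj (op U)) (B.presheaf.obj (op D)) (Subtype.val (show locGen B N U from x)) =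
        algebraMap (B.presheaf.obj (op U)) (B.presheaf.obj (op D)) (Subtype.val (show locGen B N U from y)) :=
      congrArg Subtype.val hxy
    obtain ⟨⟨_, n, rfl⟩, hn⟩ := (IsLocalization.eq_iff_exists (Submonoid.powers bU) _).1 h1
    exact ⟨⟨_, n, rfl⟩, Subtype.ext hn⟩

/-- The quasi-coherent algebra generated by a submodule of finite type. -/
def genAlg (hN : FTOn N ⊤) : QCAlg X where
  presheaf := genPresheaf B N
  isSheaf := isSheaf_genPresheaf B N
  str := genStr B
  isQC := isQC_gen B hN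

/-- Its inclusion. -/
def genHom (hN : FTOn N ⊤) : genAlg B hN ⟶ B := ⟨genIncl B N, rfl⟩

theorem finiteType_genAlg (hN : FTOn N ⊤) (V : X.affineOpens) :
    ((genAlg B hN).str.app (op (V : X.Opens))).hom.FiniteType := by
  classical
  letI : Algebra Γ(X, V.1) (locGen B N V.1) := ((genStr B).app (op V.1)).hom.toAlgebra
  show Algebra.FiniteType Γ(X, V.1) (locGen B N V.1)
  haveI : Module.Finite Γ(X, V.1) Γ(N.toModules, V.1) :=
    finite_of_isFT (isQCoh_of_ftOn (isQCoh_toModule B) hN) (isFT_of_ftOn (isQCoh_toModule B) hN) V.2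
  have hfg : (N.mem V.1).FG := Module.Finite.iff_fg.1 this
  obtain ⟨T, hTfin, hT⟩ := Submodule.fg_def.1 hfg
  have hTmem : ∀ t ∈ T, (show B.presheaf.obj (op V.1) from t) ∈ locGen B N V.1 := fun t ht =>
    genRing_le_locGen B N _ (Subring.subset_closure (Or.inr (hT ▸ Submodule.subset_span ht : t ∈ N.mem V.1)))
  have : Finite T := hTfin
  let T' : Set (locGen B N V.1) := Set.range fun t : T => ⟨_, hTmem t.1 t.2⟩
  refine ⟨⟨(Set.finite_range (fun t : T => (⟨_, hTmem t.1 t.2⟩ : locGen B N V.1))).toFinset, ?_⟩⟩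
  rw [Set.Finite.coe_toFinset]
  refine eq_top_iff.2 fun b _ => ?_
  let A : Subalgebra Γ(X, V.1) (locGen B N V.1) := Algebra.adjoin Γ(X, V.1) T'
  suffices h : genRing B N V.1 ≤ A.toSubring.map (locGen B N V.1).subtype by
    obtain ⟨a, ha, e⟩ := h (locGen_le_genRing B hN V.2 b.2)
    obtain rfl : a = b := Subtype.ext e
    exact ha
  refine Subring.closure_le.2 (Set.union_subset ?_ ?_)
  · rintro _ ⟨a, rfl⟩
    exact ⟨algebraMap Γ(X, V.1) (locGen B N V.1) a, A.algebraMap_mem a, rfl⟩
  · intro z hz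
    have hz' : (show Γ(B.toModule, V.1) from z) ∈ Submodule.span Γ(X, V.1) T := hT.symm ▸ hz
    let M : Submodule Γ(X, V.1) Γ(B.toModule, V.1) :=
      { carrier := {w | (show B.presheaf.obj (op V.1) from w) ∈ A.toSubring.map (locGen B N V.1).subtype}
        zero_mem' := (A.toSubring.map (locGen B N V.1).subtype).zero_mem
        add_mem' := fun {a b} ha hb => (A.toSubring.map (locGen B N V.1).subtype).add_mem ha hb
        smul_mem' := fun c w hw => (A.toSubring.map (locGen B N V.1).subtype).mul_mem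
          (Subring.mem_map.2 ⟨algebraMap Γ(X, V.1) (locGen B N V.1) c, A.algebraMap_mem c, rfl⟩) hw }
    exact (Submodule.span_le.2 fun t ht => show t ∈ M from
      (Subring.mem_map (y := (show B.presheaf.obj (op V.1) from t))).2 ⟨_, Algebra.subset_adjoin ⟨⟨t, ht⟩, rfl⟩, rfl⟩) hz'

/-- A section over an affine open lies in a subalgebra of finite type. -/
theorem exists_finiteType_subalgebra (U : X.affineOpens) (hs : ExtStep U.1)
    (b : B.presheaf.obj (op (U : X.Opens))) :
    ∃ (B' : QCAlg X) (φ : B' ⟶ B),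
      (∀ V : X.Opens, Function.Injective (φ.hom.app (op V)).hom) ∧
      (∀ V : X.affineOpens, (B'.str.app (op (V : X.Opens))).hom.FiniteType) ∧
      b ∈ Set.range (φ.hom.app (op (U : X.Opens))).hom := by
  obtain ⟨N, hN, hb⟩ := exists_ftOn_contains (isQCoh_toModule B) U.2 hs
    ({(show Γ(B.toModule, U.1) from b)}) (Set.finite_singleton _)
  exact ⟨genAlg B hN, genHom B hN, fun V => Subtype.val_injective, finiteType_genAlg B hN,
    ⟨⟨b, genRing_le_locGen B N _ (Subring.subset_closure (Or.inr (hb rfl)))⟩, rfl⟩⟩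

end Groth.Agent.CExt24
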