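import Groth.Agent.CExt24.GMapMod
import Groth.Agent.ExistEasy.PP.PullSec

/-!
# The map on opens behind `CohPull.pullOn`
-/

set_option autoImplicit false
set_option backward.isDefEq.respectTransparency false
set_option backward.isDefEq.respectTransparency.types false
set_option linter.style.haveILetI false
set_option maxHeartbeats 1000000

universe u

open CategoryTheory CategoryTheory.Limits AlgebraicGeometry TopologicalSpace Opposite

noncomputable section

namespace Groth.Agent.CExt24

variable {X Y : Scheme.{u}}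

theorem app_inv_hom {A B : X.Modules} (e : A ≅ B) (W : X.Opens) (z : Γ(A, W)) :
    e.inv.app W (e.hom.app W z) = z :=
  congrArg (fun t : A ⟶ A => t.app W z) e.hom_inv_id

/-- Restriction is pullback, on sections. -/
theorem restrictIso_app (j : X ⟶ Y) [IsOpenImmersion j] (F : Y.Modules) (W : X.Opens)
    (x : Γ(F, j ''ᵁ W)) :
    ((Scheme.Modules.restrictFunctorIsoPullback j).hom.app F).app W x =
      QCoh.pullSec j F (j.preimage_image_eq W).ge x := by
  let e := (Scheme.Modules.restrictFunctorIsoPullback j).hom.app F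
  have hcp : e.app (j ⁻¹ᵁ (j ''ᵁ W))
        (F.presheaf.map (homOfLE (j.image_preimage_le (j ''ᵁ W))).op x) =
      ((Scheme.Modules.pullbackPushforwardAdjunction j).unit.app F).app (j ''ᵁ W) x :=
    congrArg (fun t : F ⟶ (Scheme.Modules.pushforward j).obj _ => t.app (j ''ᵁ W) x)
      (Adjunction.unit_leftAdjointUniq_hom_app (Scheme.Modules.restrictAdjunction j)
        (Scheme.Modules.pullbackPushforwardAdjunction j) F)
  show e.app W x = ((Scheme.Modules.pullback j).obj F).presheaf.map
    (homOfLE (j.preimage_image_eq W).ge).op _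
  rw [← hcp]
  refine Eq.trans ?_ (QCoh.map_app_comm e (homOfLE (j.preimage_image_eq W).ge) _)
  refine congrArg (e.app W) ?_
  show x = F.presheaf.map (j.opensFunctor.map (homOfLE (j.preimage_image_eq W).ge)).op
    (F.presheaf.map (homOfLE (j.image_preimage_le (j ''ᵁ W))).op x)
  rw [QCoh.map_map]
  have : (j.opensFunctor.map (homOfLE (j.preimage_image_eq W).ge) ≫
      homOfLE (j.image_preimage_le (j ''ᵁ W))) = 𝟙 _ := Subsingleton.elim _ _
  rw [this, op_id, CategoryTheory.Functor.map_id]
  rfl

variable (g : X ⟶ Y) (U : Y.Opens) (U' : X.Opens) (h : U' ≤ g ⁻¹ᵁ U)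

/-- The morphism `F|_U ⟶ r_* ((g^* F)|_{U'})` behind the pullback on cohomology over opens. -/
def onMap (F : Y.Modules) :
    F.restrict U.ι ⟶ (Scheme.Modules.pushforward (g.resLE U U' h)).obj
      (((Scheme.Modules.pullback g).obj F).restrict U'.ι) :=
  (Scheme.Modules.pullbackPushforwardAdjunction (g.resLE U U' h)).unit.app (F.restrict U.ι) ≫
    (Scheme.Modules.pushforward (g.resLE U U' h)).map (CohPull.pullOnIso g U U' h F).hom

/-- `CohPull.pullOn` is the map along `onMap`. -/
theorem pullOn_eq_pm (F : Y.Modules) (p : ℕ) (x : Coh.HHon Y F U p) :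
    CohPull.pullOn g U U' h F p x = pmMod (g.resLE U U' h) (onMap g U U' h F) p x := by
  rw [CohPull.pullOn, AddMonoidHom.comp_apply, pullMod_eq_pm, mapH_pmMod, onMap]
  rfl

theorem image_preimage_resLE_le (W : U.toScheme.Opens) :
    U'.ι ''ᵁ (g.resLE U U' h ⁻¹ᵁ W) ≤ g ⁻¹ᵁ (U.ι ''ᵁ W) := by
  rintro _ ⟨x, hx, rfl⟩
  refine ⟨g.resLE U U' h x, hx, ?_⟩
  exact congr($(Scheme.Hom.resLE_comp_ι g h).base x)

/-- `onMap` on sections is the pullback of sections. -/
theorem onMap_app (F : Y.Modules) (W : U.toScheme.Opens) (x : Γ(F, U.ι ''ᵁ W)) :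
    (onMap g U U' h F).app W x =
      QCoh.pullSec g F (image_preimage_resLE_le g U U' h W) x := by
  let r := g.resLE U U' h
  let W' : U'.toScheme.Opens := r ⁻¹ᵁ W
  let iU := (Scheme.Modules.restrictFunctorIsoPullback U.ι).hom.app F
  let G := (Scheme.Modules.pullback g).obj F
  let iU' := (Scheme.Modules.restrictFunctorIsoPullback U'.ι).app G
  show (CohPull.pullOnIso g U U' h F).hom.app W'
    (((Scheme.Modules.pullbackPushforwardAdjunction r).unit.app (F.restrict U.ι)).app W x) = _
  have hrefl : ((Scheme.Modules.pullbackPushforwardAdjunction r).unit.app (F.restrict U.ι)).app W x =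
      QCoh.pullSec r (F.restrict U.ι) (le_refl W') (show Γ(F.restrict U.ι, W) from x) := by
    unfold QCoh.pullSec
    rw [show (homOfLE (le_refl W')) = 𝟙 _ from rfl, op_id, CategoryTheory.Functor.map_id]
    rfl
  rw [hrefl]
  let y : Γ(G, U'.ι ''ᵁ W') := QCoh.pullSec g F (image_preimage_resLE_le g U U' h W) x
  have s1 : ((Scheme.Modules.pullback r).map iU).app W'
        (QCoh.pullSec r (F.restrict U.ι) (le_refl W') (show Γ(F.restrict U.ι, W) from x)) =
      QCoh.pullSec r ((Scheme.Modules.pullback U.ι).obj F) (le_refl W')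
        (QCoh.pullSec U.ι F (U.ι.preimage_image_eq W).ge x) :=
    (ExistEasy.pullSec_natural r iU (le_refl W') _).trans
      (congrArg (QCoh.pullSec r ((Scheme.Modules.pullback U.ι).obj F) (le_refl W'))
        (restrictIso_app U.ι F W x))
  have s3 : ((Scheme.Modules.pullbackComp r U.ι).hom.app F).app W'
        (QCoh.pullSec r ((Scheme.Modules.pullback U.ι).obj F) (le_refl W')
          (QCoh.pullSec U.ι F (U.ι.preimage_image_eq W).ge x)) = _ :=
    ExistEasy.pullSec_comp r U.ι F (U.ι.preimage_image_eq W).ge (le_refl W') x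
  have s4 := ExistEasy.pullSec_congr (Scheme.Hom.resLE_comp_ι g h) F
    (show W' ≤ (r ≫ U.ι) ⁻¹ᵁ (U.ι ''ᵁ W) from
      (le_refl W').trans ((Opens.map r.base).monotone (U.ι.preimage_image_eq W).ge)) x
  have s5 : ((Scheme.Modules.pullbackComp U'.ι g).hom.app F).app W' (iU'.hom.app W' y) = _ :=
    (congrArg (((Scheme.Modules.pullbackComp U'.ι g).hom.app F).app W')
      (restrictIso_app U'.ι G W' y)).trans
      (ExistEasy.pullSec_comp U'.ι g F (image_preimage_resLE_le g U U' h W)
        (U'.ι.preimage_image_eq W').ge x)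
  show iU'.inv.app W' (((Scheme.Modules.pullbackComp U'.ι g).inv.app F).app W'
    (((Scheme.Modules.pullbackCongr (Scheme.Hom.resLE_comp_ι g h)).hom.app F).app W'
      (((Scheme.Modules.pullbackComp r U.ι).hom.app F).app W'
        (((Scheme.Modules.pullback r).map iU).app W'
          (QCoh.pullSec r (F.restrict U.ι) (le_refl W') (show Γ(F.restrict U.ι, W) from x)))))) = y
  let a := ((Scheme.Modules.pullbackCongr (Scheme.Hom.resLE_comp_ι g h)).hom.app F).app W'
  let b := ((Scheme.Modules.pullbackComp U'.ι g).inv.app F).app W'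
  refine (congrArg (fun z => iU'.inv.app W' (b (a
    (((Scheme.Modules.pullbackComp r U.ι).hom.app F).app W' z)))) s1).trans ?_
  refine (congrArg (fun z => iU'.inv.app W' (b (a z))) s3).trans ?_
  refine (congrArg (fun z => iU'.inv.app W' (b z)) (s4.trans s5.symm)).trans ?_
  refine (congrArg (iU'.inv.app W')
    (app_inv_hom ((Scheme.Modules.pullbackComp U'.ι g).app F) W' (iU'.hom.app W' y))).trans ?_
  exact app_inv_hom iU' W' y

end Groth.Agent.CExt24
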