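import Groth.Agent.CExt24.ModelAlgLoc
import Groth.Agent.FittX.Free

/-!
# The rank stratum of a complex of finite free modules
-/

set_option autoImplicit false
set_option backward.isDefEq.respectTransparency false
set_option backward.isDefEq.respectTransparency.types false
set_option linter.style.haveILetI false
set_option maxHeartbeats 1000000

universe u

open CategoryTheory CategoryTheory.Limits
open scoped TensorProduct

noncomputable section

namespace Groth.Agent.CExt24

open FlatCxLib (Coker fibreRank)

variable {A B : Type u} [CommRing A] [CommRing B]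

theorem fibreRank_of_free (M : Type u) [AddCommGroup M] [Module A M] [Module.Free A M]
    (x : PrimeSpectrum A) : fibreRank M x = Module.finrank A M := by
  haveI : Nontrivial A := (algebraMap A x.asIdeal.ResidueField).domain_nontrivial
  exact Module.finrank_baseChange (R := x.asIdeal.ResidueField) (S := A) (M' := M)

theorem fibreRank_prod (M N : Type u) [AddCommGroup M] [Module A M] [Module.Finite A M] [AddCommGroup N]
    [Module A N] [Module.Finite A N] (x : PrimeSpectrum A) :
    fibreRank (M × N) x = fibreRank M x + fibreRank N x :=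
  (TensorProduct.prodRight A x.asIdeal.ResidueField x.asIdeal.ResidueField M N).finrank_eq.trans
    Module.finrank_prod

/-- Fitting ideals detect projectivity of constant rank. -/
theorem fitt_cond_iff {M : Type u} [AddCommGroup M] [Module A M] [Module.FinitePresentation A M] (n : ℕ) :
    ((∀ k, k < n → Fitt.ideal A M k = ⊥) ∧ Fitt.ideal A M n = ⊤) ↔
      Module.Projective A M ∧ ∀ p, fibreRank (A := A) M p = n := by
  have htop : (∀ k, n ≤ k → Fitt.ideal A M k = ⊤) ↔ Fitt.ideal A M n = ⊤ :=
    ⟨fun h => h n le_rfl, fun h k hk => top_le_iff.1 (h.ge.trans (FittX.ideal_mono hk))⟩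
  rw [← htop, ← FittX.locallyFree_iff]
  constructor
  · intro h
    obtain ⟨hbot, hn⟩ := (FittX.locallyFree_iff (M := M) n).1 h
    refine ⟨Module.freeLocus_eq_univ_iff.1 (Set.eq_univ_of_forall fun p => ?_), fun p => ?_⟩
    · obtain ⟨f, hf, hfree, -⟩ := h p.asIdeal
      haveI := hfree
      exact Module.basicOpen_subset_freeLocus_iff.2 inferInstance hf
    · have h1 : fibreRank M p ≤ n := (FittX.not_le_iff_fiber M n p.asIdeal).1 (by
        rw [hn n le_rfl, top_le_iff]; exact p.2.ne_top)
      refine le_antisymm h1 (not_lt.1 fun hlt => ?_)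
      have := (FittX.not_le_iff_fiber M (fibreRank M p) p.asIdeal).2 le_rfl
      rw [hbot _ hlt] at this
      exact this bot_le
  · rintro ⟨hproj, hr⟩ p hp
    haveI : Module.Free (Localization.AtPrime p) (LocalizedModule p.primeCompl M) :=
      (Module.freeLocus_eq_univ_iff.2 hproj).ge (Set.mem_univ (⟨p, hp⟩ : PrimeSpectrum A))
    obtain ⟨f, hf, hfree, hrk⟩ := Module.FinitePresentation.exists_free_localizedModule_powers
      p.primeCompl (LocalizedModule.mkLinearMap p.primeCompl M) (Localization.AtPrime p)
    exact ⟨f, hf, hfree, hrk.trans ((FlatCxLib.fibreRank_eq_rankAtStalk M ⟨p, hp⟩).symm.trans (hr _))⟩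

variable {P : ChainComplex (ModuleCat.{u} A) ℤ}

theorem dRank_bcCx (φ : A →+* B) (q : ℤ) (y : PrimeSpectrum B) :
    CohIII.dRank (CohIII.bcCx φ P) q y = CohIII.dRank P q (PrimeSpectrum.comap φ y) :=
  FlatCxLib.finrank_homology_bcCx_comp (Ideal.ResidueField.map (PrimeSpectrum.comap φ y).asIdeal y.asIdeal φ rfl)
    P φ (algebraMap B y.asIdeal.ResidueField)
    (algebraMap A (PrimeSpectrum.comap φ y).asIdeal.ResidueField)
    (RingHom.ext fun a => (Ideal.ResidueField.map_algebraMap (PrimeSpectrum.comap φ y).asIdeal y.asIdeal φ rfl a).symm) q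

variable (P) in
/-- The module whose Fitting ideals cut out the rank strata in degree zero. -/
abbrev StrMod : Type u := Coker P 0 (-1) × Coker P 1 0

variable (P) in
/-- The number of generators the rank gets shifted by. -/
abbrev strN (r : ℕ) : ℕ := r + Module.finrank A (P.X (-1))

variable (P) in
/-- The ideal cutting out the rank `r` stratum inside rank `≤ r`. -/
def strIdeal (r : ℕ) : Ideal A := ⨆ k : Fin (strN P r), Fitt.ideal A (StrMod P) k

variable (P) in
/-- The ideal cutting out rank `> r`. -/
def strTop (r : ℕ) : Ideal A := Fitt.ideal A (StrMod P) (strN P r)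

theorem IsFinModel.finitePresentation_strMod (hP : IsFinModel P) :
    Module.FinitePresentation A (StrMod P) := by
  haveI := hP.finitePresentation_coker 0 (-1)
  haveI := hP.finitePresentation_coker 1 0
  infer_instance

theorem fibreRank_strMod (hP : IsFinModel P) (x : PrimeSpectrum A) :
    fibreRank (StrMod P) x = CohIII.dRank P 0 x + Module.finrank A (P.X (-1)) := by
  haveI := hP.finite 0
  haveI := hP.finite (-1)
  haveI := hP.free (-1)
  rw [fibreRank_prod, ← fibreRank_of_free (P.X (-1)) x,
    FlatCxLib.dRank_add P hP.finite (show (0 : ℤ) + 1 = 1 by rfl) (show (-1 : ℤ) + 1 = 0 by rfl) x, add_comm]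

theorem projective_strMod_iff (hP : IsFinModel P) :
    Module.Projective A (StrMod P) ↔ ∀ x, Good P 0 x := by
  haveI := hP.finitePresentation_coker 0 (-1)
  haveI := hP.finitePresentation_coker 1 0
  haveI : Module.Flat A (Coker P (1 : ℤ) 0) := flat_coker_of_good hP (q := 1) (good_top hP one_pos)
  haveI : Module.Projective A (Coker P (1 : ℤ) 0) := Module.Flat.projective_of_finitePresentation
  constructor
  · intro h x
    haveI : Module.Projective A (Coker P 0 (-1)) :=
      Module.Projective.of_split (LinearMap.inl A _ (Coker P (1 : ℤ) 0)) (LinearMap.fst A _ _)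
        (LinearMap.ext fun _ => rfl)
    exact (Module.freeLocus_eq_univ_iff (R := A) (M := Coker P 0 (-1))).2 inferInstance |>.ge (Set.mem_univ x)
  · intro h
    haveI : Module.Projective A (Coker P 0 (-1)) := Module.freeLocus_eq_univ_iff.1 (Set.eq_univ_of_forall h)
    infer_instance

theorem dRank_le_iff (hP : IsFinModel P) (r : ℕ) (x : PrimeSpectrum A) :
    CohIII.dRank P 0 x ≤ r ↔ ¬ strTop P r ≤ x.asIdeal := by
  haveI := hP.finitePresentation_strMod
  refine Iff.trans ?_ (FittX.not_le_iff_fiber (StrMod P) (strN P r) x.asIdeal).symm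
  show _ ↔ fibreRank (StrMod P) x ≤ _
  rw [fibreRank_strMod hP]
  exact (add_le_add_iff_right _).symm

/-- The base change of a cokernel of a differential. -/
def cokerBC (φ : A →+* B) (q q' : ℤ) :
    letI := φ.toAlgebra
    Coker (CohIII.bcCx φ P) q q' ≃ₗ[B] B ⊗[A] Coker P q q' :=
  letI := φ.toAlgebra
  let u' := (P.d q q').hom
  let π : B ⊗[A] P.X q' →ₗ[B] B ⊗[A] Coker P q q' := (LinearMap.range u').mkQ.baseChange B
  have hπ : Function.Surjective π := LinearMap.lTensor_surjective B (Submodule.mkQ_surjective _)
  have hker : LinearMap.ker π = LinearMap.range (u'.baseChange B) :=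
    Submodule.ext fun x => lTensor_exact B u'.exact_map_mkQ_range (Submodule.mkQ_surjective _) x
  (Submodule.quotEquivOfEq _ _ hker.symm).trans (π.quotKerEquivOfSurjective hπ)

theorem ideal_strMod_bc (hP : IsFinModel P) (φ : A →+* B) (k : ℕ) :
    Fitt.ideal B (StrMod (CohIII.bcCx φ P)) k = (Fitt.ideal A (StrMod P) k).map φ := by
  letI := φ.toAlgebra
  haveI := hP.finitePresentation_strMod
  haveI := (hP.bc φ).finitePresentation_strMod
  rw [FittX.ideal_congr (((cokerBC φ 0 (-1)).prodCongr (cokerBC φ 1 0)).trans
    (TensorProduct.prodRight A B B (Coker P 0 (-1)) (Coker P 1 0)).symm) k]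
  exact FittX.ideal_baseChange (TensorProduct.isBaseChange A (StrMod P) B) k

/-- The universal property of the stratum ideal. -/
theorem forall_good_iff (hP : IsFinModel P) (φ : A →+* B) (r : ℕ) (hle : ∀ x, CohIII.dRank P 0 x ≤ r) :
    (∀ y, Good (CohIII.bcCx φ P) 0 y ∧ CohIII.dRank P 0 (PrimeSpectrum.comap φ y) = r) ↔
      (strIdeal P r).map φ = ⊥ := by
  rcases subsingleton_or_nontrivial B with hB | hB
  · exact ⟨fun _ => Subsingleton.elim _ _, fun _ y => (IsEmpty.false y).elim⟩
  have hP' := hP.bc φ
  haveI := hP'.finitePresentation_strMod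
  haveI : Nontrivial A := φ.domain_nontrivial
  have hm : Module.finrank B ((CohIII.bcCx φ P).X (-1)) = Module.finrank A (P.X (-1)) := by
    letI := φ.toAlgebra
    haveI := hP.free (-1)
    exact Module.finrank_baseChange (R := B) (S := A) (M' := P.X (-1))
  have htop : strTop P r = ⊤ := by
    by_contra hne
    obtain ⟨m, hm, hle'⟩ := Ideal.exists_le_maximal _ hne
    exact (dRank_le_iff hP r ⟨m, hm.isPrime⟩).1 (hle _) hle'
  have key : ((∀ k, k < strN P r → Fitt.ideal B (StrMod (CohIII.bcCx φ P)) k = ⊥) ∧
      Fitt.ideal B (StrMod (CohIII.bcCx φ P)) (strN P r) = ⊤) ↔ (strIdeal P r).map φ = ⊥ := by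
    simp only [ideal_strMod_bc hP φ, strIdeal, Ideal.map_iSup, iSup_eq_bot]
    refine ⟨fun h k => h.1 _ k.2, fun h => ⟨fun k hk => h ⟨k, hk⟩, ?_⟩⟩
    show (strTop P r).map φ = ⊤
    rw [htop, Ideal.map_top]
  rw [← key, fitt_cond_iff, projective_strMod_iff hP', forall_and]
  refine and_congr_right fun _ => forall_congr' fun y => ?_
  rw [fibreRank_strMod hP', hm, dRank_bcCx]
  exact (add_left_inj _).symm

theorem fg_strIdeal (hP : IsFinModel P) (r : ℕ) : (strIdeal P r).FG := by
  haveI := hP.finitePresentation_strMod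
  exact Submodule.fg_iSup _ fun k => FittX.ideal_fg _

theorem fg_strTop (hP : IsFinModel P) (r : ℕ) : (strTop P r).FG := by
  haveI := hP.finitePresentation_strMod
  exact FittX.ideal_fg _

end Groth.Agent.CExt24
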