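import Groth.Agent.CExt24.OnMap
import Groth.Agent.KFlatLib.Scheme.RpushUnbounded

/-!
# Restriction of cohomology classes between opens
-/

set_option autoImplicit false
set_option backward.isDefEq.respectTransparency false
set_option backward.isDefEq.respectTransparency.types false
set_option linter.style.haveILetI false
set_option maxHeartbeats 1000000

universe u

open CategoryTheory CategoryTheory.Limits AlgebraicGeometry TopologicalSpace Opposite

noncomputable section

namespace Groth.Agent.CExt24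

variable {X : Scheme.{u}}

/-- Pullback along the identity, on sections. -/
theorem pullbackId_pullSec (F : X.Modules) {W V : X.Opens} (hle : W ≤ (𝟙 X : X ⟶ X) ⁻¹ᵁ V)
    (hWV : W ≤ V) (x : Γ(F, V)) :
    ((Scheme.Modules.pullbackId X).hom.app F).app W (QCoh.pullSec (𝟙 X) F hle x) =
      F.presheaf.map (homOfLE hWV).op x := by
  have h := unit_conjugateEquiv (Adjunction.id (C := X.Modules))
    (Scheme.Modules.pullbackPushforwardAdjunction (𝟙 X)) (Scheme.Modules.pullbackId X).hom F
  rw [Scheme.Modules.conjugateEquiv_pullbackId_hom] at h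
  have h' : ((Scheme.Modules.pullbackId X).hom.app F).app ((𝟙 X : X ⟶ X) ⁻¹ᵁ V)
      (((Scheme.Modules.pullbackPushforwardAdjunction (𝟙 X)).unit.app F).app V x) = x :=
    (congrArg (fun t : F ⟶ (Scheme.Modules.pushforward (𝟙 X)).obj F => t.app V x) h).symm
  refine (QCoh.map_app_comm ((Scheme.Modules.pullbackId X).hom.app F) (homOfLE hle) _).trans ?_
  rw [h']
  exact congrArg (fun i => F.presheaf.map i x) (Subsingleton.elim _ _)

/-- Restriction of a short exact sequence to an open. -/
theorem restrict_shortExact {S : ShortComplex X.Modules} (hS : S.ShortExact) (U : X.Opens) :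
    (S.map (Scheme.Modules.restrictFunctor U.ι)).ShortExact :=
  have h : ∀ T : ShortComplex X.Modules, T.ShortExact →
      (T.map (Scheme.Modules.restrictFunctor U.ι)).ShortExact :=
    ((Functor.exact_tfae (Scheme.Modules.restrictFunctor U.ι)).out 1 0).1
      fun T hT => KFlatLib.exact_restrict hT U
  h S hS

/-- The connecting homomorphism on an open. -/
def deltaOn {S : ShortComplex X.Modules} (hS : S.ShortExact) (U : X.Opens) (p : ℕ) :
    Coh.HHon X S.X₃ U p →+ Coh.HHon X S.X₁ U (p + 1) :=
  deltaMod (restrict_shortExact hS U) p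

variable {U U' : X.Opens} (h : U' ≤ U)

include h in
theorem le_id_preimage : U' ≤ (𝟙 X : X ⟶ X) ⁻¹ᵁ U := by rwa [Scheme.Hom.id_preimage]

/-- The morphism behind restriction between opens. -/
def resMap (F : X.Modules) :
    F.restrict U.ι ⟶ (Scheme.Modules.pushforward ((𝟙 X : X ⟶ X).resLE U U' (le_id_preimage h))).obj
      (F.restrict U'.ι) :=
  onMap (𝟙 X) U U' (le_id_preimage h) F ≫
    (Scheme.Modules.pushforward ((𝟙 X : X ⟶ X).resLE U U' (le_id_preimage h))).map
      ((Scheme.Modules.restrictFunctor U'.ι).map ((Scheme.Modules.pullbackId X).hom.app F))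

/-- `CohPull.resLE` is the map along `resMap`. -/
theorem resLE_eq_pm (F : X.Modules) (p : ℕ) (x : Coh.HHon X F U p) :
    CohPull.resLE F h p x =
      pmMod ((𝟙 X : X ⟶ X).resLE U U' (le_id_preimage h)) (resMap h F) p x := by
  show CohPull.mapH _ p (CohPull.pullOn (𝟙 X) U U' (le_id_preimage h) F p x) = _
  rw [pullOn_eq_pm, mapH_pmMod, resMap]
  rfl

theorem image_preimage_resLE_id_le (W : U.toScheme.Opens) :
    U'.ι ''ᵁ ((𝟙 X : X ⟶ X).resLE U U' (le_id_preimage h) ⁻¹ᵁ W) ≤ U.ι ''ᵁ W := by
  have := image_preimage_resLE_le (𝟙 X) U U' (le_id_preimage h) W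
  rwa [Scheme.Hom.id_preimage] at this

/-- `resMap` on sections is restriction. -/
theorem resMap_app (F : X.Modules) (W : U.toScheme.Opens) (x : Γ(F, U.ι ''ᵁ W)) :
    (resMap h F).app W x = F.presheaf.map (homOfLE (image_preimage_resLE_id_le h W)).op x := by
  show ((Scheme.Modules.restrictFunctor U'.ι).map ((Scheme.Modules.pullbackId X).hom.app F)).app _
    ((onMap (𝟙 X) U U' (le_id_preimage h) F).app W x) = _
  rw [onMap_app]
  exact pullbackId_pullSec F _ _ x

theorem resMap_natural {F G : X.Modules} (ψ : F ⟶ G) :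
    (Scheme.Modules.restrictFunctor U.ι).map ψ ≫ resMap h G =
      resMap h F ≫ (Scheme.Modules.pushforward ((𝟙 X : X ⟶ X).resLE U U' (le_id_preimage h))).map
        ((Scheme.Modules.restrictFunctor U'.ι).map ψ) := by
  refine Scheme.Modules.hom_ext _ _ fun W => ?_
  ext x
  show (resMap h G).app W (ψ.app (U.ι ''ᵁ W) x) =
    ψ.app (U'.ι ''ᵁ ((𝟙 X : X ⟶ X).resLE U U' (le_id_preimage h) ⁻¹ᵁ W))
      (show Γ(F, U'.ι ''ᵁ ((𝟙 X : X ⟶ X).resLE U U' (le_id_preimage h) ⁻¹ᵁ W)) from
        (resMap h F).app W x)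
  rw [resMap_app, resMap_app]
  exact (QCoh.map_app_comm ψ _ x).symm

/-- Restriction commutes with the connecting homomorphisms. -/
theorem resLE_delta {S : ShortComplex X.Modules} (hS : S.ShortExact) (p : ℕ)
    (x : Coh.HHon X S.X₃ U p) :
    CohPull.resLE S.X₁ h (p + 1) (deltaOn hS U p x) =
      deltaOn hS U' p (CohPull.resLE S.X₃ h p x) := by
  rw [resLE_eq_pm, resLE_eq_pm]
  exact pmMod_delta ((𝟙 X : X ⟶ X).resLE U U' (le_id_preimage h)) (restrict_shortExact hS U)
    (restrict_shortExact hS U') (resMap h S.X₁) (resMap h S.X₂) (resMap h S.X₃)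
    (resMap_natural h S.f) (resMap_natural h S.g) p x

/-- Restriction is natural in the module. -/
theorem resLE_natural {F G : X.Modules} (ψ : F ⟶ G) (p : ℕ) (x : Coh.HHon X F U p) :
    CohPull.resLE G h p (CohPull.mapH ((Scheme.Modules.restrictFunctor U.ι).map ψ) p x) =
      CohPull.mapH ((Scheme.Modules.restrictFunctor U'.ι).map ψ) p (CohPull.resLE F h p x) := by
  rw [resLE_eq_pm, resLE_eq_pm, pmMod_mapH, mapH_pmMod, resMap_natural]

theorem sectH0_apply (F : X.Modules) (U : X.Opens) (s : Γ(F, U)) :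
    Sheaf.H.equiv₀ (Coh.toAb (F.restrict U.ι)) isTerminalTop (CohPull.sectH0 F U s) =
      (show Γ(F.restrict U.ι, ⊤) from F.presheaf.map (eqToHom U.ι_image_top).op s) :=
  AddEquiv.apply_symm_apply _ _

/-- Restriction in degree zero. -/
theorem resLE_sectH0 (F : X.Modules) (s : Γ(F, U)) :
    CohPull.resLE F h 0 (CohPull.sectH0 F U s) =
      CohPull.sectH0 F U' (F.presheaf.map (homOfLE h).op s) := by
  apply (Sheaf.H.equiv₀ (Coh.toAb (F.restrict U'.ι)) isTerminalTop).injective
  rw [resLE_eq_pm, equiv₀_pmMod, sectH0_apply, sectH0_apply, resMap_app]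
  refine (QCoh.map_map _ _ _).trans (Eq.trans ?_ (QCoh.map_map _ _ _).symm)
  exact congrArg (fun i => F.presheaf.map i s) (Subsingleton.elim _ _)

end Groth.Agent.CExt24
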