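import Groth.Agent.CExt24.StratumModels
import Groth.Agent.ModPairLib.Basic
import Groth.Agent.MorLib.IdealFG2

/-!
# The stratum of good degree zero and rank `r`
-/

set_option autoImplicit false
set_option backward.isDefEq.respectTransparency false
set_option backward.isDefEq.respectTransparency.types false
set_option linter.style.haveILetI false
set_option maxHeartbeats 1000000

universe u

open CategoryTheory CategoryTheory.Limits AlgebraicGeometry TopologicalSpace Opposite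

noncomputable section

namespace Groth.Agent.CExt24

variable {X S : Scheme.{u}} (f : X ⟶ S) (F : X.Modules) (r : ℕ)

/-- `J` cuts out the stratum over `W`. -/
def Cuts (W : S.Opens) (J : Ideal Γ(S, W)) : Prop :=
  ∀ ⦃T : Scheme.{u}⦄ (u : T ⟶ S) (WT : T.Opens), IsAffineOpen WT → ∀ (hle : WT ≤ u ⁻¹ᵁ W),
    (∀ t ∈ WT, Q f F r u t) ↔ J.map (u.appLE W WT hle).hom = ⊥

variable {f F r}

theorem Cuts.restrict {W W' : S.Opens} {J : Ideal Γ(S, W)} (h : Cuts f F r W J) (hle : W' ≤ W) :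
    Cuts f F r W' (J.map (S.presheaf.map (homOfLE hle).op).hom) := by
  intro T u WT hWT hWT'
  rw [Ideal.map_map, ← CommRingCat.hom_comp, Scheme.Hom.map_appLE]
  exact h u WT hWT _

theorem Cuts.le {W : S.Opens} (hW : IsAffineOpen W) {J J' : Ideal Γ(S, W)} (h : Cuts f F r W J)
    (h' : Cuts f F r W J') : J ≤ J' := by
  let q := CommRingCat.ofHom (Ideal.Quotient.mk J')
  let u : Spec (CommRingCat.of (Γ(S, W) ⧸ J')) ⟶ S := Spec.map q ≫ hW.fromSpec
  have hle : (⊤ : (Spec (CommRingCat.of (Γ(S, W) ⧸ J'))).Opens) ≤ u ⁻¹ᵁ W := fun z _ =>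
    hW.range_fromSpec.le ⟨_, rfl⟩
  have hu : u.appLE W ⊤ hle = q ≫ (Scheme.ΓSpecIso _).inv := by
    rw [Scheme.Hom.comp_appLE, hW.fromSpec_app_self, Category.assoc, Scheme.Hom.map_appLE,
      Scheme.ΓSpecIso_inv_naturality]
    simp [Scheme.Hom.appLE, Scheme.Hom.appTop]
    rfl
  have hker : RingHom.ker (u.appLE W ⊤ hle).hom = J' := by
    rw [hu, CommRingCat.hom_comp, RingHom.ker_comp_of_injective]
    · exact Ideal.mk_ker
    · exact (Scheme.ΓSpecIso _).symm.commRingCatIsoToRingEquiv.injective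
  have h0 : J'.map (u.appLE W ⊤ hle).hom = ⊥ := by rw [Ideal.map_eq_bot_iff_le_ker, hker]
  have h1 := (h u ⊤ (isAffineOpen_top _) hle).1 ((h' u ⊤ (isAffineOpen_top _) hle).2 h0)
  rwa [Ideal.map_eq_bot_iff_le_ker, hker] at h1

theorem Cuts.unique {W : S.Opens} (hW : IsAffineOpen W) {J J' : Ideal Γ(S, W)} (h : Cuts f F r W J)
    (h' : Cuts f F r W J') : J = J' :=
  le_antisymm (h.le hW h') (h'.le hW h)

section Proper

variable [IsProper f] [LocallyOfFinitePresentation f]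

theorem exists_cuts (hm : HasModels f F) (hF : Coh.IsQCoh F) {W : S.Opens} (hW : IsAffineOpen W)
    (hle : ∀ s ∈ W, CohIII.fiberRank f F 0 s ≤ r) : ∃ J, J.FG ∧ Cuts f F r W J := by
  obtain ⟨P, hP⟩ := hm W hW
  refine ⟨strIdeal P r, fg_strIdeal hP.1 r, fun T u WT hWT hWT' => ?_⟩
  refine (forall_Q_iff hF hP r u hWT hWT').trans (forall_good_iff hP.1 _ r fun x => ?_)
  obtain ⟨s, hs, rfl⟩ := exists_primeIdealOf hW x
  rw [← fiberRank_zero_eq_dRank hF hP hs]
  exact hle s hs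

theorem isCompact_rank_le (hm : HasModels f F) (hF : Coh.IsQCoh F) {W : S.Opens} (hW : IsAffineOpen W) :
    IsOpen ((W : Set S) ∩ {s | CohIII.fiberRank f F 0 s ≤ r}) ∧
      IsCompact ((W : Set S) ∩ {s | CohIII.fiberRank f F 0 s ≤ r}) := by
  obtain ⟨P, hP⟩ := hm W hW
  obtain ⟨G, hG⟩ := fg_strTop hP.1 r
  have key : (W : Set S) ∩ {s | CohIII.fiberRank f F 0 s ≤ r} = ⋃ a ∈ G, (S.basicOpen a : Set S) := by
    ext s
    simp only [Set.mem_inter_iff, SetLike.mem_coe, Set.mem_ofPred_eq, Set.mem_iUnion, exists_prop]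
    constructor
    · rintro ⟨hs, hr⟩
      rw [fiberRank_zero_eq_dRank hF hP hs, dRank_le_iff hP.1] at hr
      by_contra hcon
      refine hr ?_
      rw [← hG, Submodule.span_le]
      intro a ha
      by_contra hn
      exact hcon ⟨a, ha, (QCoh.mem_basicOpen_iff_notMem hW hs a).2 hn⟩
    · rintro ⟨a, ha, hsa⟩
      have hs : s ∈ W := S.basicOpen_le a hsa
      refine ⟨hs, ?_⟩
      rw [fiberRank_zero_eq_dRank hF hP hs, dRank_le_iff hP.1]
      exact fun hle => (QCoh.mem_basicOpen_iff_notMem hW hs a).1 hsa (hle (hG ▸ Submodule.subset_span ha))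
  rw [key]
  exact ⟨isOpen_biUnion fun a _ => (S.basicOpen a).2, G.isCompact_biUnion fun a _ => (hW.basicOpen a).isCompact⟩

theorem isOpen_rank_le (hm : HasModels f F) (hF : Coh.IsQCoh F) :
    IsOpen {s : S | CohIII.fiberRank f F 0 s ≤ r} := by
  refine isOpen_iff_forall_mem_open.2 fun s hs => ?_
  obtain ⟨W, hW, hsW, -⟩ := exists_isAffineOpen_mem_and_subset (x := s) (U := ⊤) trivial
  exact ⟨_, Set.inter_subset_right, (isCompact_rank_le hm hF hW).1, hsW, hs⟩

theorem appLE_comp_ι {U : S.Opens} {T : Scheme.{u}} (u₀ : T ⟶ U) (W : (U : Scheme.{u}).Opens) (WT : T.Opens)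
    (h : WT ≤ (u₀ ≫ U.ι) ⁻¹ᵁ (U.ι ''ᵁ W)) (h' : WT ≤ u₀ ⁻¹ᵁ W) :
    (u₀ ≫ U.ι).appLE (U.ι ''ᵁ W) WT h = u₀.appLE W WT h' := by
  rw [← Scheme.Hom.appLE_comp_appLE u₀ U.ι (U.ι ''ᵁ W) W WT (U.ι.preimage_image_eq W).ge h',
    Scheme.Opens.ι_appLE]
  erw [show (homOfLE le_rfl : U.ι ''ᵁ W ⟶ U.ι ''ᵁ W) = 𝟙 _ from rfl]
  simp

/-- The stratum. -/
theorem exists_stratum (hfp : CohB1.IsFP F) (hfl : FlatMod.IsFlatOver f F) :
    ∃ (Z : Scheme.{u}) (ι : Z ⟶ S), IsImmersion ι ∧ LocallyOfFinitePresentation ι ∧ QuasiCompact ι ∧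
      (∀ ⦃T : Scheme.{u}⦄ (u : T ⟶ S), (∃ u' : T ⟶ Z, u' ≫ ι = u) ↔ ∀ t, Q f F r u t) ∧
      Set.range ι = {s : S | CohIII.fiberRank f F 0 s = r} := by
  have hF := QCoh.isQCoh_of_isFP hfp
  have hm : HasModels f F := hasModels f hF hfp hfl
  let O : S.Opens := ⟨{s | CohIII.fiberRank f F 0 s ≤ r}, isOpen_rank_le hm hF⟩
  have hex : ∀ W : (O : Scheme.{u}).affineOpens, ∃ J, J.FG ∧ Cuts f F r (O.ι ''ᵁ W.1) J := fun W =>
    exists_cuts hm hF (W.2.image_of_isOpenImmersion O.ι) fun s hs => by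
      obtain ⟨z, -, rfl⟩ := hs
      exact z.2
  choose J hfg hJ using hex
  let I : (O : Scheme.{u}).IdealSheafData :=
    { ideal := fun W => J W
      map_ideal_basicOpen := fun W a =>
        (((hJ W).restrict (O.ι.image_mono ((O : Scheme.{u}).basicOpen_le a))).unique
          (((O : Scheme.{u}).affineBasicOpen a).2.image_of_isOpenImmersion O.ι) (hJ _)) }
  have hI : MorLib.IdealFG.IsFG I := fun W => hfg W
  haveI := MorLib.IdealFG.lfp_subschemeι hI
  haveI : QuasiCompact O.ι := by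
    rw [quasiCompact_iff_forall_isAffineOpen]
    intro W hW
    have hind : Topology.IsInducing O.ι := O.ι.isOpenEmbedding.isInducing
    rw [hind.isCompact_iff]
    convert (isCompact_rank_le (r := r) hm hF hW).2
    show _ '' (O.ι ⁻¹' (W : Set S)) = _
    rw [Set.image_preimage_eq_inter_range, Scheme.Opens.range_ι]
    rfl
  -- membership in the stratum, point by point
  have hfac : ∀ {T : Scheme.{u}} (u₀ : T ⟶ (O : Scheme.{u})),
      I.comap u₀ = ⊥ ↔ ∀ t, Q f F r (u₀ ≫ O.ι) t := by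
    intro T u₀
    have key : ∀ t : T, ∃ (W : (O : Scheme.{u}).affineOpens) (WT : T.affineOpens),
        t ∈ WT.1 ∧ WT.1 ≤ u₀ ⁻¹ᵁ W.1 := by
      intro t
      obtain ⟨W, hW, htW, -⟩ := exists_isAffineOpen_mem_and_subset (x := u₀ t) (U := ⊤) trivial
      obtain ⟨WT, hWT, htWT, hle⟩ := exists_isAffineOpen_mem_and_subset (x := t) (U := u₀ ⁻¹ᵁ W) htW
      exact ⟨⟨W, hW⟩, ⟨WT, hWT⟩, htWT, hle⟩
    have step : ∀ (W : (O : Scheme.{u}).affineOpens) (WT : T.affineOpens) (hle : WT.1 ≤ u₀ ⁻¹ᵁ W.1),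
        (∀ t ∈ WT.1, Q f F r (u₀ ≫ O.ι) t) ↔ (I.comap u₀).ideal WT = ⊥ := by
      intro W WT hle
      have hle' : WT.1 ≤ (u₀ ≫ O.ι) ⁻¹ᵁ (O.ι ''ᵁ W.1) := fun t ht => ⟨u₀ t, hle ht, rfl⟩
      rw [hJ W (u₀ ≫ O.ι) WT.1 WT.2 hle', appLE_comp_ι u₀ W.1 WT.1 hle' hle,
        ModPairLib.ideal_comap I u₀ W WT hle]
    constructor
    · intro h t
      obtain ⟨W, WT, ht, hle⟩ := key t
      exact (step W WT hle).2 (by rw [h, Scheme.IdealSheafData.ideal_bot]; rfl) t ht
    · intro h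
      choose W WT ht hle using key
      refine Scheme.IdealSheafData.ext_of_iSup_eq_top WT
        (top_le_iff.1 fun t _ => Opens.mem_iSup.2 ⟨t, ht t⟩) fun t => ?_
      rw [(step (W t) (WT t) (hle t)).1 fun t _ => h t, Scheme.IdealSheafData.ideal_bot]
      rfl
  have hfactor : ∀ ⦃T : Scheme.{u}⦄ (u : T ⟶ S),
      (∃ u' : T ⟶ I.subscheme, u' ≫ I.subschemeι ≫ O.ι = u) ↔ ∀ t, Q f F r u t := by
    intro T u
    constructor
    · rintro ⟨u', rfl⟩
      rw [← Category.assoc]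
      refine (hfac _).1 (le_bot_iff.1 (Scheme.IdealSheafData.le_map_iff_comap_le.1 ?_))
      rw [Scheme.IdealSheafData.map_bot]
      conv_lhs => rw [← I.ker_subschemeι]
      exact Scheme.Hom.le_ker_comp u' I.subschemeι
    · intro h
      have hr : Set.range u ⊆ Set.range O.ι := by
        rw [Scheme.Opens.range_ι]
        rintro _ ⟨t, rfl⟩
        show CohIII.fiberRank f F 0 (u t) ≤ r
        rw [← fiberRank_baseChange hm hF u t, (h t).2]
      let u₀ := IsOpenImmersion.lift O.ι u hr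
      have hu₀ : u₀ ≫ O.ι = u := IsOpenImmersion.lift_fac _ _ _
      rw [← hu₀] at h
      have hle : I.subschemeι.ker ≤ u₀.ker := by
        rw [I.ker_subschemeι, ← Scheme.IdealSheafData.map_bot]
        exact Scheme.IdealSheafData.le_map_iff_comap_le.2 ((hfac u₀).2 h).le
      exact ⟨IsClosedImmersion.lift I.subschemeι u₀ hle,
        by rw [← Category.assoc, IsClosedImmersion.lift_fac, hu₀]⟩
  refine ⟨_, I.subschemeι ≫ O.ι, inferInstance, inferInstance, inferInstance, hfactor, ?_⟩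
  ext s
  constructor
  · rintro ⟨z, rfl⟩
    obtain ⟨-, h2⟩ := (hfactor (I.subschemeι ≫ O.ι)).1 ⟨𝟙 _, Category.id_comp _⟩ z
    rwa [fiberRank_baseChange hm hF] at h2
  · intro hs
    let u := S.fromSpecResidueField s
    have hu : ∀ t, u t = s := fun t => Scheme.fromSpecResidueField_apply _ _
    have hmu := hasModels_baseChange hfp hfl u
    have hrk : ∀ t, CohIII.fiberRank (pullback.snd f u) ((Scheme.Modules.pullback (pullback.fst f u)).obj F) 0 t = r :=
      fun t => by rw [fiberRank_baseChange hm hF, hu]; exact hs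
    have hQ : ∀ t, Q f F r u t := fun t => ⟨by
      simpa using (goodNhd_of_fiberRank_eq hmu (QCoh.isQCoh_pullback _ hF) 0
        (by rw [funext hrk]; exact IsLocallyConstant.const r) t).1, hrk t⟩
    obtain ⟨u', hu'⟩ := (hfactor u).2 hQ
    obtain ⟨t⟩ : Nonempty (Spec (S.residueField s)) := inferInstance
    exact ⟨u' t, congr($hu' t).trans (hu t)⟩

end Proper

end Groth.Agent.CExt24
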