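import Groth.Agent.CExt24.BC0Main
import Groth.Agent.CExt24.BC0
import Groth.Agent.CExt24.BCMain
import Groth.Agent.CExt24.Models
import Groth.Agent.CExt24.RankStratum
import Groth.Agent.ModStLib.FibGrpd

/-!
# Degree zero goodness and rank on base changes
-/

set_option autoImplicit false
set_option backward.isDefEq.respectTransparency false
set_option backward.isDefEq.respectTransparency.types false
set_option linter.style.haveILetI false
set_option maxHeartbeats 1000000

universe u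

open CategoryTheory CategoryTheory.Limits AlgebraicGeometry TopologicalSpace Opposite

noncomputable section

namespace Groth.Agent.CExt24

open Groth.Agent.QCoh (overSpec)

variable {X S T X' : Scheme.{u}} {f : X ⟶ S} {g : T ⟶ S} {f' : X' ⟶ T} {g' : X' ⟶ X} {F : X.Modules}

/-- A model over `V` gives one of the base change over every affine open above `V`. -/
theorem IsModelOn.baseChange (h : IsPullback g' f' f g) (hF : Coh.IsQCoh F) {V : S.Opens}
    {hV : IsAffineOpen V} {P : ChainComplex (ModuleCat.{u} Γ(S, V)) ℤ} (hP : IsModelOn f F hV P)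
    {W : T.Opens} (hW : IsAffineOpen W) (hle : W ≤ g ⁻¹ᵁ V) :
    IsModelOn f' ((Scheme.Modules.pullback g').obj F) hW (CohIII.bcCx (g.appLE V W hle).hom P) :=
  ⟨hP.1.bc _, hP.2.baseChange (g.appLE V W hle).hom (isPullback_over h hV hW hle)
    (QCoh.isQCoh_restrict (f ⁻¹ᵁ V).ι hF)
    (CohPull.pullOnIso g' (f ⁻¹ᵁ V) (f' ⁻¹ᵁ W) (preimage_le h.w hle) F)⟩

theorem comap_primeIdealOf_appLE {V : S.Opens} {W : T.Opens} (hV : IsAffineOpen V) (hW : IsAffineOpen W)
    (hle : W ≤ g ⁻¹ᵁ V) {t : T} (ht : t ∈ W) :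
    PrimeSpectrum.comap (g.appLE V W hle).hom (hW.primeIdealOf ⟨t, ht⟩) =
      hV.primeIdealOf ⟨g t, hle ht⟩ := by
  refine PrimeSpectrum.ext (Ideal.ext fun a => ?_)
  rw [PrimeSpectrum.comap_asIdeal, Ideal.mem_comap, ← not_iff_not,
    ← QCoh.mem_basicOpen_iff_notMem hW ht, ← QCoh.mem_basicOpen_iff_notMem hV (hle ht)]
  show t ∈ T.basicOpen (g.appLE V W hle a) ↔ _
  rw [Scheme.basicOpen_appLE]
  exact ⟨fun h => h.2, fun h => ⟨ht, h⟩⟩

/-- Goodness near a point is goodness of any model at the point. -/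
theorem goodNhd_iff_good [QuasiCompact f] [QuasiSeparated f] (hF : Coh.IsQCoh F) {V : S.Opens}
    {hV : IsAffineOpen V} {P : ChainComplex (ModuleCat.{u} Γ(S, V)) ℤ} (hP : IsModelOn f F hV P)
    {s : S} (hs : s ∈ V) :
    GoodNhd f F 0 s ↔ Good P 0 (hV.primeIdealOf ⟨s, hs⟩) := by
  refine ⟨?_, fun h => goodNhd_of_good hF hP hs h⟩
  rintro ⟨V', hV', P', hs', hP', hg⟩
  have h1 := (epi_fibre_bc0_iff_good hV' hs' hF hP'.1 hP'.2).2
    (by simpa using hg (hV'.primeIdealOf ⟨s, hs'⟩))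
  simpa using (epi_fibre_bc0_iff_good hV hs hF hP.1 hP.2).1 h1

theorem fiberRank_zero_eq_dRank [QuasiCompact f] [QuasiSeparated f] (hF : Coh.IsQCoh F) {V : S.Opens}
    {hV : IsAffineOpen V} {P : ChainComplex (ModuleCat.{u} Γ(S, V)) ℤ} (hP : IsModelOn f F hV P)
    {s : S} (hs : s ∈ V) :
    CohIII.fiberRank f F 0 s = CohIII.dRank P 0 (hV.primeIdealOf ⟨s, hs⟩) := by
  haveI : HasInjectiveResolutions X.Modules := KFlatLib.hasInjectiveResolutions_modules
  simpa using fiberRank_eq_dRank f hV hs hF hP.2 0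

/-- Where degree zero is good the rank of a free direct image is the fibre rank. -/
theorem fiberRank_eq_of_free [QuasiCompact f] [QuasiSeparated f] (hF : Coh.IsQCoh F) {U : S.Opens} {n : ℕ}
    (e : ((Scheme.Modules.pushforward f).obj F).restrict U.ι ≅ FlatMod.freeMod (U : Scheme.{u}) n) {s : S}
    (hs : s ∈ U) (hg : GoodNhd f F 0 s) : CohIII.fiberRank f F 0 s = n := by
  haveI : HasInjectiveResolutions X.Modules := KFlatLib.hasInjectiveResolutions_modules
  haveI := isIso_toRightDerivedZero_app f F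
  obtain ⟨V, hV, P, hle, hsV, hP, hgood⟩ := hg.exists_le hF hs
  obtain ⟨l⟩ := QCoh.free_sections (M := (Coh.Rpush f 0).obj F) hV hle
    ((Scheme.Modules.restrictFunctor U.ι).mapIso
      (asIso ((Scheme.Modules.pushforward f).toRightDerivedZero.app F)).symm ≪≫ e)
  obtain ⟨e'⟩ := nonempty_sections_equiv hF hP 0
  obtain ⟨-, hall⟩ := homology_facts hP.1 (q := -((0 : ℕ) : ℤ)) (by simpa using hgood)
  rw [fiberRank_eq_dRank f hV hsV hF hP.2, (hall _).2]
  let b : Module.Basis (Fin n) Γ(S, V) (FlatCxLib.Hom' P (-((0 : ℕ) : ℤ) + 1) (-((0 : ℕ) : ℤ)) (-((0 : ℕ) : ℤ) - 1)) :=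
    ((Module.Basis.ofRepr l).reindex Equiv.ulift).map e'
  haveI := Module.Free.of_basis b
  haveI : Nontrivial Γ(S, V) := (S.presheaf.germ V s hsV).hom.domain_nontrivial
  rw [fibreRank_of_free, Module.finrank_eq_card_basis b, Fintype.card_fin]

variable (f F) in
/-- Degree zero is good of rank `r` at the point `t` of the base change along `u`. -/
def Q (r : ℕ) {T : Scheme.{u}} (u : T ⟶ S) (t : T) : Prop :=
  GoodNhd (pullback.snd f u) ((Scheme.Modules.pullback (pullback.fst f u)).obj F) 0 t ∧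
    CohIII.fiberRank (pullback.snd f u) ((Scheme.Modules.pullback (pullback.fst f u)).obj F) 0 t = r

variable [IsProper f] [LocallyOfFinitePresentation f]

theorem hasModels_baseChange (hfp : CohB1.IsFP F) (hfl : FlatMod.IsFlatOver f F) (u : T ⟶ S) :
    HasModels (pullback.snd f u) ((Scheme.Modules.pullback (pullback.fst f u)).obj F) := by
  refine hasModels _ (QCoh.isQCoh_pullback _ (QCoh.isQCoh_of_isFP hfp)) (ModStLib.isFP_pullback _ hfp) ?_
  have h1 := FlatLimHx.isFlatOver_baseChange (IsPullback.of_hasPullback f u) (𝟙 X) F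
    ((FlatLimHx.isFlatOver_congr f ((Scheme.Modules.pullbackId X).app F)).2 hfl)
  exact (FlatLimHx.isFlatOver_congr _ ((Scheme.Modules.pullbackCongr (Category.comp_id _)).app F)).1 h1

theorem fiberRank_baseChange (hm : HasModels f F) (hF : Coh.IsQCoh F) (u : T ⟶ S) (t : T) :
    CohIII.fiberRank (pullback.snd f u) ((Scheme.Modules.pullback (pullback.fst f u)).obj F) 0 t =
      CohIII.fiberRank f F 0 (u t) := by
  obtain ⟨V, hV, hsV, -⟩ := exists_isAffineOpen_mem_and_subset (x := u t) (U := ⊤) trivial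
  obtain ⟨W, hW, htW, hWle⟩ := exists_isAffineOpen_mem_and_subset (x := t) (U := u ⁻¹ᵁ V) hsV
  have hle : W ≤ u ⁻¹ᵁ V := hWle
  obtain ⟨P, hP⟩ := hm V hV
  rw [fiberRank_zero_eq_dRank (QCoh.isQCoh_pullback _ hF)
      (hP.baseChange (IsPullback.of_hasPullback f u) hF hW hle) htW,
    fiberRank_zero_eq_dRank hF hP hsV, dRank_bcCx, comap_primeIdealOf_appLE hV hW hle htW]

/-- On an affine open above a model, `Q` is goodness and rank of the base changed model. -/
theorem forall_Q_iff (hF : Coh.IsQCoh F) {V : S.Opens} {hV : IsAffineOpen V}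
    {P : ChainComplex (ModuleCat.{u} Γ(S, V)) ℤ} (hP : IsModelOn f F hV P) (r : ℕ) (u : T ⟶ S)
    {W : T.Opens} (hW : IsAffineOpen W) (hle : W ≤ u ⁻¹ᵁ V) :
    (∀ t ∈ W, Q f F r u t) ↔
      ∀ y, Good (CohIII.bcCx (u.appLE V W hle).hom P) 0 y ∧
        CohIII.dRank P 0 (PrimeSpectrum.comap (u.appLE V W hle).hom y) = r := by
  have hP' := hP.baseChange (IsPullback.of_hasPullback f u) hF hW hle
  have hF' := QCoh.isQCoh_pullback (pullback.fst f u) hF
  constructor
  · intro h y
    obtain ⟨t, ht, rfl⟩ := exists_primeIdealOf hW y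
    obtain ⟨h1, h2⟩ := h t ht
    rw [fiberRank_zero_eq_dRank hF' hP' ht, dRank_bcCx] at h2
    exact ⟨(goodNhd_iff_good hF' hP' ht).1 h1, h2⟩
  · intro h t ht
    obtain ⟨h1, h2⟩ := h (hW.primeIdealOf ⟨t, ht⟩)
    exact ⟨(goodNhd_iff_good hF' hP' ht).2 h1,
      by rw [fiberRank_zero_eq_dRank hF' hP' ht, dRank_bcCx]; exact h2⟩

/-- The universal property in terms of points. -/
theorem forall_Q_iff_push (hfp : CohB1.IsFP F) (hfl : FlatMod.IsFlatOver f F) (r : ℕ) (u : T ⟶ S) :
    (∀ t, Q f F r u t) ↔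
      (FlatMod.IsFinLocFreeOfRank r
          ((Scheme.Modules.pushforward (pullback.snd f u)).obj ((Scheme.Modules.pullback (pullback.fst f u)).obj F)) ∧
        ∀ ⦃X'' T' : Scheme.{u}⦄ (v' : X'' ⟶ pullback f u) (f'' : X'' ⟶ T') (u' : T' ⟶ T)
          (h : IsPullback v' f'' (pullback.snd f u) u'),
          IsIso (CohBC.bc0 (pullback.snd f u) u' f'' v' h.w
            ((Scheme.Modules.pullback (pullback.fst f u)).obj F))) := by
  have hm := hasModels_baseChange hfp hfl u
  have hF' := QCoh.isQCoh_pullback (pullback.fst f u) (QCoh.isQCoh_of_isFP hfp)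
  constructor
  · intro h
    refine ⟨fun t => ?_, fun X'' T' v' f'' u' hsq => isIso_bc0_of_goodNhd hsq hF' fun z => (h (u' z)).1⟩
    obtain ⟨W, n, hx, ⟨e⟩⟩ := isFinLocFree_of_restrict_top
      (isFinLocFree_push_restrict hm hF' ⊤ fun z _ => (h z).1) t
    obtain rfl : n = r := (fiberRank_eq_of_free hF' e hx (h t).1).symm.trans (h t).2
    exact ⟨W, hx, ⟨e⟩⟩
  · rintro ⟨hfree, hbc⟩ t
    haveI := hbc _ _ _ (isPullback_fiber (pullback.snd f u) t)
    have hg := (epi_fibre_bc0_iff_goodNhd hm hF' t).1 inferInstance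
    obtain ⟨W, hx, ⟨e⟩⟩ := hfree t
    exact ⟨hg, fiberRank_eq_of_free hF' e hx hg⟩

end Groth.Agent.CExt24
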